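/-
A stem extension whose kernel bounds the kernels of the perfect central extensions is a Schur
cover.
-/
import Cfsg.Agent.SLMult.PSL
import Cfsg.Prelude.Def_KGroupFacts

set_option autoImplicit false

namespace CfsgLib.DMult

open Subgroup
open scoped commutatorElement

universe u

variable {G Δ : Type u} [Group G] [Group Δ] [Finite Δ]

/-- A central extension of a perfect central extension is central, when perfect. -/
theorem comp_ker_le_center {E : Type u} [Group E] (f : E →* Δ) (hc : f.ker ≤ center E)
    (τ : Δ →* G) (hτ : τ.ker ≤ center Δ) (hperf : commutator E = ⊤) :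
    (τ.comp f).ker ≤ center E := by
  intro z hz
  have hcen : ∀ g, g * f z = f z * g := mem_center_iff.1 (hτ hz)
  have key : commutator E ≤ centralizer {z} := by
    rw [_root_.commutator_def, commutator_le]
    intro a _ b _
    refine mem_centralizer_singleton_iff.2 ?_
    have e : z * ⁅a, b⁆ * z⁻¹ = ⁅a, b⁆ := by
      rw [show z * ⁅a, b⁆ * z⁻¹ = ⁅z * a * z⁻¹, z * b * z⁻¹⁆ by
        rw [commutatorElement_def, commutatorElement_def]; group]
      refine SLMult.commutator_congr hc ?_ ?_ <;>
        rw [map_mul, map_mul, map_inv, ← hcen, mul_inv_cancel_right]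
    exact (mul_inv_eq_iff_eq_mul.1 e).symm
  rw [hperf] at key
  exact mem_center_iff.2 fun y => mem_centralizer_singleton_iff.1 (key (mem_top y))

/-- A perfect stem extension with the largest kernel gives the multiplier. -/
theorem hasSchurMultiplier_of_bound (τ : Δ →* G) (hs : Function.Surjective τ)
    (hc : τ.ker ≤ center Δ) (hperf : commutator Δ = ⊤)
    (hbound : ∀ (E : Type u) [Group E] [Finite E] (π : E →* G), Function.Surjective π →
      π.ker ≤ center E → commutator E = ⊤ → Nat.card π.ker ≤ Nat.card τ.ker)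
    {A : Type} [CommGroup A] (e : τ.ker ≃* A) : Cfsg.HasSchurMultiplier G A := by
  have hτ : Cfsg.IsStemExtension τ := ⟨hs, hc, by rw [hperf]; exact le_top⟩
  refine ⟨⟨Δ, inferInstance, inferInstance, τ, hτ, ⟨e⟩⟩, fun Γ _ _ σ hσ => ?_⟩
  have hsurjP := Schur.psnd_surjective σ τ hσ.1
  have hcP := SLMult.psnd_ker_le_center σ τ hσ.2.1
  obtain ⟨hfs, hfc, hfd⟩ := SLMult.derived_stem _ hsurjP hcP hperf
  set f := (Schur.psnd σ τ).comp (commutator (Schur.pullback σ τ)).subtype
  have hperf' : commutator (commutator (Schur.pullback σ τ)) = ⊤ := by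
    refine eq_top_iff.2 fun y _ => ?_
    obtain ⟨c, hc', ec⟩ : f y ∈ (commutator (commutator (Schur.pullback σ τ))).map f := by
      rw [Schur.map_commutator_of_surjective f hfs, hperf]; trivial
    have := mul_mem hc' (hfd (show c⁻¹ * y ∈ f.ker by
      rw [MonoidHom.mem_ker, map_mul, map_inv, ec, inv_mul_cancel]))
    rwa [mul_inv_cancel_left] at this
  have hle := hbound _ (τ.comp f) (hs.comp hfs) (comp_ker_le_center f hfc τ hc hperf') hperf'
  have hinj : Function.Injective f := by
    let r : (τ.comp f).ker →* τ.ker :=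
      (f.comp (τ.comp f).ker.subtype).codRestrict τ.ker fun x => x.2
    have hr : Function.Surjective r := fun d => by
      obtain ⟨x, hx⟩ := hfs d.1
      exact ⟨⟨x, show τ (f x) = 1 by rw [hx]; exact d.2⟩, Subtype.ext hx⟩
    have hbij := (Nat.bijective_iff_surjective_and_card r).2
      ⟨hr, le_antisymm hle (Nat.card_le_card_of_surjective r hr)⟩
    rw [injective_iff_map_eq_one]
    intro x hx
    have hx' : x ∈ (τ.comp f).ker := show τ (f x) = 1 by rw [hx, map_one]
    have h1 : (⟨x, hx'⟩ : (τ.comp f).ker) = 1 := hbij.1 (by rw [map_one]; exact Subtype.ext hx)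
    exact congrArg Subtype.val h1
  let g := MulEquiv.ofBijective f ⟨hinj, hfs⟩
  obtain ⟨φ, hφ⟩ := SLMult.ker_bound hσ hs
    ((commutator (Schur.pullback σ τ)).subtype.comp g.symm.toMonoidHom)
    (fun d => g.apply_symm_apply d)
  exact ⟨φ.comp e.symm.toMonoidHom, hφ.comp e.symm.surjective⟩

end CfsgLib.DMult
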