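/-
Root groups of non-degenerate subspaces of a quadratic space, and vectors of a given value
orthogonal to small subspaces.
-/
import Cfsg.Agent.Quad.SimpleOmega
import Cfsg.Agent.Quad.OmegaMem

set_option autoImplicit false

namespace CfsgLib.Aniso

open QuadraticMap Subgroup
open CfsgLib.Forms
open CfsgLib.Quad

variable {F V : Type*} [Field F] [AddCommGroup V] [Module F V]

/-- A subspace meeting its orthogonal space only in zero. -/
def NonDeg (Q : QuadraticForm F V) (W : Submodule F V) : Prop := Disjoint W (perpS Q W)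

/-- The Siegel transformations of a subspace. -/
noncomputable def SG (Q : QuadraticForm F V) (W : Submodule F V) : Subgroup (oGroup Q) :=
  closure {g | ∃ e ∈ W, ∃ a ∈ W, Q e = 0 ∧ polar Q e a = 0 ∧ g = siegel Q e a}

variable {Q : QuadraticForm F V} {W W' : Submodule F V}

theorem siegel_mem_SG {e a : V} (he : e ∈ W) (ha : a ∈ W) (h0 : Q e = 0)
    (hea : polar Q e a = 0) : siegel Q e a ∈ SG Q W :=
  subset_closure ⟨e, he, a, ha, h0, hea, rfl⟩

theorem SG_mono (h : W ≤ W') : SG Q W ≤ SG Q W' :=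
  closure_mono fun _ ⟨e, he, a, ha, r⟩ => ⟨e, h he, a, h ha, r⟩

theorem SG_conj {g : oGroup Q} (hg : ∀ w ∈ W, g.1 w ∈ W') {x : oGroup Q} (hx : x ∈ SG Q W) :
    g * x * g⁻¹ ∈ SG Q W' := by
  induction hx using closure_induction with
  | mem x hx =>
    obtain ⟨e, he, a, ha, h0, hea, rfl⟩ := hx
    rw [siegel_conj g h0 hea]
    exact siegel_mem_SG (hg e he) (hg a ha) (by rw [g.2]; exact h0) (by rw [polar_oGroup]; exact hea)
  | one => simp [one_mem]
  | mul x y _ _ ihx ihy =>
    rw [show g * (x * y) * g⁻¹ = (g * x * g⁻¹) * (g * y * g⁻¹) by group]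
    exact mul_mem ihx ihy
  | inv x _ ih =>
    rw [show g * x⁻¹ * g⁻¹ = (g * x * g⁻¹)⁻¹ by group]
    exact inv_mem ih

/-- The orthogonal space is fixed pointwise. -/
theorem SG_fix {x : oGroup Q} (hx : x ∈ SG Q W) {v : V} (hv : v ∈ perpS Q W) : x.1 v = v := by
  induction hx using closure_induction with
  | mem x hx =>
    obtain ⟨e, he, a, ha, h0, hea, rfl⟩ := hx
    rw [siegel_apply h0 hea, polar_comm Q v e, polar_comm Q v a, hv e he, hv a ha]
    simp
  | one => rfl
  | mul x y _ _ ihx ihy =>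
    show x.1 (y.1 v) = v
    rw [ihy, ihx]
  | inv x _ ih =>
    show x.1.symm v = v
    rw [LinearEquiv.symm_apply_eq, ih]

theorem SG_maps {x : oGroup Q} (hx : x ∈ SG Q W) {v : V} (hv : v ∈ W) : x.1 v ∈ W := by
  suffices ∀ w ∈ W, x.1 w ∈ W ∧ x.1.symm w ∈ W from (this v hv).1
  induction hx using closure_induction with
  | mem x hx =>
    obtain ⟨e, he, a, ha, h0, hea, rfl⟩ := hx
    refine fun w hw => ⟨?_, ?_⟩
    · rw [siegel_apply h0 hea]
      exact W.sub_mem (W.add_mem hw (W.smul_mem _ ha)) (W.smul_mem _ he)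
    · show ((siegel Q e a)⁻¹).1 w ∈ W
      rw [siegel_inv h0 hea, siegel_apply h0 (by rw [polar_neg_right, hea, neg_zero])]
      exact W.sub_mem (W.add_mem hw (W.smul_mem _ (W.neg_mem ha))) (W.smul_mem _ he)
  | one => exact fun w hw => ⟨hw, hw⟩
  | mul p r _ _ ihp ihr =>
    exact fun w hw => ⟨(ihp _ (ihr w hw).1).1, (ihr _ (ihp w hw).2).2⟩
  | inv p _ ihp => exact fun w hw => ⟨(ihp w hw).2, (ihp w hw).1⟩

variable [FiniteDimensional F V]

theorem NonDeg.isCompl (hQ : (polarBilin Q).Nondegenerate) (h : NonDeg Q W) :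
    IsCompl W (perpS Q W) :=
  (Submodule.isCompl_iff_disjoint W (perpS Q W) (by rw [← finrank_perpS hQ W])).2 h

theorem NonDeg.perp (hQ : (polarBilin Q).Nondegenerate) (h : NonDeg Q W) :
    NonDeg Q (perpS Q W) := by
  rw [NonDeg, perpS_perpS hQ]
  exact h.symm

theorem NonDeg.res (hQ : (polarBilin Q).Nondegenerate) (h : NonDeg Q W) :
    (polarBilin (Q.comp W.subtype)).Nondegenerate := by
  have hp : ∀ a b : W, polar (Q.comp W.subtype) a b = polar Q (a : V) b := fun _ _ => rfl
  have key : ∀ a : W, (∀ b : W, polar Q (a : V) b = 0) → a = 0 := fun a ha =>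
    Subtype.ext (Submodule.disjoint_def.1 h a a.2 fun b hb => by
      rw [polar_comm]; exact ha ⟨b, hb⟩)
  exact ⟨fun a ha => key a fun b => (hp a b).symm.trans (ha b),
    fun b hb => key b fun a => by rw [polar_comm, ← hp]; exact hb a⟩

/-- The pointwise extension of an isometry of a non-degenerate subspace. -/
noncomputable def extEquiv (hc : IsCompl W (perpS Q W)) (g : W ≃ₗ[F] W) : V ≃ₗ[F] V :=
  (Submodule.prodEquivOfIsCompl W (perpS Q W) hc).symm ≪≫ₗ g.prodCongr (LinearEquiv.refl F _) ≪≫ₗ
    Submodule.prodEquivOfIsCompl W (perpS Q W) hc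

omit [FiniteDimensional F V] in
theorem extEquiv_apply (hc : IsCompl W (perpS Q W)) (g : W ≃ₗ[F] W) (a : W) (b : perpS Q W) :
    extEquiv hc g ((a : V) + b) = (g a : V) + b := by
  rw [extEquiv, LinearEquiv.trans_apply, LinearEquiv.trans_apply,
    show ((a : V) + b) = Submodule.prodEquivOfIsCompl W (perpS Q W) hc (a, b) from
      (Submodule.coe_prodEquivOfIsCompl' W (perpS Q W) hc (a, b)).symm,
    LinearEquiv.symm_apply_apply]
  simp

omit [FiniteDimensional F V] in
theorem exists_decomp (hc : IsCompl W (perpS Q W)) (v : V) :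
    ∃ (a : W) (b : perpS Q W), v = (a : V) + b := by
  obtain ⟨a, ha, b, hb, e⟩ := Submodule.mem_sup.1 (hc.sup_eq_top ▸ Submodule.mem_top : v ∈ W ⊔ perpS Q W)
  exact ⟨⟨a, ha⟩, ⟨b, hb⟩, e.symm⟩

omit [FiniteDimensional F V] in
theorem extEquiv_mem (hc : IsCompl W (perpS Q W)) (g : oGroup (Q.comp W.subtype)) :
    extEquiv hc g.1 ∈ oGroup Q := by
  intro v
  obtain ⟨a, b, rfl⟩ := exists_decomp hc v
  rw [extEquiv_apply, quad_add, quad_add, b.2 _ (g.1 a).2, b.2 _ a.2]
  exact congrArg (fun t => t + Q (b : V) + 0) (g.2 a)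

/-- The extension homomorphism. -/
noncomputable def extHom (hc : IsCompl W (perpS Q W)) :
    oGroup (Q.comp W.subtype) →* oGroup Q :=
  MonoidHom.mk' (fun g => ⟨extEquiv hc g.1, extEquiv_mem hc g⟩) fun g h =>
    Subtype.ext (LinearEquiv.ext fun v => by
      obtain ⟨a, b, rfl⟩ := exists_decomp hc v
      show extEquiv hc (g.1 * h.1) _ = extEquiv hc g.1 (extEquiv hc h.1 _)
      rw [extEquiv_apply, extEquiv_apply, extEquiv_apply]
      rfl)

omit [FiniteDimensional F V] in
theorem extHom_apply (hc : IsCompl W (perpS Q W)) (g : oGroup (Q.comp W.subtype)) (a : W)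
    (b : perpS Q W) : (extHom hc g).1 ((a : V) + b) = (g.1 a : V) + b :=
  extEquiv_apply hc g.1 a b

omit [FiniteDimensional F V] in
theorem extHom_mem (hc : IsCompl W (perpS Q W)) (g : oGroup (Q.comp W.subtype)) (a : W) :
    (extHom hc g).1 (a : V) = (g.1 a : V) := by
  simpa using extHom_apply hc g a 0

omit [FiniteDimensional F V] in
theorem eq_extHom (hc : IsCompl W (perpS Q W)) {g : oGroup (Q.comp W.subtype)} {h : oGroup Q}
    (hW : ∀ a : W, h.1 (a : V) = (g.1 a : V)) (hP : ∀ b ∈ perpS Q W, h.1 b = b) :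
    h = extHom hc g := by
  refine Subtype.ext (LinearEquiv.ext fun v => ?_)
  obtain ⟨a, b, rfl⟩ := exists_decomp hc v
  rw [map_add, hW, hP _ b.2, extHom_apply]

omit [FiniteDimensional F V] in
theorem extHom_siegel (hc : IsCompl W (perpS Q W)) {e a : W} (he : Q (e : V) = 0)
    (hea : polar Q (e : V) a = 0) :
    extHom hc (siegel (Q.comp W.subtype) e a) = siegel Q (e : V) a := by
  refine (eq_extHom hc (fun x => ?_) fun b hb => ?_).symm
  · rw [siegel_apply he hea, siegel_apply (Q := Q.comp W.subtype) (by exact he) (by exact hea)]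
    rfl
  · exact SG_fix (siegel_mem_SG e.2 a.2 he hea) hb

omit [FiniteDimensional F V] in
theorem extHom_refl (hc : IsCompl W (perpS Q W)) (d : W) :
    extHom hc (refl (Q.comp W.subtype) d) = refl Q (d : V) := by
  refine (eq_extHom hc (fun x => ?_) fun b hb => ?_).symm
  · rw [refl_apply, refl_apply]
    rfl
  · exact refl_fix (by rw [polar_comm]; exact hb _ d.2)

omit [FiniteDimensional F V] in
theorem SG_eq_map (hc : IsCompl W (perpS Q W)) :
    SG Q W = (siegelGroup (Q.comp W.subtype)).map (extHom hc) := by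
  refine le_antisymm ((closure_le _).2 ?_) ?_
  · rintro _ ⟨e, he, a, ha, h0, hea, rfl⟩
    exact ⟨_, siegel_mem_group (e := (⟨e, he⟩ : W)) (a := ⟨a, ha⟩) h0 hea,
      extHom_siegel hc (e := ⟨e, he⟩) (a := ⟨a, ha⟩) h0 hea⟩
  · rw [siegelGroup, MonoidHom.map_closure]
    refine (closure_le _).2 ?_
    rintro _ ⟨_, ⟨e, a, h0, hea, rfl⟩, rfl⟩
    rw [SetLike.mem_coe, extHom_siegel hc (by exact h0) (by exact hea)]
    exact siegel_mem_SG e.2 a.2 h0 hea

variable [Finite F]

omit [FiniteDimensional F V] in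
/-- The Siegel group of a large non-degenerate subspace is perfect. -/
theorem SG_perfect [FiniteDimensional F V] (hQ : (polarBilin Q).Nondegenerate) (h : NonDeg Q W)
    (hn : 5 ≤ Module.finrank F W) : ⁅SG Q W, SG Q W⁆ = SG Q W := by
  have hres := h.res hQ
  rw [SG_eq_map (h.isCompl hQ), siegelGroup_eq_commutator hres hn, ← map_commutator]
  congr 1
  have hp := commutator_commutator_eq_top hres hn
  conv_rhs => rw [← Subgroup.range_subtype (commutator (oGroup (Q.comp W.subtype))),
    MonoidHom.range_eq_map, ← hp]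
  rw [_root_.commutator_def (↥(commutator (oGroup (Q.comp W.subtype)))), map_commutator,
    ← MonoidHom.range_eq_map, Subgroup.range_subtype]

/-- An element of `Ω` fixing the orthogonal space is in the Siegel group. -/
theorem mem_SG_of_fix (hQ : (polarBilin Q).Nondegenerate) (h : NonDeg Q W)
    (hn : 5 ≤ Module.finrank F W) {g : oGroup Q} (hg : g ∈ commutator (oGroup Q))
    (hfix : ∀ b ∈ perpS Q W, g.1 b = b) : g ∈ SG Q W := by
  have hW : ∀ a ∈ W, g.1 a ∈ W := fun a ha => by
    rw [← perpS_perpS hQ W]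
    intro b hb
    rw [← hfix b hb, polar_oGroup, polar_comm]
    exact hb a ha
  have hinj : Function.Injective (g.1.toLinearMap.restrict hW) := fun a b e =>
    Subtype.ext (g.1.injective (congrArg Subtype.val e))
  let r : oGroup (Q.comp W.subtype) :=
    ⟨LinearEquiv.ofBijective (g.1.toLinearMap.restrict hW) ⟨hinj, LinearMap.injective_iff_surjective.1 hinj⟩,
      fun a => g.2 (a : V)⟩
  have hc := h.isCompl hQ
  have e : g = extHom hc r := eq_extHom hc (fun a => rfl) hfix
  have hres := h.res hQ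
  obtain ⟨vs, hvs, hr⟩ := exists_reflProd hres (Or.inr (by omega)) r
  have hmap : ∀ l : List W, extHom hc (reflProd (Q.comp W.subtype) l) =
      reflProd Q (l.map Subtype.val) := by
    intro l
    induction l with
    | nil => rw [reflProd_nil, map_one]; rfl
    | cons d l ih => rw [reflProd_cons, map_mul, ih, extHom_refl, List.map_cons, reflProd_cons]
  rw [e, hr, hmap] at hg
  have hle : Module.finrank F W ≤ Module.finrank F V := Submodule.finrank_le W
  rw [reflProd_mem_commutator_iff hQ (Or.inr (by omega)) (by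
      intro v hv
      obtain ⟨d, hd, rfl⟩ := List.mem_map.1 hv
      exact hvs d hd), List.length_map, List.map_map] at hg
  rw [e, SG_eq_map hc, siegelGroup_eq_commutator hres hn]
  refine mem_map_of_mem _ ?_
  rw [hr, reflProd_mem_commutator_iff hres (Or.inr (by omega)) hvs]
  exact hg

/-- The orthogonal space of a small subspace is its radical plus a non-degenerate part. -/
theorem exists_radical_compl (hQ : (polarBilin Q).Nondegenerate) (U : Submodule F V)
    (hU : Module.finrank F U + Module.finrank F ↥(U ⊓ perpS Q U) + 2 ≤ Module.finrank F V) :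
    ∃ W0 ≤ perpS Q U, NonDeg Q W0 ∧ 2 ≤ Module.finrank F W0 ∧
      ∀ k ∈ perpS Q U, ∃ r ∈ U ⊓ perpS Q U, ∃ p ∈ W0, k = r + p := by
  obtain ⟨C, hC⟩ := Submodule.exists_isCompl (U ⊓ perpS Q U)
  have hle : U ⊓ perpS Q U ≤ perpS Q U := inf_le_right
  set W0 := perpS Q U ⊓ C with hW0
  have hsup : (U ⊓ perpS Q U) ⊔ W0 = perpS Q U := by
    rw [hW0, inf_comm (perpS Q U) C, ← sup_inf_assoc_of_le C hle, hC.sup_eq_top, top_inf_eq]
  have hinf : (U ⊓ perpS Q U) ⊓ W0 = ⊥ :=
    le_bot_iff.1 ((inf_le_inf_left _ inf_le_right).trans hC.inf_eq_bot.le)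
  have hdec : ∀ k ∈ perpS Q U, ∃ r ∈ U ⊓ perpS Q U, ∃ p ∈ W0, k = r + p := fun k hk => by
    rw [← hsup] at hk
    obtain ⟨r, hr, p, hp, rfl⟩ := Submodule.mem_sup.1 hk
    exact ⟨r, hr, p, hp, rfl⟩
  refine ⟨W0, inf_le_left, ?_, ?_, hdec⟩
  · refine Submodule.disjoint_def.2 fun a ha ha' => ?_
    have h1 : a ∈ U := by
      rw [← perpS_perpS hQ U]
      intro b hb
      obtain ⟨p, hp, r, hr, rfl⟩ := hdec b hb
      rw [polar_add_left, ha' r hr, add_zero]
      exact ha.1 p hp.1
    have : a ∈ (U ⊓ perpS Q U) ⊓ W0 := ⟨⟨h1, ha.1⟩, ha⟩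
    rw [hinf] at this
    exact this
  · have h1 := Submodule.finrank_sup_add_finrank_inf_eq (U ⊓ perpS Q U) W0
    rw [hsup, hinf, finrank_bot] at h1
    have h3 := finrank_perpS hQ U
    omega

/-- A subspace of small dimension and small radical is orthogonal to vectors of every value. -/
theorem exists_rep (hQ : (polarBilin Q).Nondegenerate) (h2 : (2 : F) ≠ 0) (U : Submodule F V)
    (hU : Module.finrank F U + Module.finrank F ↥(U ⊓ perpS Q U) + 2 ≤ Module.finrank F V)
    (c : F) : ∃ z ∈ perpS Q U, Q z = c := by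
  obtain ⟨W0, hle, hnd, hdim, -⟩ := exists_radical_compl hQ U hU
  obtain ⟨z, hz⟩ := exists_value (hnd.res hQ) h2 hdim c
  exact ⟨z, hle z.2, hz⟩

omit [FiniteDimensional F V] [Finite F] in
/-- Two vectors of the same value span a non-degenerate space unless their product is extreme. -/
theorem nonDeg_pair (h2 : (2 : F) ≠ 0) {v w : V} {c : F} (hv : Q v = c) (hw : Q w = c)
    (h : polar Q v w * polar Q v w ≠ 4 * c * c) :
    NonDeg Q (Submodule.span F (Set.range ![v, w])) := by
  refine Submodule.disjoint_def.2 fun a ha ha' => ?_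
  obtain ⟨f, rfl⟩ := (Submodule.mem_span_range_iff_exists_fun F).1 ha
  have e1 := ha' v (Submodule.subset_span ⟨0, rfl⟩)
  have e2 := ha' w (Submodule.subset_span ⟨1, rfl⟩)
  simp only [Fin.sum_univ_two, Matrix.cons_val_zero, Matrix.cons_val_one, polar_add_right,
    polar_smul_right, polar_self, hv, hw, polar_comm Q w v, two_nsmul, smul_eq_mul] at e1 e2
  set p := polar Q v w
  have hne : p * p - 4 * c * c ≠ 0 := sub_ne_zero.2 h
  have f0 : (p * p - 4 * c * c) * f 0 = 0 := by linear_combination p * e2 - 2 * c * e1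
  have f1 : (p * p - 4 * c * c) * f 1 = 0 := by linear_combination p * e1 - 2 * c * e2
  simp [Fin.sum_univ_two, (mul_eq_zero.1 f0).resolve_left hne, (mul_eq_zero.1 f1).resolve_left hne]

omit [FiniteDimensional F V] [Finite F] in
/-- Orthogonal vectors of the same value span a non-degenerate space. -/
theorem nonDeg_orth (h2 : (2 : F) ≠ 0) {v w : V} {c : F} (hc : c ≠ 0) (hv : Q v = c) (hw : Q w = c)
    (h : polar Q v w = 0) : NonDeg Q (Submodule.span F (Set.range ![v, w])) :=
  nonDeg_pair h2 hv hw (by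
    rw [h, mul_zero, show (4 : F) = 2 * 2 by ring]
    exact (mul_ne_zero (mul_ne_zero (mul_ne_zero h2 h2) hc) hc).symm)

/-- The orthogonal space of a non-degenerate span of two vectors. -/
theorem perp_span_pair_facts (hQ : (polarBilin Q).Nondegenerate) {v w : V}
    (h : NonDeg Q (Submodule.span F (Set.range ![v, w]))) :
    NonDeg Q (perpS Q (Submodule.span F (Set.range ![v, w]))) ∧
      Module.finrank F V ≤ Module.finrank F (perpS Q (Submodule.span F (Set.range ![v, w]))) + 2 := by
  refine ⟨h.perp hQ, ?_⟩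
  have h1 := finrank_perpS hQ (Submodule.span F (Set.range ![v, w]))
  have hU : Module.finrank F (Submodule.span F (Set.range ![v, w])) ≤ 2 :=
    (finrank_range_le_card _).trans (by simp)
  omega

/-- Two vectors of value `c` orthogonal to two vectors are joined through a third one. -/
theorem exists_link (hQ : (polarBilin Q).Nondegenerate) (h2 : (2 : F) ≠ 0)
    (hN : 7 ≤ Module.finrank F V) {c : F} (hc : c ≠ 0)
    (hs : ∃ s : F, s ≠ 0 ∧ 4 * s * s ≠ 1) {x y v w : V} (hv : Q v = c) (hw : Q w = c)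
    (hxv : polar Q x v = 0) (hxw : polar Q x w = 0) (hyv : polar Q y v = 0) (hyw : polar Q y w = 0) :
    ∃ z, Q z = c ∧ polar Q x z = 0 ∧ polar Q y z = 0 ∧
      NonDeg Q (Submodule.span F (Set.range ![v, z])) ∧
      NonDeg Q (Submodule.span F (Set.range ![w, z])) := by
  set p := polar Q v w with hp
  have h2c : 2 * c ≠ 0 := mul_ne_zero h2 hc
  by_cases hpp : p * p = 4 * c * c
  swap
  · exact ⟨v, hv, hxv, hyv, Submodule.disjoint_def.2 fun a ha ha' => by
      obtain ⟨f, rfl⟩ := (Submodule.mem_span_range_iff_exists_fun F).1 ha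
      have e1 := ha' v (Submodule.subset_span ⟨0, rfl⟩)
      simp only [Fin.sum_univ_two, Matrix.cons_val_zero, Matrix.cons_val_one, ← add_smul,
        polar_smul_right, polar_self, hv, two_nsmul, ← two_mul, smul_eq_mul, mul_eq_zero,
        or_iff_left (show ¬((2 : F) = 0 ∨ c = 0) by simp [h2, hc])] at e1
      simp [Fin.sum_univ_two, ← add_smul, e1],
      nonDeg_pair h2 hw hv (by rw [polar_comm, ← hp]; exact hpp)⟩
  set t := p / (2 * c) with ht
  set n := w + (-t) • v with hn
  have hQn : Q n = 0 := by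
    rw [hn, quad_add, quad_smul, hv, hw, polar_smul_right, polar_comm Q w v, ← hp, smul_eq_mul, ht]
    field_simp
    linear_combination -hpp
  have hvn : polar Q v n = 0 := by
    rw [hn, polar_add_right, polar_smul_right, polar_self, hv, ← hp, two_nsmul, ← two_mul, smul_eq_mul,
      ht, neg_mul, div_mul_cancel₀ _ h2c, add_neg_cancel]
  set U := Submodule.span F (Set.range ![x, y, v])
  have hvU : v ∈ U := Submodule.subset_span ⟨2, rfl⟩
  have hxU : x ∈ U := Submodule.subset_span ⟨0, rfl⟩
  have hyU : y ∈ U := Submodule.subset_span ⟨1, rfl⟩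
  have hlt : U ⊓ perpS Q U < U := by
    refine lt_of_le_of_ne inf_le_left fun e => ?_
    have : polar Q v v = 0 := (e.symm ▸ hvU : v ∈ U ⊓ perpS Q U).2 v hvU
    rw [polar_self, two_nsmul, ← two_mul, hv] at this
    exact h2c this
  have hU : Module.finrank F U ≤ 3 := (finrank_range_le_card _).trans (by simp)
  have hr := Submodule.finrank_lt_finrank_of_lt hlt
  obtain ⟨W0, hle, hnd, hdim, hdec⟩ := exists_radical_compl hQ U (by omega)
  have hnU : n ∈ perpS Q U := by
    intro a ha
    induction ha using Submodule.span_induction with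
    | mem a ha =>
      obtain ⟨i, rfl⟩ := ha
      fin_cases i
      · simp [hn, polar_add_right, polar_smul_right, hxv, hxw]
      · simp [hn, polar_add_right, polar_smul_right, hyv, hyw]
      · exact hvn
    | zero => exact polar_zero_left Q n
    | add a b _ _ ia ib => rw [polar_add_left, ia, ib, add_zero]
    | smul r a _ ia => rw [polar_smul_left, ia, smul_zero]
  obtain ⟨r, hr', m, hm, hnrm⟩ := hdec n hnU
  have hQr : Q r = 0 := by
    have h := hr'.2 r hr'.1
    rw [polar_self, two_nsmul, ← two_mul] at h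
    exact (mul_eq_zero.1 h).resolve_left h2
  have hrz : ∀ z ∈ W0, polar Q r z = 0 := fun z hz => hle hz r hr'.1
  have hQm : Q m = 0 := by
    rw [hnrm, quad_add, hQr, hrz m hm, zero_add, add_zero] at hQn
    exact hQn
  obtain ⟨z, hz, hQz, hzm⟩ : ∃ z ∈ W0, Q z = c ∧ polar Q z m * polar Q z m ≠ 4 * c * c := by
    by_cases hm0 : m = 0
    · obtain ⟨z, hz⟩ := exists_value (hnd.res hQ) h2 hdim c
      refine ⟨z, z.2, hz, ?_⟩
      rw [hm0, polar_zero_right, mul_zero, show (4 : F) = 2 * 2 by ring]
      exact (mul_ne_zero (mul_ne_zero (mul_ne_zero h2 h2) hc) hc).symm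
    obtain ⟨⟨y', hy'⟩, hne⟩ := exists_polar_ne (hnd.res hQ) (x := (⟨m, hm⟩ : W0))
      (fun e => hm0 (congrArg Subtype.val e))
    change polar Q m y' ≠ 0 at hne
    set g := (polar Q m y')⁻¹ • y' with hg
    have hmg : polar Q m g = 1 := by
      rw [hg, polar_smul_right, smul_eq_mul, inv_mul_cancel₀ hne]
    have hmm : polar Q m m = 0 := by rw [polar_self, hQm, smul_zero]
    set f := g + (-Q g) • m with hf
    have hQf : Q f = 0 := by
      rw [hf, quad_add, quad_smul Q (-Q g) m, hQm, polar_smul_right, polar_comm Q g m, hmg, smul_eq_mul]; ring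
    have hmf : polar Q m f = 1 := by
      rw [hf, polar_add_right, hmg, polar_smul_right, hmm, smul_zero, add_zero]
    obtain ⟨s, hs0, hs1⟩ := hs
    refine ⟨s • m + (c / s) • f, add_mem (W0.smul_mem _ hm)
      (W0.smul_mem _ (add_mem (W0.smul_mem _ hy') (W0.smul_mem _ hm))), ?_, ?_⟩
    · rw [quad_add, quad_smul, quad_smul, hQm, hQf, polar_smul_left, polar_smul_right, hmf,
        smul_eq_mul, smul_eq_mul]
      field_simp
      ring
    · rw [polar_add_left, polar_smul_left, polar_smul_left, hmm, polar_comm Q f m, hmf, smul_eq_mul,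
        smul_eq_mul, mul_zero, mul_one, zero_add]
      intro e
      field_simp at e
      exact hs1 (by linear_combination -e)
  have hzU := hle hz
  have hvz : polar Q v z = 0 := hzU v hvU
  refine ⟨z, hQz, hzU x hxU, hzU y hyU, nonDeg_orth h2 hc hv hQz hvz, nonDeg_pair h2 hw hQz ?_⟩
  rw [show w = n + t • v by rw [hn, neg_smul, neg_add_cancel_right], hnrm, polar_add_left,
    polar_add_left, hrz z hz, polar_smul_left, hvz, smul_zero, add_zero, zero_add, polar_comm Q m z]
  exact hzm

/-- Three vectors have a common orthogonal vector of each value. -/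
theorem exists_perp3 (hQ : (polarBilin Q).Nondegenerate) (h2 : (2 : F) ≠ 0)
    (hN : 8 ≤ Module.finrank F V) (c : F) (a b d : V) :
    ∃ z, Q z = c ∧ polar Q a z = 0 ∧ polar Q b z = 0 ∧ polar Q d z = 0 := by
  set U := Submodule.span F (Set.range ![a, b, d])
  have hU : Module.finrank F U ≤ 3 := (finrank_range_le_card _).trans (by simp)
  have hr : Module.finrank F ↥(U ⊓ perpS Q U) ≤ Module.finrank F U :=
    Submodule.finrank_mono inf_le_left
  obtain ⟨z, hz, e⟩ := exists_rep hQ h2 U (by omega) c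
  exact ⟨z, e, hz a (Submodule.subset_span ⟨0, rfl⟩), hz b (Submodule.subset_span ⟨1, rfl⟩),
    hz d (Submodule.subset_span ⟨2, rfl⟩)⟩

/-- Four vectors, one of them anisotropic, have a common orthogonal vector of each value. -/
theorem exists_perp4 (hQ : (polarBilin Q).Nondegenerate) (h2 : (2 : F) ≠ 0)
    (hN : 9 ≤ Module.finrank F V) (c : F) (a b d v : V) (hv : Q v ≠ 0) :
    ∃ z, Q z = c ∧ polar Q a z = 0 ∧ polar Q b z = 0 ∧ polar Q d z = 0 ∧ polar Q v z = 0 := by
  set U := Submodule.span F (Set.range ![a, b, d, v])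
  have hU : Module.finrank F U ≤ 4 := (finrank_range_le_card _).trans (by simp)
  have hvU : v ∈ U := Submodule.subset_span ⟨3, rfl⟩
  have hlt : U ⊓ perpS Q U < U := by
    refine lt_of_le_of_ne inf_le_left fun e => ?_
    have : polar Q v v = 0 := (e.symm ▸ hvU : v ∈ U ⊓ perpS Q U).2 v hvU
    rw [polar_self, two_nsmul, ← two_mul, mul_eq_zero] at this
    exact hv (this.resolve_left h2)
  have hr := Submodule.finrank_lt_finrank_of_lt hlt
  obtain ⟨z, hz, e⟩ := exists_rep hQ h2 U (by omega) c
  exact ⟨z, e, hz a (Submodule.subset_span ⟨0, rfl⟩), hz b (Submodule.subset_span ⟨1, rfl⟩),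
    hz d (Submodule.subset_span ⟨2, rfl⟩), hz v hvU⟩

/-- The Siegel group is transitive on non-zero singular vectors. -/
theorem exists_siegel_singular (hQ : (polarBilin Q).Nondegenerate) (h2 : (2 : F) ≠ 0)
    (hN : 5 ≤ Module.finrank F V) {u v : V} (hu0 : u ≠ 0) (hv0 : v ≠ 0) (hu : Q u = 0)
    (hv : Q v = 0) : ∃ h ∈ siegelGroup Q, h.1 u = v := by
  have key : ∀ u v, Q u = 0 → Q v = 0 → polar Q u v ≠ 0 → ∃ h ∈ siegelGroup Q, h.1 u = v := by
    intro u v hu hv huv
    set β := polar Q u v with hβ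
    have huu : polar Q u u = 0 := by rw [polar_self, hu, smul_zero]
    have hvv : polar Q v v = 0 := by rw [polar_self, hv, smul_zero]
    set U := Submodule.span F (Set.range ![u, v])
    have hU : Module.finrank F U ≤ 2 := (finrank_range_le_card _).trans (by simp)
    have hbot : U ⊓ perpS Q U = ⊥ := by
      refine (Submodule.eq_bot_iff _).2 fun a ha => ?_
      obtain ⟨hm, hp⟩ := ha
      have hm' : a ∈ Submodule.span F ({u, v} : Set V) := by
        simpa [U, Matrix.range_cons, Matrix.range_empty, Set.pair_comm] using hm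
      obtain ⟨p, r, rfl⟩ := Submodule.mem_span_pair.1 hm'
      have e1 := hp u (Submodule.subset_span ⟨0, rfl⟩)
      have e2 := hp v (Submodule.subset_span ⟨1, rfl⟩)
      rw [polar_add_right, polar_smul_right, polar_smul_right, huu, smul_zero, zero_add,
        smul_eq_mul, ← hβ, mul_eq_zero] at e1
      rw [polar_add_right, polar_smul_right, polar_smul_right, hvv, smul_zero, add_zero,
        smul_eq_mul, polar_comm, ← hβ, mul_eq_zero] at e2
      rw [e1.resolve_right huv, e2.resolve_right huv]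
      simp
    obtain ⟨k, hk, hQk⟩ := exists_rep hQ h2 U (by rw [hbot, finrank_bot]; omega) (-β⁻¹)
    have hku : polar Q u k = 0 := hk u (Submodule.subset_span ⟨0, rfl⟩)
    have hkv : polar Q v k = 0 := hk v (Submodule.subset_span ⟨1, rfl⟩)
    set w := β⁻¹ • (u + v) + k with hw
    have hwu : polar Q u w = 1 := by
      rw [hw, polar_add_right, polar_smul_right, polar_add_right, huu, hku, ← hβ, zero_add, add_zero,
        smul_eq_mul, inv_mul_cancel₀ huv]
    have hwv : polar Q v w = 1 := by
      rw [hw, polar_add_right, polar_smul_right, polar_add_right, hvv, hkv, polar_comm Q v u, ← hβ,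
        add_zero, add_zero, smul_eq_mul, inv_mul_cancel₀ huv]
    have hQw : Q w = 0 := by
      rw [hw, quad_add, quad_smul, quad_add, hu, hv, ← hβ, hQk, polar_smul_left, polar_add_left,
        hku, hkv, add_zero, smul_zero, add_zero, zero_add, mul_assoc,
        inv_mul_cancel₀ huv, mul_one, add_neg_cancel]
    have hwa : polar Q w (v - u) = 0 := by
      rw [polar_sub_right, polar_comm Q w v, polar_comm Q w u, hwu, hwv, sub_self]
    refine ⟨siegel Q w (v - u), siegel_mem_group hQw hwa, ?_⟩
    have h := quad_add Q u (v - u)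
    rw [add_sub_cancel, hu, hv, zero_add] at h
    rw [siegel_apply hQw hwa, hwu, mul_one, one_smul, show polar Q u (v - u) + Q (v - u) = 0 by
      linear_combination -h, zero_smul, sub_zero, add_sub_cancel]
  obtain ⟨x, hx, hux, hvx⟩ := exists_common_nonorth hQ hN hu0 hv0 hu hv
  obtain ⟨h1, m1, e1⟩ := key u x hu hx hux
  obtain ⟨h3, m3, e3⟩ := key x v hx hv (by rwa [polar_comm])
  exact ⟨h3 * h1, mul_mem m3 m1, by show h3.1 (h1.1 u) = v; rw [e1, e3]⟩

/-- The Siegel group of a subspace is transitive on its non-zero singular vectors. -/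
theorem SG_trans (hQ : (polarBilin Q).Nondegenerate) (h2 : (2 : F) ≠ 0) (h : NonDeg Q W)
    (hn : 5 ≤ Module.finrank F W) {u v : V} (hu : u ∈ W) (hv : v ∈ W) (hu0 : u ≠ 0) (hv0 : v ≠ 0)
    (hQu : Q u = 0) (hQv : Q v = 0) : ∃ g ∈ SG Q W, g.1 u = v := by
  obtain ⟨g, hg, e⟩ := exists_siegel_singular (h.res hQ) h2 hn (u := ⟨u, hu⟩) (v := ⟨v, hv⟩)
    (fun e => hu0 (congrArg Subtype.val e)) (fun e => hv0 (congrArg Subtype.val e)) hQu hQv
  refine ⟨extHom (h.isCompl hQ) g, SG_eq_map (h.isCompl hQ) ▸ mem_map_of_mem _ hg, ?_⟩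
  rw [extHom_mem (h.isCompl hQ) g ⟨u, hu⟩, e]

omit [FiniteDimensional F V] [Finite F] in
theorem mem_perp_pair {a b x : V} :
    x ∈ perpS Q (Submodule.span F (Set.range ![a, b])) ↔ polar Q a x = 0 ∧ polar Q b x = 0 := by
  refine ⟨fun h => ⟨h a (Submodule.subset_span ⟨0, rfl⟩), h b (Submodule.subset_span ⟨1, rfl⟩)⟩, ?_⟩
  rintro ⟨ha, hb⟩ y hy
  induction hy using Submodule.span_induction with
  | mem y hy => obtain ⟨i, rfl⟩ := hy; fin_cases i <;> assumption
  | zero => exact polar_zero_left Q x
  | add y z _ _ iy iz => rw [polar_add_left, iy, iz, add_zero]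
  | smul t y _ iy => rw [polar_smul_left, iy, smul_zero]

omit [FiniteDimensional F V] [Finite F] in
theorem mem_perp_single {a x : V} :
    x ∈ perpS Q (Submodule.span F {a}) ↔ polar Q a x = 0 := by
  refine ⟨fun h => h a (Submodule.mem_span_singleton_self a), fun h y hy => ?_⟩
  obtain ⟨t, rfl⟩ := Submodule.mem_span_singleton.1 hy
  rw [polar_smul_left, h, smul_zero]

/-- The orthogonal space of an anisotropic vector. -/
theorem perp_single_facts (hQ : (polarBilin Q).Nondegenerate) (h2 : (2 : F) ≠ 0) {v : V}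
    (hv : Q v ≠ 0) : NonDeg Q (perpS Q (Submodule.span F {v})) ∧
      Module.finrank F (perpS Q (Submodule.span F {v})) + 1 = Module.finrank F V := by
  constructor
  · refine NonDeg.perp hQ (Submodule.disjoint_def.2 fun a ha ha' => ?_)
    obtain ⟨t, rfl⟩ := Submodule.mem_span_singleton.1 ha
    have := ha' v (Submodule.mem_span_singleton_self v)
    rw [polar_smul_right, polar_self, two_nsmul, ← two_mul, smul_eq_mul, mul_eq_zero, mul_eq_zero] at this
    rcases this with h | h | h
    exacts [by rw [h, zero_smul], absurd h h2, absurd h hv]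
  · have h1 := finrank_perpS hQ (Submodule.span F {v})
    rw [finrank_span_singleton (fun e => hv (by rw [e, QuadraticMap.map_zero]))] at h1
    omega

/-- The orthogonal space of two orthogonal anisotropic vectors. -/
theorem perp_pair_facts (hQ : (polarBilin Q).Nondegenerate) (h2 : (2 : F) ≠ 0) {v w : V}
    (hv : Q v ≠ 0) (hw : Q w ≠ 0) (hvw : polar Q v w = 0) :
    NonDeg Q (perpS Q (Submodule.span F (Set.range ![v, w]))) ∧
      Module.finrank F V ≤ Module.finrank F (perpS Q (Submodule.span F (Set.range ![v, w]))) + 2 := by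
  constructor
  · refine NonDeg.perp hQ (Submodule.disjoint_def.2 fun a ha ha' => ?_)
    have hm' : a ∈ Submodule.span F ({v, w} : Set V) := by
      simpa [Matrix.range_cons, Matrix.range_empty, Set.pair_comm] using ha
    obtain ⟨p, r, rfl⟩ := Submodule.mem_span_pair.1 hm'
    obtain ⟨e1, e2⟩ := mem_perp_pair.1 ha'
    rw [polar_add_right, polar_smul_right, polar_smul_right, hvw, smul_zero, add_zero, polar_self,
      two_nsmul, ← two_mul, smul_eq_mul, mul_eq_zero, mul_eq_zero] at e1
    rw [polar_add_right, polar_smul_right, polar_smul_right, polar_comm Q w v, hvw, smul_zero,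
      zero_add, polar_self, two_nsmul, ← two_mul, smul_eq_mul, mul_eq_zero, mul_eq_zero] at e2
    rw [e1.resolve_right (by simp [h2, hv]), e2.resolve_right (by simp [h2, hw])]
    simp
  · have h1 := finrank_perpS hQ (Submodule.span F (Set.range ![v, w]))
    have hU : Module.finrank F (Submodule.span F (Set.range ![v, w])) ≤ 2 :=
      (finrank_range_le_card _).trans (by simp)
    omega

end CfsgLib.Aniso
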