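/-
In a central extension of `Ω` of plus type the lifts of the two Levi factors make the data of a fork.
-/
import Cfsg.Agent.An.DRecog
import Cfsg.Agent.SLMult.PSL

set_option autoImplicit false

namespace CfsgLib.DMult

open Matrix Subgroup
open CfsgLib.An
open CfsgLib.En (SL2 SL3 iU iL iM sl2_gen)
open CfsgLib.QP (up low up_coe low_coe up_mul)
open CfsgLib.Quad (plusQ oGroup)
open scoped commutatorElement

universe u

variable {F : Type u} [Field F] [Finite F] {q : ℕ}

/-- The fork in the orthogonal group. -/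
noncomputable def orthFork (F : Type u) [Field F] [Finite F] (q : ℕ) :
    Fork F (oGroup (plusQ (F := F) (q + 4))) q where
  φ := lv
  b := b0 q
  ψ := psi0 q
  pup t := by
    show lv _ = cjr (fl q) (emb _ _ (iU (up t)))
    rw [emb3_iU fp_ne_fm fp_ne_fl fm_ne_fl, emb2_up, cjr_xt_fix fp_ne_fm fp_ne_fl fm_ne_fl]
  plow t := by
    show lv _ = cjr (fl q) (emb _ _ (iU (low t)))
    rw [emb3_iU fp_ne_fm fp_ne_fl fm_ne_fl, emb2_low, cjr_xt_fix fp_ne_fm.symm fm_ne_fl fp_ne_fl]
  ψL A := by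
    show cjr (fl q) (emb _ _ (iL A)) = cjr (fl q) (emb2 _ A)
    rw [emb3_iL fp_ne_fm fp_ne_fl fm_ne_fl]
  far j k h h' u A := by
    have hjk : j ≠ k := fun e => by subst e; omega
    have key : ∀ x ∈ Set.range (up : F → SL2 F) ∪ Set.range (low : F → SL2 F),
        Commute (lv (xt j k u)) (b0 q x) := by
      intro x hx
      rcases h' with ⟨hj', hk'⟩ | ⟨hj', hk'⟩
      · have hjm := ne_of_low hj'
        have hkm := ne_of_low hk'
        rw [← cjr_xt_fix hjk hjm.2 hkm.2 u]
        show Commute (cjr (fl q) _) (cjr (fl q) (emb2 _ x))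
        refine Commute.map ?_ _
        rcases hx with ⟨t, rfl⟩ | ⟨t, rfl⟩
        · rw [emb2_up]; exact commute_xt hjk fm_ne_fl hjm.2 hkm.1 _ _
        · rw [emb2_low]; exact commute_xt hjk fm_ne_fl.symm hjm.1 hkm.2 _ _
      · have top : (j = fm q ∧ k = fl q) ∨ (j = fl q ∧ k = fm q) := by
          have := j.isLt; have := k.isLt
          simp only [fm, fl, Fin.ext_iff]; omega
        show Commute _ (cjr (fl q) (emb2 _ x))
        rcases top with ⟨rfl, rfl⟩ | ⟨rfl, rfl⟩ <;> rcases hx with ⟨t, rfl⟩ | ⟨t, rfl⟩ <;>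
          simp only [emb2_up, emb2_low]
        exacts [(lv_top_comm fm_ne_fl u t).1, (lv_top_comm fm_ne_fl u t).2.1,
          (lv_top_comm fm_ne_fl u t).2.2.1, (lv_top_comm fm_ne_fl u t).2.2.2]
    have : (⊤ : Subgroup (SL2 F)) ≤ (Subgroup.centralizer {lv (xt j k u)}).comap (b0 q) := by
      rw [← sl2_gen, Subgroup.closure_le]
      exact fun x hx => Subgroup.mem_centralizer_singleton_iff.2 (key x hx).symm.eq
    exact (Subgroup.mem_centralizer_singleton_iff.1 (this (Subgroup.mem_top A))).symm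

/-- Homomorphisms from a perfect group which agree below a central map agree. -/
theorem hom_eq_of_perfect {H : Type*} {Γ O : Type u} [Group H] [Group Γ] [Group O] (π : Γ →* O)
    (hc : π.ker ≤ center Γ) (hH : commutator H = ⊤) {f g : H →* Γ} (h : ∀ x, π (f x) = π (g x)) : f = g := by
  refine MonoidHom.eq_of_eqOn_dense (s := commutatorSet H)
    (by rw [← hH, _root_.commutator_eq_closure]) ?_
  rintro _ ⟨a, b, rfl⟩
  rw [map_commutatorElement, map_commutatorElement]
  exact SLMult.commutator_congr hc (h a) (h b)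

/-- A map of `SL_n` lifts. -/
theorem exists_lift {Γ O : Type u} [Group Γ] [Group O] (π : Γ →* O) (hc : π.ker ≤ center Γ)
    {n : ℕ} (hn : 4 ≤ n) (hexc : ¬(n = 4 ∧ Nat.card F = 2)) (f : SLn n F →* O) (hf : ∀ A, f A ∈ π.range) :
    ∃ s : SLn n F →* Γ, ∀ A, π (s A) = f A := by
  let f' : SLn n F →* π.range := f.codRestrict π.range hf
  have hsurj := Schur.psnd_surjective π.rangeRestrict f' π.rangeRestrict_surjective
  have hcP := SLMult.psnd_ker_le_center π.rangeRestrict f'
    (by rw [MonoidHom.ker_rangeRestrict]; exact hc)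
  let S : SLMult.Ext F n (Schur.pullback π.rangeRestrict f') :=
    { σ := Schur.psnd π.rangeRestrict f', surj := hsurj, central := hcP, three := by omega
      fin := inferInstance
      exc3 := fun e => by omega
      exc4 := fun e h2 => hexc ⟨e, h2⟩ }
  obtain ⟨s, hs⟩ := S.exists_section
  refine ⟨(Schur.pfst π.rangeRestrict f').comp s, fun A => ?_⟩
  have h := congrArg Subtype.val (Schur.mem_pullback.1 (s A).2)
  show π (s A).1.1 = f A
  rw [show π (s A).1.1 = (π.rangeRestrict (s A).1.1).1 from rfl, h,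
    show (s A).1.2 = A from hs A]
  rfl

/-- A central extension with lifts of both Levi factors. -/
structure Lifts (F : Type u) [Field F] [Finite F] (q : ℕ) (Γ : Type u) [Group Γ] where
  /-- the projection -/
  π : Γ →* oGroup (plusQ (F := F) (q + 4))
  central : π.ker ≤ center Γ
  /-- the lift of the Levi factor -/
  φ : SLn (q + 4) F →* Γ
  /-- the lift of the conjugate Levi factor -/
  φl : SLn (q + 4) F →* Γ
  hφ : ∀ A, π (φ A) = lv A
  hl : ∀ A, π (φl A) = cjr (fl q) A

namespace Lifts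

variable {Γ : Type u} [Group Γ] (L : Lifts F q Γ)

/-- The lifts commute. -/
def LC (g h : oGroup (plusQ (F := F) (q + 4))) : Prop :=
  ∀ a b, L.π a = g → L.π b = h → Commute a b

variable {L}

theorem LC.of {a b : Γ} {g h : oGroup (plusQ (F := F) (q + 4))} (ha : L.π a = g) (hb : L.π b = h)
    (hc : Commute a b) : L.LC g h := fun a' b' ha' hb' => by
  rw [← commutatorElement_eq_one_iff_commute] at hc ⊢
  rw [← hc]
  exact SLMult.commutator_congr L.central (ha'.trans ha.symm) (hb'.trans hb.symm)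

theorem LC.symm {g h : oGroup (plusQ (F := F) (q + 4))} (H : L.LC g h) : L.LC h g :=
  fun a b ha hb => (H b a hb ha).symm

theorem LC.conj {g h k : oGroup (plusQ (F := F) (q + 4))} {c : Γ} (hk : L.π c = k) (H : L.LC g h) :
    L.LC (k * g * k⁻¹) (k * h * k⁻¹) := fun a b ha hb => by
  have := H (c⁻¹ * a * c) (c⁻¹ * b * c) (by simp [hk, ha, mul_assoc]) (by simp [hk, hb, mul_assoc])
  have := (Commute.conj_iff c).2 this
  simpa [mul_assoc] using this

variable (L)

local notation "P0" => Fork.plus (orthFork F q)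

/-- The root element of a difference. -/
noncomputable def xl (a c : Fin (q + 4)) (u : F) : Γ := L.φ (xt a c u)

open Classical in
/-- A lift of the root element of a sum. -/
noncomputable def pl (i j : Fin (q + 4)) (t : F) : Γ :=
  if h : i ≠ j then L.φ (Fork.exists_to (F := F) h).choose * L.φl (emb2 fm_ne_fl (up t)) *
    (L.φ (Fork.exists_to (F := F) h).choose)⁻¹ else 1

theorem π_xl (a c : Fin (q + 4)) (u : F) : L.π (L.xl a c u) = lv (xt a c u) := L.hφ _

theorem π_pl (i j : Fin (q + 4)) (t : F) : L.π (L.pl i j t) = P0 i j t := by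
  rcases eq_or_ne i j with rfl | h
  · rw [Fork.plus_self, pl, dif_neg (by simp), map_one]
  · rw [pl, dif_pos h, Fork.plus, dif_pos h, map_mul, map_mul, map_inv, L.hφ, L.hl]
    rfl

theorem lc_xx {a c a' c' : Fin (q + 4)} (h1 : a ≠ c) (h2 : a' ≠ c') (h3 : a ≠ c') (h4 : c ≠ a') (u v : F) :
    L.LC (lv (xt a c u)) (lv (xt a' c' v)) :=
  LC.of (L.hφ _) (L.hφ _) (Commute.map (commute_xt h1 h2 h3 h4 u v) _)

theorem lc_base {a c : Fin (q + 4)} (hac : a ≠ c) (ha : a ≠ fl q) (hcm : c ≠ fm q) (hcl : c ≠ fl q) (u t : F) :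
    L.LC (lv (xt a c u)) ((orthFork F q).X t) := by
  refine LC.of (a := L.φl (xt a c u)) (b := L.φl (emb2 fm_ne_fl (up t))) ?_ ?_ ?_
  · rw [L.hl, cjr_xt_fix hac ha hcl]
  · rw [L.hl]; rfl
  · rw [emb2_up]; exact Commute.map (commute_xt hac fm_ne_fl ha hcm u t) _

/-- A difference with column outside the pair. -/
theorem lc_xp {a c i j : Fin (q + 4)} (hac : a ≠ c) (hij : i ≠ j) (hci : c ≠ i) (hcj : c ≠ j) (u t : F) :
    L.LC (lv (xt a c u)) (P0 i j t) := by
  have key : ∀ (i j : Fin (q + 4)) (t : F), i ≠ j → c ≠ i → c ≠ j → a ≠ j →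
      L.LC (lv (xt a c u)) (P0 i j t) := by
    intro i j t hij hci hcj haj
    obtain ⟨σ, hσ⟩ := exists_perm ![fm q, fl q] ![i, j]
      (by intro x y e; fin_cases x <;> fin_cases y <;> simp_all [fm_ne_fl, fm_ne_fl.symm])
      (by intro x y e; fin_cases x <;> fin_cases y <;> simp_all [hij.symm])
    have s0 : σ (fm q) = i := by simpa using hσ 0
    have s1 : σ (fl q) = j := by simpa using hσ 1
    obtain ⟨A, hA, s, hs⟩ := exists_maps (F := F) σ (fp q)
    have hAll : ∀ x, ∃ e : F, Maps A x (σ x) e := fun x => by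
      rcases eq_or_ne x (fp q) with rfl | hx
      exacts [⟨s, hs⟩, ⟨1, hA x hx⟩]
    have hm : Maps A (fm q) i 1 := s0 ▸ hA _ fp_ne_fm.symm
    have hl : Maps A (fl q) j 1 := s1 ▸ hA _ fp_ne_fl.symm
    obtain ⟨ea, hea⟩ := hAll (σ.symm a)
    obtain ⟨ec, hec⟩ := hAll (σ.symm c)
    rw [Equiv.apply_symm_apply] at hea hec
    have hne : σ.symm a ≠ σ.symm c := fun e => hac (σ.symm.injective e)
    have e1 : xt a c u = A * xt (σ.symm a) (σ.symm c) (u * ec / ea) * A⁻¹ := by
      rw [hea.conj_xt hec hne]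
      congr 1
      field_simp [hea.ne_zero, hec.ne_zero]
    have e2 := (orthFork F q).conj_X hij hm hl t
    rw [one_mul, one_mul] at e2
    rw [e1, ← e2, map_mul, map_mul, map_inv]
    refine LC.conj (L.hφ A) (L.lc_base hne ?_ ?_ ?_ _ _)
    · intro e; exact haj (by rw [← Equiv.apply_symm_apply σ a, e, s1])
    · intro e; exact hci (by rw [← Equiv.apply_symm_apply σ c, e, s0])
    · intro e; exact hcj (by rw [← Equiv.apply_symm_apply σ c, e, s1])
  rcases eq_or_ne a j with rfl | haj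
  · rw [(orthFork F q).plus_swap hij.symm t]
    exact key a i _ hij.symm hcj hci hij.symm
  · exact key i j t hij hci hcj haj

/-- Two sums with a common index. -/
theorem lc_share {i j h : Fin (q + 4)} (hij : i ≠ j) (hih : i ≠ h) (hjh : j ≠ h) (t u : F) :
    L.LC (P0 i j t) (P0 i h u) := by
  obtain ⟨σ, hσ⟩ := exists_perm ![fp q, fm q, fl q] ![j, h, i]
    (by
      intro x y e
      fin_cases x <;> fin_cases y <;>
        simp_all [fm_ne_fl, fm_ne_fl.symm, fp_ne_fm, fp_ne_fm.symm, fp_ne_fl, fp_ne_fl.symm])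
    (by intro x y e; fin_cases x <;> fin_cases y <;> simp_all [hij.symm, hih.symm, hjh.symm])
  obtain ⟨A, hA, -⟩ := exists_maps (F := F) σ (f0 q)
  have hp : Maps A (fp q) j 1 := by
    simpa [show σ (fp q) = j by simpa using hσ 0] using hA _ f0_ne_fp.symm
  have hm : Maps A (fm q) h 1 := by
    simpa [show σ (fm q) = h by simpa using hσ 1] using hA _ (ne_of_low f0_low).1.symm
  have hl : Maps A (fl q) i 1 := by
    simpa [show σ (fl q) = i by simpa using hσ 2] using hA _ (ne_of_low f0_low).2.symm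
  have e1 := (orthFork F q).plus_conj fp_ne_fl hij.symm hp hl (-t)
  have e2 := (orthFork F q).conj_X hih.symm hm hl (-u)
  rw [one_mul, one_mul, (orthFork F q).plus_swap hij, neg_neg] at e1
  rw [one_mul, one_mul, (orthFork F q).plus_swap hih, neg_neg] at e2
  rw [← e1, ← e2]
  refine LC.conj (L.hφ A) ?_
  rw [(orthFork F q).plus_pl, Fork.X, ← (orthFork F q).ψL]
  refine LC.of (a := L.φl (emb ![fp q, fm q, fl q] (three_inj fp_ne_fm fp_ne_fl fm_ne_fl) (iM (up (-t)))))
    (b := L.φl (emb ![fp q, fm q, fl q] (three_inj fp_ne_fm fp_ne_fl fm_ne_fl) (iL (up (-u)))))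
    (L.hl _) (L.hl _) ?_
  refine Commute.map (Commute.map ?_ _) _
  refine Subtype.ext ?_
  show (iM (up (-t)) * iL (up (-u)) : SL3 F).1 = (iL (up (-u)) * iM (up (-t)) : SL3 F).1
  ext x y
  fin_cases x <;> fin_cases y <;>
    simp [En.iM_coe, En.iL_coe, up_coe, Matrix.mul_apply, Fin.sum_univ_three]

/-- Two disjoint sums. -/
theorem lc_four {i j k h : Fin (q + 4)} (hij : i ≠ j) (hkh : k ≠ h) (hik : i ≠ k) (hih : i ≠ h)
    (hjk : j ≠ k) (hjh : j ≠ h) (t u : F) : L.LC (P0 i j t) (P0 k h u) := by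
  obtain ⟨σ, hσ⟩ := exists_perm ![f0 q, fm q, fp q, fl q] ![i, j, k, h]
    (by
      intro x y e
      fin_cases x <;> fin_cases y <;>
        simp_all [fm_ne_fl, fm_ne_fl.symm, fp_ne_fm, fp_ne_fm.symm, fp_ne_fl, fp_ne_fl.symm,
          f0_ne_fp, f0_ne_fp.symm, (ne_of_low (f0_low (q := q))).1, (ne_of_low (f0_low (q := q))).2,
          (ne_of_low (f0_low (q := q))).1.symm, (ne_of_low (f0_low (q := q))).2.symm])
    (by
      intro x y e
      fin_cases x <;> fin_cases y <;>
        simp_all [hij.symm, hkh.symm, hik.symm, hih.symm, hjk.symm, hjh.symm])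
  obtain ⟨A, hA, s, hs⟩ := exists_maps (F := F) σ (f0 q)
  have h0 : Maps A (f0 q) i s := by simpa [show σ (f0 q) = i by simpa using hσ 0] using hs
  have h1 : Maps A (fm q) j 1 := by
    simpa [show σ (fm q) = j by simpa using hσ 1] using hA _ (ne_of_low f0_low).1.symm
  have h2 : Maps A (fp q) k 1 := by
    simpa [show σ (fp q) = k by simpa using hσ 2] using hA _ f0_ne_fp.symm
  have h3 : Maps A (fl q) h 1 := by
    simpa [show σ (fl q) = h by simpa using hσ 3] using hA _ (ne_of_low f0_low).2.symm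
  have e1 := (orthFork F q).plus_conj (ne_of_low f0_low).1 hij h0 h1 (t / s)
  have e2 := (orthFork F q).plus_conj fp_ne_fl hkh h2 h3 u
  rw [mul_one, mul_div_cancel₀ _ h0.ne_zero] at e1
  rw [one_mul, one_mul] at e2
  rw [← e1, ← e2]
  refine LC.conj (L.hφ A) ?_
  have n1 := (orthFork F q).nn_xt_l (f0_low (q := q)) (one_ne_zero (α := F)) (t / s)
  have n2 := (orthFork F q).nn_xt_m (fp_low (q := q)) (one_ne_zero (α := F)) (-u)
  rw [one_mul] at n1 n2
  rw [neg_neg] at n2
  rw [← n1, ← n2]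
  exact LC.conj (c := L.φl (emb2 fm_ne_fl (up 1 * low (-(1 : F)⁻¹) * up 1))) (L.hl _)
    (L.lc_xx (ne_of_low f0_low).2 fp_ne_fm (ne_of_low f0_low).1 fp_ne_fl.symm _ _)

theorem near0 {a i j : Fin (q + 4)} (hai : a ≠ i) (haj : a ≠ j) (hij : i ≠ j) (u t : F) :
    lv (xt a i u) * P0 i j t * (lv (xt a i u))⁻¹ = P0 a j (u * t) * P0 i j t :=
  (orthFork F q).plus_near hai haj hij u t

omit [Finite F] in
theorem xt_near {a b c : Fin (q + 4)} (hab : a ≠ b) (hbc : b ≠ c) (hac : a ≠ c) (t u : F) :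
    (xt a b t * xt b c u * (xt a b t)⁻¹ * (xt b c u)⁻¹ : SLn (q + 4) F) = xt a c (t * u) := by
  rw [xt_eq hab, xt_eq hbc, xt_eq hac]
  exact StPres.transv_near hab hbc hac t u

/-- The commutator does not depend on the middle index. -/
theorem middle {c a l m : Fin (q + 4)} (hca : c ≠ a) (hcl : c ≠ l) (hcm : c ≠ m) (hal : a ≠ l)
    (ham : a ≠ m) (hlm : l ≠ m) (u t : F) :
    ⁅L.xl c l u, L.pl l m t⁆ = ⁅L.xl c a 1, L.pl a m (u * t)⁆ := by
  set A := L.xl c a 1
  set B := L.xl a l u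
  set Y := L.pl l m t
  set E := L.pl a m (u * t)
  have hQ : L.π ⁅A, B⁆ = lv (xt c l u) := by
    rw [map_commutatorElement, L.π_xl, L.π_xl, commutatorElement_def, ← map_inv, ← map_inv, ← map_mul,
      ← map_mul, ← map_mul, xt_near hca hal hcl, one_mul]
  have hA : Commute A Y := L.lc_xp hca hlm hal ham 1 t A Y (L.π_xl _ _ _) (L.π_pl _ _ _)
  have hB : L.π (Y * B * Y⁻¹) = L.π (E⁻¹ * B) := by
    have e := near0 (F := F) (q := q) hal ham hlm u t
    simp only [map_mul, map_inv, B, Y, E, π_xl, π_pl]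
    rw [mul_inv_eq_iff_eq_mul] at e ⊢
    rw [mul_assoc _ _ (P0 l m t), e]
    group
  have hEQ : Commute E ⁅A, B⁆ :=
    (L.lc_xp hcl ham hal.symm hlm u (u * t) ⁅A, B⁆ E hQ (L.π_pl _ _ _)).symm
  have hEK : Commute E ⁅A, E⁆ := by
    have hK : L.π ⁅A, E⁆ = P0 c m (1 * (u * t)) := by
      have e := near0 (F := F) (q := q) hca hcm ham 1 (u * t)
      rw [map_commutatorElement, L.π_xl, L.π_pl, commutatorElement_def, e, mul_inv_cancel_right]
    refine (L.lc_share (i := m) (j := a) (h := c) ham.symm hcm.symm hca.symm (-(u * t)) (-(1 * (u * t)))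
      E ⁅A, E⁆ ?_ ?_)
    · rw [L.π_pl, (orthFork F q).plus_swap ham.symm]
    · rw [hK, (orthFork F q).plus_swap hcm.symm]
  have h1 : ⁅A, E⁻¹⁆ = ⁅A, E⁆⁻¹ := by
    calc ⁅A, E⁻¹⁆ = E⁻¹ * ⁅A, E⁆⁻¹ * E := by rw [commutatorElement_def, commutatorElement_def]; group
      _ = _ := by rw [hEK.inv_left.inv_right.eq, inv_mul_cancel_right]
  have h2 : Y * ⁅A, B⁆ * Y⁻¹ = ⁅A, E⁆⁻¹ * ⁅A, B⁆ := by
    calc Y * ⁅A, B⁆ * Y⁻¹ = ⁅Y * A * Y⁻¹, Y * B * Y⁻¹⁆ := by
          rw [commutatorElement_def, commutatorElement_def]; group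
      _ = ⁅A, E⁻¹ * B⁆ := SLMult.commutator_congr L.central
          (congrArg L.π (by rw [hA.symm.eq, mul_inv_cancel_right])) hB
      _ = ⁅A, E⁻¹⁆ * (E⁻¹ * ⁅A, B⁆ * E) := by
          rw [commutatorElement_def, commutatorElement_def, commutatorElement_def]; group
      _ = _ := by rw [h1, hEQ.inv_left.eq, inv_mul_cancel_right]
  rw [SLMult.commutator_congr L.central (a := L.xl c l u) (a' := ⁅A, B⁆) (b := L.pl l m t) (b' := Y)
    (by rw [hQ, L.π_xl]) rfl]
  calc ⁅⁅A, B⁆, Y⁆ = ⁅A, B⁆ * (Y * ⁅A, B⁆ * Y⁻¹)⁻¹ := by rw [commutatorElement_def]; group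
    _ = _ := by rw [h2, _root_.mul_inv_rev, inv_inv, mul_inv_cancel_left]

/-- The commutator with rows and columns exchanged. -/
theorem exchange {c a l m : Fin (q + 4)} (hca : c ≠ a) (hcl : c ≠ l) (hcm : c ≠ m) (hal : a ≠ l)
    (ham : a ≠ m) (hlm : l ≠ m) (v : F) :
    ⁅L.xl m a 1, L.pl a c v⁆ = ⁅L.xl c l 1, L.pl l m (-v)⁆ := by
  set M := L.xl m a 1
  set X' := L.xl c l 1
  set P := L.pl l a (-v)
  set C := L.pl m l v
  have hQ : L.π ⁅X', P⁆ = P0 a c v := by
    have e := near0 (F := F) (q := q) hcl hca hal.symm 1 (-v)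
    rw [map_commutatorElement, L.π_xl, L.π_pl, commutatorElement_def, e, one_mul, mul_inv_cancel_right, (orthFork F q).plus_swap hca.symm, neg_neg]
  have hX : Commute M X' :=
    L.lc_xx ham.symm hcl hlm.symm hca.symm 1 1 M X' (L.π_xl _ _ _) (L.π_xl _ _ _)
  have hP : L.π (M * P * M⁻¹) = L.π (C * P) := by
    have e := near0 (F := F) (q := q) ham.symm hlm.symm hal 1 v
    have e' : P0 l a (-v) = P0 a l v := by rw [(orthFork F q).plus_swap hal, neg_neg]
    simp only [map_mul, map_inv, M, P, C, π_xl, π_pl, e']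
    rw [e, one_mul]
  have hC : Commute C ⁅X', P⁆ :=
    L.lc_four hlm.symm hca.symm ham.symm hcm.symm hal.symm hcl.symm v v C ⁅X', P⁆ (L.π_pl _ _ _) hQ
  rw [SLMult.commutator_congr L.central (a := L.xl m a 1) (a' := M) (b := L.pl a c v) (b' := ⁅X', P⁆)
    rfl (by rw [hQ, L.π_pl]),
    SLMult.commutator_congr L.central (a := L.xl c l 1) (a' := X') (b := L.pl l m (-v)) (b' := C)
    rfl (by rw [L.π_pl, L.π_pl, (orthFork F q).plus_swap hlm.symm, neg_neg])]
  have h1 : M * ⁅X', P⁆ * M⁻¹ = ⁅X', C⁆ * ⁅X', P⁆ := by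
    calc M * ⁅X', P⁆ * M⁻¹ = ⁅M * X' * M⁻¹, M * P * M⁻¹⁆ := by
          rw [commutatorElement_def, commutatorElement_def]; group
      _ = ⁅X', C * P⁆ := SLMult.commutator_congr L.central
          (congrArg L.π (by rw [hX.eq, mul_inv_cancel_right])) hP
      _ = ⁅X', C⁆ * (C * ⁅X', P⁆ * C⁻¹) := by
          rw [commutatorElement_def, commutatorElement_def, commutatorElement_def]; group
      _ = _ := by rw [hC.eq, mul_inv_cancel_right]
  calc ⁅M, ⁅X', P⁆⁆ = M * ⁅X', P⁆ * M⁻¹ * (⁅X', P⁆)⁻¹ := commutatorElement_def _ _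
    _ = _ := by rw [h1, mul_inv_cancel_right]

/-- The difference and the sum of the same two indices. -/
theorem top {c a l m : Fin (q + 4)} (hca : c ≠ a) (hcl : c ≠ l) (hcm : c ≠ m) (hal : a ≠ l)
    (ham : a ≠ m) (hlm : l ≠ m) (u t : F) :
    L.LC (lv (xt c l u)) (P0 c l t) := by
  refine LC.of (L.π_xl c l u) (L.π_pl c l t) ?_
  rw [← commutatorElement_eq_one_iff_commute]
  set R := L.xl m l u
  set T := L.pl m l t
  set R' := L.xl c l u
  set T' := L.pl c l t
  set K := L.xl c m 1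
  have hz : ⁅R, T⁆ ∈ center Γ := L.central (by
    rw [MonoidHom.mem_ker, map_commutatorElement, L.π_xl, L.π_pl, commutatorElement_eq_one_iff_commute]
    exact (orthFork F q).plus_comm_xt hlm.symm hlm.symm (.inr ⟨.inl rfl, .inr rfl⟩) u t)
  have hR : L.π (K * R * K⁻¹) = L.π (R' * R) := by
    simp only [map_mul, map_inv, K, R, R', π_xl]
    simp only [← map_mul, ← map_inv]
    congr 1
    have e := xt_near (F := F) hcm hlm.symm hcl 1 u
    rw [mul_inv_eq_iff_eq_mul, one_mul] at e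
    exact e
  have hT : L.π (K * T * K⁻¹) = L.π (T' * T) := by
    simp only [map_mul, map_inv, K, T, T', π_xl, π_pl]
    rw [near0 (F := F) (q := q) hcm hcl hlm.symm 1 t, one_mul]
  set D1 := ⁅R', T⁆
  set D2 := ⁅R, T'⁆
  have hD1 : L.π D1 = P0 c m (u * -t) := by
    have e := near0 (F := F) (q := q) hcl hcm hlm u (-t)
    have e' : P0 m l t = P0 l m (-t) := (orthFork F q).plus_swap hlm t
    rw [map_commutatorElement, L.π_xl, L.π_pl, commutatorElement_def, e', e, mul_inv_cancel_right]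
  have hD2 : L.π D2 = P0 m c (u * -t) := by
    have e := near0 (F := F) (q := q) hlm.symm hcm.symm hcl.symm u (-t)
    have e' : P0 c l t = P0 l c (-t) := (orthFork F q).plus_swap hcl.symm t
    rw [map_commutatorElement, L.π_xl, L.π_pl, commutatorElement_def, e', e, mul_inv_cancel_right]
  have c1 : Commute T' D1 :=
    L.lc_share (i := c) (j := l) (h := m) hcl hcm hlm t (u * -t) T' D1 (L.π_pl _ _ _) hD1
  have c2 : Commute R' D2 :=
    L.lc_xp hcl hcm.symm hlm hcl.symm u (u * -t) R' D2 (L.π_xl _ _ _) hD2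
  have hexp : K * ⁅R, T⁆ * K⁻¹ = D2 * ⁅R, T⁆ * (⁅R', T'⁆ * D1) := by
    calc K * ⁅R, T⁆ * K⁻¹ = ⁅K * R * K⁻¹, K * T * K⁻¹⁆ := by
          rw [commutatorElement_def, commutatorElement_def]; group
      _ = ⁅R' * R, T' * T⁆ := SLMult.commutator_congr L.central hR hT
      _ = R' * (D2 * (T' * ⁅R, T⁆ * T'⁻¹)) * R'⁻¹ * (⁅R', T'⁆ * (T' * D1 * T'⁻¹)) := by
          simp only [D1, D2, commutatorElement_def]; group
      _ = R' * (D2 * ⁅R, T⁆) * R'⁻¹ * (⁅R', T'⁆ * D1) := by
          rw [c1.eq, mul_inv_cancel_right, mem_center_iff.1 hz T', mul_inv_cancel_right]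
      _ = _ := by
          rw [← mul_assoc R', c2.eq, mul_assoc D2, mem_center_iff.1 hz R', ← mul_assoc D2,
            mul_inv_cancel_right]
  rw [mem_center_iff.1 hz K, mul_inv_cancel_right, mem_center_iff.1 hz D2, mul_assoc,
    left_eq_mul] at hexp
  -- the two values of the pairing cancel
  have hE : L.π (L.pl a m (-(u * t))) = L.π ((L.pl a m (u * t))⁻¹) := by
    rw [map_inv, L.π_pl, L.π_pl, eq_inv_iff_mul_eq_one, ← (orthFork F q).plus_add, neg_add_cancel]
    have := (orthFork F q).plus_add a m 0 0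
    rw [add_zero] at this
    exact mul_eq_left.1 this.symm
  set A := L.xl c a 1
  set E := L.pl a m (u * t)
  have d1 : D1 = ⁅A, E⁻¹⁆ := by
    have := L.middle hca hcl hcm hal ham hlm u (-t)
    rw [mul_neg] at this
    rw [show D1 = ⁅L.xl c l u, L.pl l m (-t)⁆ from SLMult.commutator_congr L.central rfl
      (by rw [L.π_pl, L.π_pl]; exact (orthFork F q).plus_swap hlm t), this]
    exact SLMult.commutator_congr L.central rfl hE
  have d2 : D2 = ⁅A, E⁆ := by
    have h2 := L.middle (c := m) (a := a) (l := l) (m := c) ham.symm hlm.symm hcm.symm hal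
      hca.symm hcl.symm u (-t)
    rw [show D2 = ⁅L.xl m l u, L.pl l c (-t)⁆ from SLMult.commutator_congr L.central rfl
      (by rw [L.π_pl, L.π_pl]; exact (orthFork F q).plus_swap hcl.symm t), h2,
      L.exchange hca hcl hcm hal ham hlm, L.middle hca hcl hcm hal ham hlm,
      one_mul, mul_neg, neg_neg]
  have hK : Commute E ⁅A, E⁆ := by
    refine L.lc_share (i := m) (j := a) (h := c) ham.symm hcm.symm hca.symm (-(u * t)) (-(1 * (u * t)))
      E ⁅A, E⁆ ?_ ?_
    · rw [L.π_pl, (orthFork F q).plus_swap ham.symm]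
    · rw [map_commutatorElement, L.π_xl, L.π_pl, commutatorElement_def, near0 (F := F) (q := q) hca hcm ham 1 (u * t), mul_inv_cancel_right,
        (orthFork F q).plus_swap hcm.symm]
  have hd : D1 = D2⁻¹ := by
    rw [d1, d2]
    calc ⁅A, E⁻¹⁆ = E⁻¹ * ⁅A, E⁆⁻¹ * E := by rw [commutatorElement_def, commutatorElement_def]; group
      _ = _ := by rw [hK.inv_left.inv_right.eq, inv_mul_cancel_right]
  rw [hd, ← mul_assoc] at hexp
  exact mul_eq_left.1 (mul_inv_eq_one.1 hexp)

theorem agree {a c : Fin (q + 4)} (hac : a ≠ c) (ha : a ≠ fl q) (hc : c ≠ fl q) (t : F) :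
    L.φ (xt a c t) = L.φl (xt a c t) := by
  have : Nontrivial (Fin (q + 3)) := Fin.nontrivial_iff_two_le.2 (by omega)
  have inj : Function.Injective (Fin.castSucc : Fin (q + 3) → Fin (q + 4)) := Fin.castSucc_injective _
  have himg : ∀ i : Fin (q + 3), i.castSucc ≠ fl q := fun i e => by
    have := congrArg Fin.val e
    have := i.isLt
    simp [fl] at *; omega
  have h : L.φ.comp (emb Fin.castSucc inj) = L.φl.comp (emb Fin.castSucc inj) := by
    refine hom_eq_of_perfect L.π L.central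
      (CfsgLib.Linear.commutator_SL_eq_top (.inl (by rw [Fintype.card_fin]; omega))) fun A => ?_
    simp only [MonoidHom.comp_apply, L.hφ, L.hl]
    induction A using CfsgLib.Linear.transvection_induction with
    | htransvec i j hij c =>
      rw [← xt_eq hij, emb_xt _ _ hij, cjr_xt_fix (inj.ne hij) (himg i) (himg j)]
    | hmul A B hA hB => simp only [map_mul, hA, hB]
  have la : a.val < q + 3 := by
    have := a.isLt
    have : a.val ≠ q + 3 := fun e => ha (Fin.ext e)
    omega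
  have lc : c.val < q + 3 := by
    have := c.isLt
    have : c.val ≠ q + 3 := fun e => hc (Fin.ext e)
    omega
  have := DFunLike.congr_fun h (xt ⟨a.val, la⟩ ⟨c.val, lc⟩ t)
  simp only [MonoidHom.comp_apply, emb_xt _ _ (show (⟨a.val, la⟩ : Fin (q + 3)) ≠ ⟨c.val, lc⟩ from
    fun e => hac (Fin.ext (by simpa using e)))] at this
  exact this

theorem lc_top {j k : Fin (q + 4)} (hjk : j = fm q ∧ k = fl q ∨ j = fl q ∧ k = fm q) (u t : F) :
    L.LC (lv (xt j k u)) (b0 q (up t)) := by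
  obtain ⟨h0m, h0l⟩ := ne_of_low (f0_low (q := q))
  have hX : b0 q (up t) = P0 (fm q) (fl q) t := ((orthFork F q).plus_X t).symm
  rw [hX]
  rcases hjk with ⟨rfl, rfl⟩ | ⟨rfl, rfl⟩
  · exact L.top h0m.symm fm_ne_fl fp_ne_fm.symm h0l f0_ne_fp fp_ne_fl.symm u t
  · rw [(orthFork F q).plus_swap fm_ne_fl.symm t]
    exact L.top h0l.symm fm_ne_fl.symm fp_ne_fl.symm h0m f0_ne_fp fp_ne_fm.symm u (-t)

/-- The fork in the extension. -/
noncomputable def fork : Fork F Γ q where
  φ := L.φ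
  b := L.φl.comp (emb2 fm_ne_fl)
  ψ := L.φl.comp (emb ![fp q, fm q, fl q] (three_inj fp_ne_fm fp_ne_fl fm_ne_fl))
  pup t := by
    rw [MonoidHom.comp_apply, emb3_iU fp_ne_fm fp_ne_fl fm_ne_fl, emb2_up, L.agree fp_ne_fm fp_ne_fl fm_ne_fl]
  plow t := by
    rw [MonoidHom.comp_apply, emb3_iU fp_ne_fm fp_ne_fl fm_ne_fl, emb2_low, L.agree fp_ne_fm.symm fm_ne_fl fp_ne_fl]
  ψL A := by
    simp only [MonoidHom.comp_apply, emb3_iL fp_ne_fm fp_ne_fl fm_ne_fl]
  far j k h h' u A := by
    have hjk : j ≠ k := fun e => by subst e; omega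
    have key : ∀ x ∈ Set.range (up : F → SL2 F) ∪ Set.range (low : F → SL2 F),
        Commute (L.φ (xt j k u)) (L.φl (emb2 fm_ne_fl x)) := by
      intro x hx
      rcases h' with ⟨hj', hk'⟩ | ⟨hj', hk'⟩
      · have hjm := ne_of_low hj'
        have hkm := ne_of_low hk'
        rw [L.agree hjk hjm.2 hkm.2]
        refine Commute.map ?_ _
        rcases hx with ⟨t, rfl⟩ | ⟨t, rfl⟩
        · rw [emb2_up]; exact commute_xt hjk fm_ne_fl hjm.2 hkm.1 _ _
        · rw [emb2_low]; exact commute_xt hjk fm_ne_fl.symm hjm.1 hkm.2 _ _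
      · have top : (j = fm q ∧ k = fl q) ∨ (j = fl q ∧ k = fm q) := by
          have := j.isLt; have := k.isLt
          simp only [fm, fl, Fin.ext_iff]; omega
        rcases hx with ⟨t, rfl⟩ | ⟨t, rfl⟩
        · exact L.lc_top top u t _ _ (L.hφ _) (L.hl _)
        · have hlow : b0 q (low t) = (orthFork F q).nn 1 * b0 q (up (-t)) * ((orthFork F q).nn 1)⁻¹ :=
            (orthFork F q).b_low t
          have c : Commute (lv (xt j k u)) ((orthFork F q).nn 1) :=
            (orthFork F q).far j k h (.inr ⟨hj', hk'⟩) u _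
          have H := LC.conj (k := (orthFork F q).nn 1)
            (c := L.φl (emb2 fm_ne_fl (up 1 * low (-(1 : F)⁻¹) * up 1))) (L.hl _) (L.lc_top top u (-t))
          rw [← c.eq, mul_inv_cancel_right, ← hlow] at H
          exact H _ _ (L.hφ _) (L.hl _)
    have : (⊤ : Subgroup (SL2 F)) ≤
        (Subgroup.centralizer {L.φ (xt j k u)}).comap (L.φl.comp (emb2 fm_ne_fl)) := by
      rw [← sl2_gen, Subgroup.closure_le]
      exact fun x hx => Subgroup.mem_centralizer_singleton_iff.2 (key x hx).symm.eq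
    exact (Subgroup.mem_centralizer_singleton_iff.1 (this (Subgroup.mem_top A))).symm

theorem π_fork_φ (A : SLn (q + 4) F) : L.π (L.fork.φ A) = lv A := L.hφ A

theorem π_fork_b (A : SL2 F) : L.π (L.fork.b A) = b0 q A := L.hl _

end Lifts

end CfsgLib.DMult
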