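/-
The parts of the parabolic of the first point in a fork.
-/
import Cfsg.Agent.An.DRecog

set_option autoImplicit false

namespace CfsgLib.DMult

open Matrix
open CfsgLib.An
open CfsgLib.En (SL2 SL3 iU iL ti ti_up sl2_gen)
open CfsgLib.QP (up low up_coe low_coe up_mul)

variable {F : Type*} [Field F] {r n : ℕ}

theorem maps_emb {f : Fin r → Fin n} (hf : Function.Injective f) {A : SLn r F} {a b : Fin r} {c : F}
    (h : Maps A a b c) : Maps (emb f hf A) (f a) (f b) c := by
  classical
  refine ⟨?_, fun x => ?_⟩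
  · rw [act_single]
    funext i
    obtain ⟨i, rfl⟩ := (embEquiv f hf).surjective i
    show embM f hf A.1 _ _ * 1 = _
    rw [mul_one, ← embEquiv_inl f hf a, ← embEquiv_inl f hf b, Pi.single_apply]
    simp only [embM, Matrix.reindex_apply, Matrix.submatrix_apply, Equiv.symm_apply_apply,
      EmbeddingLike.apply_eq_iff_eq]
    rcases i with i | i <;> simp [h.col]
  · obtain ⟨x, rfl⟩ := (embEquiv f hf).surjective x
    show embM f hf A.1 _ _ = _
    rw [← embEquiv_inl f hf a, ← embEquiv_inl f hf b]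
    simp only [embM, Matrix.reindex_apply, Matrix.submatrix_apply, Equiv.symm_apply_apply,
      EmbeddingLike.apply_eq_iff_eq]
    rcases x with x | x <;> simp [h.2]

theorem maps_emb_out {f : Fin r → Fin n} (hf : Function.Injective f) (A : SLn r F) {x : Fin n}
    (hx : ∀ i, f i ≠ x) : Maps (emb f hf A) x x 1 := by
  classical
  have e : embEquiv f hf (Sum.inr ⟨x, fun ⟨i, hi⟩ => hx i hi⟩) = x := by simp [embEquiv]
  refine ⟨?_, fun y => ?_⟩
  · rw [act_single]
    funext i
    obtain ⟨i, rfl⟩ := (embEquiv f hf).surjective i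
    show embM f hf A.1 _ _ * 1 = _
    rw [mul_one, ← e, Pi.single_apply]
    simp only [embM, Matrix.reindex_apply, Matrix.submatrix_apply, Equiv.symm_apply_apply,
      EmbeddingLike.apply_eq_iff_eq]
    rcases i with i | i <;> simp [Matrix.one_apply]
  · obtain ⟨y, rfl⟩ := (embEquiv f hf).surjective y
    show embM f hf A.1 _ _ = _
    rw [← e]
    simp only [embM, Matrix.reindex_apply, Matrix.submatrix_apply, Equiv.symm_apply_apply,
      EmbeddingLike.apply_eq_iff_eq]
    rcases y with y | y <;> simp [Matrix.one_apply, eq_comm]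

/-- The image is generated by the adjacent root elements. -/
theorem range_le_of_adj {G : Type*} [Group G] (f : SLn n F →* G) (H : Subgroup G) (hn : 2 ≤ n)
    (h : ∀ j k : Fin n, k.val = j.val + 1 → ∀ t, f (xt j k t) ∈ H ∧ f (xt k j t) ∈ H) (A : SLn n F) :
    f A ∈ H := by
  have : Nontrivial (Fin n) := Fin.nontrivial_iff_two_le.2 hn
  induction A using CfsgLib.Linear.transvection_induction with
  | htransvec i j hij c =>
    rw [← xt_eq hij]
    refine Subgroup.mem_comap.1 (xt_mem_below (H.comap f) n (fun a b hab _ _ u => ?_) i j hij i.isLt j.isLt c)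
    rcases hab with hab | hab
    exacts [(h b a hab u).2, (h a b hab u).1]
  | hmul A B hA hB => rw [map_mul]; exact mul_mem hA hB

theorem emb_comp {s : ℕ} {f : Fin r → Fin n} (hf : Function.Injective f) {g : Fin s → Fin r}
    (hg : Function.Injective g) (hs : 2 ≤ s) (A : SLn s F) :
    emb (f ∘ g) (hf.comp hg) A = emb f hf (emb g hg A) := by
  have : Nontrivial (Fin s) := Fin.nontrivial_iff_two_le.2 hs
  induction A using CfsgLib.Linear.transvection_induction with
  | htransvec i j hij c =>
    rw [← xt_eq hij, emb_xt _ _ hij, emb_xt _ _ hij, emb_xt _ _ (hg.ne hij)]; rfl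
  | hmul A B hA hB => simp only [map_mul, hA, hB]

/-- A column condition suffices for a subgroup with the root elements off one column. -/
theorem mem_of_col (H : Subgroup (SLn n F)) (z : Fin n) (hs : ∃ a b : Fin n, a ≠ z ∧ b ≠ z ∧ a ≠ b)
    (hx : ∀ a b, b ≠ z → a ≠ b → ∀ u, xt a b u ∈ H) {A : SLn n F}
    (hA : act A (Pi.single z 1) = Pi.single z 1) : A ∈ H := by
  classical
  obtain ⟨a, b, ha, hb, hab⟩ := hs
  suffices ∀ (s : Finset (Fin n)) (A : SLn n F), act A (Pi.single z 1) = Pi.single z 1 → z ∉ s →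
      (∀ k, k ≠ z → k ∉ s → A.1 z k = 0) → A ∈ H from
    this (Finset.univ.erase z) A hA (by simp) (fun k hk hks => absurd (by simp [hk]) hks)
  intro s
  induction s using Finset.induction with
  | empty =>
    intro A hA _ hrow
    refine mem_of_fix H {z} ⟨a, b, by simpa using ha, by simpa using hb, hab⟩
      (fun x y _ hy hxy u => hx x y (by simpa using hy) hxy u) A (fun x hx => ?_)
    rw [Finset.mem_singleton] at hx
    subst hx
    refine ⟨hA, fun k => ?_⟩
    split_ifs with hk
    · have := congrFun hA x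
      simp only [act_single, mul_one, Pi.single_eq_same] at this
      rw [hk]; exact this
    · exact hrow k hk (Finset.notMem_empty k)
  | insert j s hj ih =>
    intro A hA hz hrow
    have hjz : z ≠ j := fun e => hz (e ▸ Finset.mem_insert_self _ _)
    have hzz : A.1 z z = 1 := by
      have := congrFun hA z
      simpa only [act_single, mul_one, Pi.single_eq_same] using this
    have hm : A * xt z j (-A.1 z j) ∈ H := by
      refine ih _ ?_ (fun e => hz (Finset.mem_insert_of_mem e)) fun k hk hks => ?_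
      · rw [act_mul, act_xt_single hjz, if_neg hjz, add_zero, hA]
      · rw [Matrix.SpecialLinearGroup.coe_mul, xt_coe hjz]
        rcases eq_or_ne k j with rfl | hkj
        · rw [Matrix.mul_transvection_apply_same, hzz]; ring
        · rw [Matrix.mul_transvection_apply_of_ne _ _ _ _ hkj]
          exact hrow k hk (by simp [hkj, hks])
    have := mul_mem hm (inv_mem (hx z j hjz.symm hjz (-A.1 z j)))
    rwa [mul_inv_cancel_right] at this

variable {G : Type*} [Group G] {q : ℕ} (S : Fork F G q)

/-- The pairs of nodes of a fork. -/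
theorem node_pairs [Finite F] : ∀ j k, j ≠ k → (∀ A B, Commute (S.node j A) (S.node k B)) ∨
    ∃ ψ : SL3 F →* G, ((∀ A, ψ (iU A) = S.node j A) ∧ ∀ A, ψ (iL A) = S.node k A) ∨
      ((∀ A, ψ (iU A) = S.node k A) ∧ ∀ A, ψ (iL A) = S.node j A) := by
  have forkNode : ∀ k : Fin (q + 3), (∀ A B, Commute (S.node (some k) A) (S.node none B)) ∨
      ∃ ψ : SL3 F →* G,
        (∀ A, ψ (iU A) = S.node (some k) A) ∧ ∀ A, ψ (iL A) = S.node none A := by
    intro k
    by_cases hk : k.val = q + 1
    · refine .inr ⟨S.ψ, fun A => ?_, S.ψL⟩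
      have e1 : k.castSucc = fp q := Fin.ext (by simp [fp, hk])
      have e2 : k.succ = fm q := Fin.ext (by simp [fm, hk])
      refine DFunLike.congr_fun (hom_ext_sl2 (f := S.ψ.comp iU) (g := S.node (some k))
        (fun t => ?_) fun t => ?_) A
      · simp only [Fork.node, MonoidHom.comp_apply, emb2_up, e1, e2]; exact (S.pup t).symm
      · simp only [Fork.node, MonoidHom.comp_apply, emb2_low, e1, e2]; exact (S.plow t).symm
    · refine .inl (comm_sl2 fun x hx y _ => ?_)
      rcases hx with ⟨t, rfl⟩ | ⟨t, rfl⟩ <;>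
        simp only [Fork.node, MonoidHom.comp_apply, emb2_up, emb2_low] <;>
        refine S.far _ _ (by simp) ?_ _ _ <;>
        · simp only [Fin.val_castSucc, Fin.val_succ]
          have := k.isLt
          omega
  have adj : ∀ j k : Fin (q + 3), k.val = j.val + 1 →
      ∃ ψ : SL3 F →* G,
        (∀ A, ψ (iU A) = S.node (some j) A) ∧ ∀ A, ψ (iL A) = S.node (some k) A := by
    intro j k h
    have e : j.succ = k.castSucc := Fin.ext (by simp [h])
    have h1 : j.castSucc ≠ j.succ := (Fin.castSucc_lt_succ).ne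
    have h2 : j.succ ≠ k.succ := fun e => by
      have := congrArg Fin.val e; simp at this; omega
    have h3 : j.castSucc ≠ k.succ := fun e => by
      have := congrArg Fin.val e; simp at this; omega
    refine ⟨S.φ.comp (emb ![j.castSucc, j.succ, k.succ] (three_inj h1 h3 h2)), fun A => ?_,
      fun A => ?_⟩
    · simp only [Fork.node, MonoidHom.comp_apply, emb3_iU h1 h3 h2]
    · simp only [Fork.node, MonoidHom.comp_apply, emb3_iL h1 h3 h2]
      congr 3
  rintro (_ | j) (_ | k) hjk
  · exact absurd rfl hjk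
  · rcases forkNode k with h | ⟨ψ, h⟩
    exacts [.inl fun A B => (h B A).symm, .inr ⟨ψ, .inr h⟩]
  · rcases forkNode j with h | ⟨ψ, h⟩
    exacts [.inl h, .inr ⟨ψ, .inl h⟩]
  · by_cases h : k.val = j.val + 1
    · obtain ⟨ψ, h⟩ := adj j k h; exact .inr ⟨ψ, .inl h⟩
    by_cases h' : j.val = k.val + 1
    · obtain ⟨ψ, h⟩ := adj k j h'; exact .inr ⟨ψ, .inr h⟩
    have : j.val ≠ k.val := fun e => hjk (congrArg some (Fin.ext e))
    refine .inl (comm_sl2 fun x hx y hy => ?_)
    rcases hx with ⟨t, rfl⟩ | ⟨t, rfl⟩ <;> rcases hy with ⟨u, rfl⟩ | ⟨u, rfl⟩ <;>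
      simp only [Fork.node, MonoidHom.comp_apply, emb2_up, emb2_low] <;>
      refine Commute.map (commute_xt ?_ ?_ ?_ ?_ t u) _ <;>
      simp [Fin.ext_iff] <;> omega

/-- The Levi factor lies in the group of the nodes. -/
theorem φ_mem_nodes [Finite F] (A : SLn (q + 4) F) : S.φ A ∈ ⨆ k, (S.node k).range := by
  have hnodeE : ∀ k A, S.node k A ∈ ⨆ k, (S.node k).range :=
    fun k A => le_iSup (fun k => (S.node k).range) k ⟨A, rfl⟩
  refine range_le_of_adj S.φ _ (by omega) (fun j k hjk t => ?_) A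
  have hj : j.val < q + 3 := by have := k.isLt; omega
  have h1 := hnodeE (some ⟨j.val, hj⟩) (up t)
  have h2 := hnodeE (some ⟨j.val, hj⟩) (low t)
  simp only [Fork.node, MonoidHom.comp_apply, emb2_up, emb2_low] at h1 h2
  have e : k = (⟨j.val, hj⟩ : Fin (q + 3)).succ := Fin.ext (by simp [hjk])
  exact ⟨by rw [e]; exact h1, by rw [e]; exact h2⟩

/-- An element fixing the first point, seen in a larger stabiliser. -/
theorem mem_par_sep [Finite F] (K K' : Subgroup G)
    (hKφ : ∀ (A : SLn (q + 4) F) (c : F), act A (Pi.single (f0 q) 1) = Pi.single (f0 q) c → S.φ A ∈ K)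
    (hKX : ∀ (A : SLn (q + 4) F) t, S.φ A * S.X t * (S.φ A)⁻¹ ∈ K)
    (hKL : ∀ t, S.b (low t) ∈ K) (hKK : K ≤ K')
    (hsep : ∀ y, S.rep y ∈ K' → y = (f0 q, false))
    {x : G} (hx : x ∈ ⨆ k, (S.node k).range) (hxK : x ∈ K') : x ∈ S.par K := by
  have hy0 : S.rep (f0 q, false) = 1 := by
    simp only [Fork.rep]
    rw [wEl, xt, dif_neg (by simp), xt, dif_neg (by simp)]; simp
  obtain ⟨u, hu, y, p, hp, rfl⟩ := exists_cell S.node (S.par K) S.rep (f0 q, false) hy0 (node_pairs S)
    (S.rep_weyl K hKφ hKX hKL) (fun k y d hd0 => S.rep_torus K hKφ hKX hKL k y hd0)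
    (S.rep_case K hKφ hKX hKL) hx
  have hU : upper S.node ≤ S.par K := by
    refine (Subgroup.closure_le _).2 ?_
    rintro _ ⟨k, t, rfl⟩
    rcases k with _ | k
    · exact S.X_par K hKX t
    · simp only [Fork.node, MonoidHom.comp_apply, emb2_up]
      exact S.xt_par K hKφ (fun e => by simpa [f0] using congrArg Fin.val e) t
  have huP := hU hu
  have hy : S.rep y ∈ K' := by
    have := mul_mem (mul_mem (inv_mem (hKK (Subgroup.mem_inf.1 huP).2)) hxK)
      (inv_mem (hKK (Subgroup.mem_inf.1 hp).2))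
    convert this using 1
    group
  rw [hsep y hy, hy0, mul_one]
  exact mul_mem huP hp

/-- The first point's torus. -/
theorem diag_mul {a b : Fin n} (h : a ≠ b) {c d : F} (hc : c ≠ 0) (hd : d ≠ 0) :
    (SpecialLinearGroup.diag2n h c hc * SpecialLinearGroup.diag2n h d hd : SLn n F) =
      SpecialLinearGroup.diag2n h (c * d) (mul_ne_zero hc hd) := by
  obtain ⟨a1, a2, a3⟩ := maps_diag2n h hc
  obtain ⟨b1, b2, b3⟩ := maps_diag2n h hd
  obtain ⟨c1, c2, c3⟩ := maps_diag2n h (mul_ne_zero hc hd)
  apply Subtype.ext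
  ext i x
  suffices ∃ e : F, Maps (SpecialLinearGroup.diag2n h c hc * SpecialLinearGroup.diag2n h d hd : SLn n F) x x e ∧
      Maps (SpecialLinearGroup.diag2n h (c * d) (mul_ne_zero hc hd) : SLn n F) x x e by
    obtain ⟨e, h1, h2⟩ := this
    rw [h1.col, h2.col]
  rcases eq_or_ne x a with rfl | hxa
  · exact ⟨c * d, b1.mul a1, c1⟩
  rcases eq_or_ne x b with rfl | hxb
  · refine ⟨(c * d)⁻¹, ?_, c2⟩
    rw [mul_inv]
    exact b2.mul a2
  exact ⟨1, by simpa using (b3 x hxa hxb).mul (a3 x hxa hxb), c3 x hxa hxb⟩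

end CfsgLib.DMult
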