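/-
A central extension of `Ω` of plus type, generated by lifted Levi factors, has at most two elements
over the identity.
-/
import Cfsg.Agent.DMult.FarLifts
import Cfsg.Agent.DMult.ForkParts

set_option autoImplicit false

namespace CfsgLib.DMult

open Matrix Subgroup QuadraticMap
open CfsgLib.An
open CfsgLib.En (SL2 SL3 iU iL ti ti3 ti3_iU ti3_iL sl2_gen)
open CfsgLib.QP (up low up_coe low_coe up_mul)
open CfsgLib.Quad (plusQ oGroup siegel)

universe u

variable {F : Type u} [Field F] [Finite F]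

/-- A fork over a set of coordinates of the orthogonal group. -/
structure Over (F : Type u) [Field F] [Finite F] (N : ℕ) (Γ : Type u) [Group Γ] (q : ℕ) where
  /-- the fork -/
  S : Fork F Γ q
  /-- the coordinates -/
  ι : Fin (q + 4) → Fin N
  inj : Function.Injective ι
  /-- the projection -/
  π : Γ →* oGroup (plusQ (F := F) N)
  hφ : ∀ A, π (S.φ A) = lv (emb ι inj A)
  hb : ∀ w, π (S.b w) = cjr (ι (fl q)) (emb2 (inj.ne fm_ne_fl) w)

/-- The elements moving a point along its line. -/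
def lineFix {N : ℕ} (v : Fin N ⊕ Fin N → F) : Subgroup (oGroup (plusQ (F := F) N)) where
  carrier := {g | ∃ c : F, c ≠ 0 ∧ g.1 v = c • v}
  one_mem' := ⟨1, one_ne_zero, (one_smul F v).symm⟩
  mul_mem' := by
    rintro x y ⟨c, hc, hx⟩ ⟨d, hd, hy⟩
    refine ⟨d * c, mul_ne_zero hd hc, ?_⟩
    show x.1 (y.1 v) = _
    rw [hy, map_smul, hx, smul_smul]
  inv_mem' := by
    rintro x ⟨c, hc, hx⟩
    refine ⟨c⁻¹, inv_ne_zero hc, ?_⟩
    show x.1.symm v = _
    rw [LinearEquiv.symm_apply_eq, map_smul, hx, smul_smul, inv_mul_cancel₀ hc, one_smul]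

/-- The elements fixing a vector. -/
def vecFix {N : ℕ} (v : Fin N ⊕ Fin N → F) : Subgroup (oGroup (plusQ (F := F) N)) where
  carrier := {g | g.1 v = v}
  one_mem' := rfl
  mul_mem' := by
    intro x y hx hy
    show x.1 (y.1 v) = v
    rw [show y.1 v = v from hy, show x.1 v = v from hx]
  inv_mem' := by
    intro x hx
    show x.1.symm v = v
    rw [LinearEquiv.symm_apply_eq]
    exact (show x.1 v = v from hx).symm

theorem cjr_single_fix {N : ℕ} {x m l : Fin N} (hml : m ≠ l) (hxm : x ≠ m) (hxl : x ≠ l) (w : SL2 F) :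
    (cjr l (emb2 hml w)).1 (Pi.single (Sum.inl x) 1) = Pi.single (Sum.inl x) 1 ∧
      (cjr l (emb2 hml w)).1 (Pi.single (Sum.inr x) 1) = Pi.single (Sum.inr x) 1 := by
  have h : Maps (emb2 hml w) x x 1 := maps_emb_out (pair_inj hml) w fun i => by
    fin_cases i
    exacts [hxm.symm, hxl.symm]
  constructor
  · rw [cjr_apply, rr_single, Equiv.swap_apply_of_ne_of_ne (by simp [hxl]) (by simp), h.lv_inl, rr_single,
      Equiv.swap_apply_of_ne_of_ne (by simp [hxl]) (by simp), one_mul]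
  · rw [cjr_apply, rr_single, Equiv.swap_apply_of_ne_of_ne (by simp) (by simp [hxl]), h.lv_inr, rr_single,
      Equiv.swap_apply_of_ne_of_ne (by simp) (by simp [hxl]), inv_one, one_mul]

theorem cjr_xt_siegel {N : ℕ} {m l : Fin N} (hml : m ≠ l) (t : F) :
    cjr l (xt m l t) = siegel (plusQ (F := F) N) (Pi.single (Sum.inl m) 1) (Pi.single (Sum.inl l) (-t)) := by
  have hb : polar (plusQ (F := F) N) (Pi.single (Sum.inl m) 1) (Pi.single (Sum.inr l) (-t)) = 0 := by
    rw [polar_single_inr, Pi.single_eq_of_ne (by simp [hml.symm]), zero_mul]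
  rw [cjr_eq, lv_xt hml]
  nth_rewrite 2 [← rr_inv]
  rw [CfsgLib.Quad.siegel_conj _ (Q_single _ _) hb, rr_single, rr_single,
    Equiv.swap_apply_of_ne_of_ne (by simp [hml]) (by simp), Equiv.swap_apply_right]

namespace Over

variable {N : ℕ} {Γ : Type u} [Group Γ] {q : ℕ} (W : Over F N Γ q)

/-- The first point. -/
def e0 : Fin N ⊕ Fin N → F := Pi.single (Sum.inl (W.ι (f0 q))) 1

/-- The opposite point. -/
def g0 : Fin N ⊕ Fin N → F := Pi.single (Sum.inr (W.ι (f0 q))) 1

theorem π_xt {a b : Fin (q + 4)} (h : a ≠ b) (u : F) :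
    W.π (W.S.φ (xt a b u)) = siegel (plusQ (F := F) N) (Pi.single (Sum.inl (W.ι a)) 1)
      (Pi.single (Sum.inr (W.ι b)) (-u)) := by
  rw [W.hφ, emb_xt _ _ h, lv_xt (W.inj.ne h)]

theorem π_plus {i j : Fin (q + 4)} (h : i ≠ j) (t : F) :
    W.π (W.S.plus i j t) = siegel (plusQ (F := F) N) (Pi.single (Sum.inl (W.ι i)) 1)
      (Pi.single (Sum.inl (W.ι j)) (-t)) := by
  obtain ⟨A, h1, h2⟩ := Fork.exists_to (F := F) h
  have e := W.S.conj_X h h1 h2 t
  rw [one_mul, one_mul] at e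
  rw [← e, map_mul, map_mul, map_inv, W.hφ, Fork.X, W.hb, emb2_up, cjr_xt_siegel (W.inj.ne fm_ne_fl)]
  rw [CfsgLib.Quad.siegel_conj _ (Q_single _ _) (by rw [polar_single_inl]; simp),
    (maps_emb W.inj h1).lv_inl, (maps_emb W.inj h2).lv_inl, one_mul, one_mul]

theorem lv_stab {A : SLn (q + 4) F} {c : F}
    (h : act A (Pi.single (f0 q) 1) = Pi.single (f0 q) c) :
    (lv (emb W.ι W.inj A)).1 W.e0 = c • W.e0 := by
  classical
  rw [e0, lv_single_inl]
  have hcol : ∀ i, A.1 i (f0 q) = if i = f0 q then c else 0 := fun i => by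
    simpa [act_single, Pi.single_apply] using congrFun h i
  funext k
  rcases k with k | k
  · obtain ⟨k, rfl⟩ := (embEquiv W.ι W.inj).surjective k
    simp only [Sum.elim_inl, act_single, Pi.smul_apply, smul_eq_mul, mul_one]
    show embM W.ι W.inj A.1 _ _ = _
    rw [← embEquiv_inl W.ι W.inj (f0 q)]
    simp only [embM, Matrix.reindex_apply, Matrix.submatrix_apply, Equiv.symm_apply_apply,
      Pi.single_apply, Sum.inl.injEq, EmbeddingLike.apply_eq_iff_eq]
    rcases k with k | k <;> simp [hcol]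
  · simp

/-- The stabiliser of the first point. -/
def stab : Subgroup Γ := (lineFix W.e0).comap W.π

/-- The parts of the parabolic of the first point. -/
def base : Subgroup Γ :=
  closure {x | (∃ A c, act A (Pi.single (f0 q) 1) = Pi.single (f0 q) c ∧ x = W.S.φ A) ∨
    (∃ i j t, x = W.S.plus i j t) ∨ ∃ t, x = W.S.b (low t)}

omit [Finite F] in
theorem col_ne_zero {A : SLn (q + 4) F} {c : F}
    (h : act A (Pi.single (f0 q) 1) = Pi.single (f0 q) c) : c ≠ 0 := by
  rintro rfl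
  have := congrArg (act A⁻¹) h
  rw [act_inv_act] at this
  simpa [act] using congrFun this (f0 q)

theorem b_fix (w : SL2 F) : (W.π (W.S.b w)).1 W.e0 = W.e0 ∧ (W.π (W.S.b w)).1 W.g0 = W.g0 := by
  rw [W.hb]
  exact cjr_single_fix _ (W.inj.ne (ne_of_low f0_low).1) (W.inj.ne (ne_of_low f0_low).2) w

theorem base_le : W.base ≤ W.stab := by
  refine (closure_le _).2 ?_
  rintro _ (⟨A, c, hA, rfl⟩ | ⟨i, j, t, rfl⟩ | ⟨t, rfl⟩)
  · exact ⟨c, col_ne_zero hA, by rw [W.hφ]; exact W.lv_stab hA⟩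
  · refine ⟨1, one_ne_zero, ?_⟩
    rw [one_smul]
    rcases eq_or_ne i j with rfl | h
    · rw [Fork.plus_self, map_one]; rfl
    rw [W.π_plus h, CfsgLib.Quad.siegel_apply (Q_single _ _) (by rw [polar_single_inl]; simp), e0,
      polar_single_inl, polar_single_inl]
    simp
  · exact ⟨1, one_ne_zero, by rw [(W.b_fix _).1, one_smul]⟩

theorem conj_plus_mem (A : SLn (q + 4) F) (i j : Fin (q + 4)) (t : F) :
    W.S.φ A * W.S.plus i j t * (W.S.φ A)⁻¹ ∈ closure {x | ∃ i j t, x = W.S.plus i j t} := by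
  set P : Subgroup Γ := closure {x | ∃ i j t, x = W.S.plus i j t} with hP
  have hp : ∀ i j t, W.S.plus i j t ∈ P := fun i j t => subset_closure ⟨i, j, t, rfl⟩
  suffices ∀ x ∈ P, W.S.φ A * x * (W.S.φ A)⁻¹ ∈ P from this _ (hp i j t)
  have : Nontrivial (Fin (q + 4)) := Fin.nontrivial_iff_two_le.2 (by omega)
  induction A using CfsgLib.Linear.transvection_induction with
  | htransvec a c hac u =>
    intro x hx
    rw [← xt_eq hac]
    induction hx using closure_induction with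
    | mem x hx =>
      obtain ⟨i, j, t, rfl⟩ := hx
      rcases eq_or_ne i j with rfl | hij
      · rw [Fork.plus_self]; simp
      rcases eq_or_ne c i with rfl | hci
      · rcases eq_or_ne a j with rfl | haj
        · rw [(W.S.plus_comm_xt hac hij (.inr ⟨.inr rfl, .inl rfl⟩) u t).eq, mul_inv_cancel_right]
          exact hp _ _ _
        · rw [W.S.plus_near hac haj hij]
          exact mul_mem (hp _ _ _) (hp _ _ _)
      rcases eq_or_ne c j with rfl | hcj
      · rcases eq_or_ne a i with rfl | hai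
        · rw [(W.S.plus_comm_xt hac hij (.inr ⟨.inl rfl, .inr rfl⟩) u t).eq, mul_inv_cancel_right]
          exact hp _ _ _
        · rw [W.S.plus_swap hij.symm t, W.S.plus_near hac hai hij.symm]
          exact mul_mem (hp _ _ _) (hp _ _ _)
      rw [(W.S.plus_comm_xt hac hij (.inl ⟨hci, hcj⟩) u t).eq, mul_inv_cancel_right]
      exact hp _ _ _
    | one => simp
    | mul x y _ _ ihx ihy =>
      rw [show W.S.φ (xt a c u) * (x * y) * (W.S.φ (xt a c u))⁻¹ =
        W.S.φ (xt a c u) * x * (W.S.φ (xt a c u))⁻¹ * (W.S.φ (xt a c u) * y * (W.S.φ (xt a c u))⁻¹) by group]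
      exact mul_mem ihx ihy
    | inv x _ ih =>
      rw [show W.S.φ (xt a c u) * x⁻¹ * (W.S.φ (xt a c u))⁻¹ =
        (W.S.φ (xt a c u) * x * (W.S.φ (xt a c u))⁻¹)⁻¹ by group]
      exact inv_mem ih
  | hmul A B hA hB =>
    intro x hx
    rw [map_mul, show W.S.φ A * W.S.φ B * x * (W.S.φ A * W.S.φ B)⁻¹ =
      W.S.φ A * (W.S.φ B * x * (W.S.φ B)⁻¹) * (W.S.φ A)⁻¹ by group]
    exact hA _ (hB _ hx)

theorem hKφ (A : SLn (q + 4) F) (c : F) (h : act A (Pi.single (f0 q) 1) = Pi.single (f0 q) c) :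
    W.S.φ A ∈ W.base := subset_closure (.inl ⟨A, c, h, rfl⟩)

theorem hKX (A : SLn (q + 4) F) (t : F) : W.S.φ A * W.S.X t * (W.S.φ A)⁻¹ ∈ W.base := by
  rw [← W.S.plus_X]
  refine closure_mono ?_ (W.conj_plus_mem A _ _ t)
  rintro _ ⟨i, j, t, rfl⟩
  exact .inr (.inl ⟨i, j, t, rfl⟩)

theorem hKL (t : F) : W.S.b (low t) ∈ W.base := subset_closure (.inr (.inr ⟨t, rfl⟩))

theorem sep (y : Fin (q + 4) × Bool) (h : W.S.rep y ∈ W.stab) : y = (f0 q, false) := by
  obtain ⟨c, hc, hy⟩ := h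
  rw [e0, ← Pi.single_smul, smul_eq_mul, mul_one] at hy
  have hm : ∀ (x y : oGroup (plusQ (F := F) N)) v, (x * y).1 v = x.1 (y.1 v) := fun _ _ _ => rfl
  rcases y with ⟨i, _ | _⟩
  · obtain ⟨d, hd⟩ := wEl_swap (F := F) (f0 q) i (f0 q)
    rw [Equiv.swap_apply_left] at hd
    simp only [Fork.rep] at hy
    rw [W.hφ, (maps_emb W.inj hd).lv_inl, mul_one] at hy
    have := congrFun hy (Sum.inl (W.ι i))
    by_contra hne
    rw [Pi.single_eq_same, Pi.single_eq_of_ne
      (fun e => hne (by simp [W.inj (Sum.inl.inj e)]))] at this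
    exact hd.ne_zero this
  · exfalso
    obtain ⟨d1, h1⟩ := wEl_swap (F := F) (f0 q) (fm q) (f0 q)
    rw [Equiv.swap_apply_left] at h1
    obtain ⟨d2, h2⟩ := wEl_swap (F := F) (W.ι (fm q)) (W.ι (fl q)) (W.ι (fm q))
    rw [Equiv.swap_apply_left] at h2
    obtain ⟨d3, h3⟩ := wEl_swap (F := F) i (fl q) (fl q)
    rw [Equiv.swap_apply_right] at h3
    simp only [Fork.rep, Fork.nn] at hy
    rw [map_mul, map_mul, W.hφ, W.hφ, W.hb] at hy
    rw [hm, hm] at hy
    have he : emb2 (W.inj.ne fm_ne_fl) (up 1 * low (-(1 : F)⁻¹) * up 1) =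
        wEl (W.ι (fm q)) (W.ι (fl q)) := by
      rw [map_mul, map_mul, emb2_up, emb2_low, inv_one]; rfl
    rw [he, (maps_emb W.inj h1).lv_inl, cjr_apply, rr_single,
      Equiv.swap_apply_of_ne_of_ne (by simp [W.inj.ne (fm_ne_fl (q := q))]) (by simp), h2.lv_inl,
      rr_single, Equiv.swap_apply_left, (maps_emb W.inj h3).lv_inr] at hy
    have := congrFun hy (Sum.inr (W.ι i))
    simp [h1.ne_zero, h2.ne_zero, h3.ne_zero] at this

/-- The smaller Levi factor and the node at the fork. -/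
noncomputable def levi1 : Subgroup Γ :=
  (W.S.φ.comp (emb Fin.succ (Fin.succ_injective (q + 3)))).range ⊔ W.S.b.range

/-- The torus at the first point. -/
noncomputable def torus : Fˣ →* Γ :=
  MonoidHom.mk' (fun c => W.S.φ (SpecialLinearGroup.diag2n (f0_ne_fp (q := q)) c.1 c.ne_zero))
    fun a b => by rw [← map_mul, diag_mul]; rfl

theorem xt_levi {a b : Fin (q + 4)} (ha : a ≠ f0 q) (hb : b ≠ f0 q) (hab : a ≠ b) (u : F) :
    W.S.φ (xt a b u) ∈ W.levi1 := by
  obtain ⟨a', rfl⟩ := Fin.eq_succ_of_ne_zero (show a ≠ 0 from ha)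
  obtain ⟨b', rfl⟩ := Fin.eq_succ_of_ne_zero (show b ≠ 0 from hb)
  refine mem_sup_left ⟨xt a' b' u, ?_⟩
  rw [MonoidHom.comp_apply, emb_xt _ _ (fun e => hab (congrArg Fin.succ e))]

theorem stab_levi {A : SLn (q + 4) F} (hA : Maps A (f0 q) (f0 q) 1) : W.S.φ A ∈ W.levi1 :=
  mem_of_fix (W.levi1.comap W.S.φ) {f0 q} ⟨fm q, fl q, by simpa using (ne_of_low f0_low).1.symm,
      by simpa using (ne_of_low f0_low).2.symm, fm_ne_fl⟩
    (fun a b ha hb hab u => W.xt_levi (by simpa using ha) (by simpa using hb) hab u) A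
    (fun x hx => by rw [Finset.mem_singleton] at hx; subst hx; exact hA)

theorem base_le_sup : W.base ≤ W.S.rad ⊔ (W.torus.range ⊔ W.levi1) := by
  refine (closure_le _).2 ?_
  have hl : W.levi1 ≤ W.S.rad ⊔ (W.torus.range ⊔ W.levi1) := le_sup_of_le_right le_sup_right
  rintro _ (⟨A, c, hA, rfl⟩ | ⟨i, j, t, rfl⟩ | ⟨t, rfl⟩)
  · have hc := col_ne_zero hA
    obtain ⟨d1, -, -⟩ := maps_diag2n (F := F) (f0_ne_fp (q := q)) hc
    set D : SLn (q + 4) F := SpecialLinearGroup.diag2n (f0_ne_fp (q := q)) c hc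
    have hA' : act (D⁻¹ * A) (Pi.single (f0 q) 1) = Pi.single (f0 q) 1 := by
      have e : act A (Pi.single (f0 q) 1) = act D (Pi.single (f0 q) 1) := hA.trans d1.1.symm
      rw [act_mul, e, act_inv_act]
    have h := mem_of_col ((W.S.rad ⊔ (W.torus.range ⊔ W.levi1)).comap W.S.φ) (f0 q)
      ⟨fm q, fl q, (ne_of_low f0_low).1.symm, (ne_of_low f0_low).2.symm, fm_ne_fl⟩
      (fun a b hb hab u => by
        rcases eq_or_ne a (f0 q) with rfl | ha
        · exact mem_sup_left (W.S.xt0_mem b u)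
        · exact hl (W.xt_levi ha hb hab u)) hA'
    have hD : W.S.φ D ∈ W.S.rad ⊔ (W.torus.range ⊔ W.levi1) :=
      mem_sup_right (mem_sup_left ⟨Units.mk0 c hc, rfl⟩)
    have := mul_mem hD (Subgroup.mem_comap.1 h)
    rwa [← map_mul, mul_inv_cancel_left] at this
  · rcases eq_or_ne i j with rfl | hij
    · rw [Fork.plus_self]; exact one_mem _
    rcases eq_or_ne i (f0 q) with rfl | hi
    · exact mem_sup_left (W.S.plus0_mem j t)
    rcases eq_or_ne j (f0 q) with rfl | hj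
    · rw [W.S.plus_swap hij.symm t]; exact mem_sup_left (W.S.plus0_mem i _)
    obtain ⟨σ, hσ⟩ := exists_perm ![f0 q, fm q, fl q] ![f0 q, i, j]
      (by
        intro x y e
        fin_cases x <;> fin_cases y <;>
          simp_all [fm_ne_fl, fm_ne_fl.symm, (ne_of_low (f0_low (q := q))).1,
            (ne_of_low (f0_low (q := q))).2, (ne_of_low (f0_low (q := q))).1.symm,
            (ne_of_low (f0_low (q := q))).2.symm])
      (by intro x y e; fin_cases x <;> fin_cases y <;> simp_all [hi.symm, hj.symm, hij.symm])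
    obtain ⟨A, hA, -⟩ := exists_maps (F := F) σ (fp q)
    have h0 : Maps A (f0 q) (f0 q) 1 := by
      simpa [show σ (f0 q) = f0 q by simpa using hσ 0] using hA _ f0_ne_fp
    have h1 : Maps A (fm q) i 1 := by
      simpa [show σ (fm q) = i by simpa using hσ 1] using hA _ fp_ne_fm.symm
    have h2 : Maps A (fl q) j 1 := by
      simpa [show σ (fl q) = j by simpa using hσ 2] using hA _ fp_ne_fl.symm
    have e := W.S.conj_X hij h1 h2 t
    rw [one_mul, one_mul] at e
    rw [← e]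
    exact hl (mul_mem (mul_mem (W.stab_levi h0) (mem_sup_right ⟨up t, rfl⟩)) (inv_mem (W.stab_levi h0)))
  · exact hl (mem_sup_right ⟨low t, rfl⟩)

theorem levi_le_par : W.levi1 ≤ W.S.par W.base := by
  refine sup_le ?_ ?_
  · rintro _ ⟨A, rfl⟩
    exact W.S.stab_par W.base W.hKφ (maps_emb_out (Fin.succ_injective (q + 3)) A
      (fun i => Fin.succ_ne_zero i))
  · rw [MonoidHom.range_eq_map, ← sl2_gen, MonoidHom.map_closure, closure_le]
    rintro _ ⟨_, ⟨t, rfl⟩ | ⟨t, rfl⟩, rfl⟩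
    · exact W.S.X_par W.base W.hKX t
    · exact W.S.low_par W.base W.hKL t

theorem torus_norm : W.torus.range ≤ normalizer (W.levi1 : Set Γ) := by
  suffices key : ∀ c : Fˣ, ∀ x ∈ W.levi1, W.torus c * x * (W.torus c)⁻¹ ∈ W.levi1 by
    rintro _ ⟨c, rfl⟩
    rw [Subgroup.mem_normalizer_iff]
    refine fun x => ⟨key c x, fun hx => ?_⟩
    have h := key c⁻¹ _ hx
    rw [map_inv] at h
    convert h using 1
    group
  intro c
  set D : SLn (q + 4) F := SpecialLinearGroup.diag2n (f0_ne_fp (q := q)) c.1 c.ne_zero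
  obtain ⟨d1, d2, d3⟩ := maps_diag2n (F := F) (f0_ne_fp (q := q)) c.ne_zero
  have hle : W.levi1.map (MulAut.conj (W.S.φ D)).toMonoidHom ≤ W.levi1 := by
    rw [Subgroup.map_le_iff_le_comap]
    refine sup_le ?_ ?_
    · rintro _ ⟨A, rfl⟩
      show W.S.φ D * W.S.φ (emb _ _ A) * (W.S.φ D)⁻¹ ∈ W.levi1
      rw [← map_inv, ← map_mul, ← map_mul]
      refine W.stab_levi ?_
      have := (d1.inv.mul (maps_emb_out (Fin.succ_injective (q + 3)) A (fun i => Fin.succ_ne_zero i))).mul d1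
      rwa [one_mul, mul_inv_cancel₀ c.ne_zero, ← mul_assoc] at this
    · rintro _ ⟨w, rfl⟩
      show W.S.φ D * W.S.b w * (W.S.φ D)⁻¹ ∈ W.levi1
      rw [(W.S.comm_b (d3 _ (ne_of_low f0_low).1.symm fp_ne_fm.symm)
        (d3 _ (ne_of_low f0_low).2.symm fp_ne_fl.symm) w).eq, mul_inv_cancel_right]
      exact mem_sup_right ⟨w, rfl⟩
  intro x hx
  exact hle ⟨x, hx, rfl⟩

end Over

end CfsgLib.DMult
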