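/-
The elements over the identity lie in the smaller Levi factor.
-/
import Cfsg.Agent.DMult.KerBound

set_option autoImplicit false

namespace CfsgLib.DMult

open Matrix Subgroup QuadraticMap
open CfsgLib.An
open CfsgLib.En (SL2 SL3 iU iL ti ti3 sl2_gen)
open CfsgLib.QP (up low up_coe low_coe up_mul)
open CfsgLib.Quad (plusQ oGroup siegel)

universe u

variable {F : Type u} [Field F] [Finite F]

namespace Over

variable {N : ℕ} {Γ : Type u} [Group Γ] {q : ℕ} (W : Over F N Γ q)

/-- The index set of the root elements at the first point. -/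
abbrev RI (q : ℕ) := {j : Fin (q + 4) // j ≠ f0 q} ⊕ {j : Fin (q + 4) // j ≠ f0 q}

/-- The root elements at the first point. -/
noncomputable def rgen : RI q → F → Γ
  | .inl j, t => W.S.φ (xt (f0 q) j.1 t)
  | .inr j, t => W.S.plus (f0 q) j.1 t

/-- The coordinate of a root element. -/
def rvec : RI q → Fin N ⊕ Fin N
  | .inl j => .inr (W.ι j.1)
  | .inr j => .inl (W.ι j.1)

theorem rgen_add (k : RI q) (t u : F) : W.rgen k (t + u) = W.rgen k t * W.rgen k u := by
  rcases k with j | j
  · simp only [rgen, xt_add j.2.symm, map_mul]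
  · exact W.S.plus_add _ _ _ _

theorem rgen_comm (k k' : RI q) (t u : F) : Commute (W.rgen k t) (W.rgen k' u) := by
  have mixed : ∀ j t h u, j ≠ f0 q → h ≠ f0 q →
      Commute (W.S.φ (xt (f0 q) j t)) (W.S.plus (f0 q) h u) := by
    intro j t h u hj hh
    refine W.S.plus_comm_xt hj.symm hh.symm ?_ t u
    by_cases e : j = h
    · exact .inr ⟨.inl rfl, .inr e⟩
    · exact .inl ⟨hj, e⟩
  rcases k with j | j <;> rcases k' with h | h
  · exact Commute.map (commute_xt j.2.symm h.2.symm h.2.symm j.2 t u) _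
  · exact mixed _ t _ u j.2 h.2
  · exact (mixed _ u _ t h.2 j.2).symm
  · exact W.S.plus_comm _ _ _ _ _ _

theorem π_rgen (k : RI q) (t : F) :
    W.π (W.rgen k t) = siegel (plusQ (F := F) N) W.e0 (Pi.single (W.rvec k) (-t)) := by
  rcases k with j | j
  · exact W.π_xt j.2.symm t
  · exact W.π_plus j.2.symm t

theorem perp_single (k : RI q) (t : F) :
    polar (plusQ (F := F) N) W.e0 (Pi.single (W.rvec k) t) = 0 := by
  rcases k with j | j
  · rw [rvec, polar_single_inr, e0, Pi.single_eq_of_ne (by simp [W.inj.ne j.2]), zero_mul]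
  · rw [rvec, polar_single_inl, e0]; simp

theorem rvec_ne (k : RI q) :
    W.rvec k ≠ Sum.inl (W.ι (f0 q)) ∧ W.rvec k ≠ Sum.inr (W.ι (f0 q)) := by
  rcases k with j | j <;> simp [rvec, W.inj.ne j.2]

theorem rvec_injective : Function.Injective W.rvec := by
  rintro (j | j) (h | h) e <;> simp only [rvec, reduceCtorEq, Sum.inl.injEq, Sum.inr.injEq] at e <;>
    simp [Subtype.ext (W.inj e)]

theorem rgen_pw (v : RI q → F) (s : Set (RI q)) :
    s.Pairwise (Function.onFun Commute fun k => W.rgen k (v k)) :=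
  fun _ _ _ _ _ => W.rgen_comm _ _ _ _

/-- The products of root elements at the first point. -/
noncomputable def rprod (s : Finset (RI q)) (v : RI q → F) : Γ :=
  s.noncommProd (fun k => W.rgen k (v k)) (W.rgen_pw v _)

theorem π_rprod (v : RI q → F) (s : Finset (RI q)) :
    polar (plusQ (F := F) N) W.e0 (∑ k ∈ s, Pi.single (W.rvec k) (-(v k))) = 0 ∧
      W.π (W.rprod s v) = siegel (plusQ (F := F) N) W.e0 (∑ k ∈ s, Pi.single (W.rvec k) (-(v k))) := by
  classical
  induction s using Finset.induction with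
  | empty =>
    rw [rprod, Finset.noncommProd_empty, map_one, Finset.sum_empty]
    exact ⟨polar_zero_right _ _, (CfsgLib.Quad.siegel_zero (Q_single _ _)).symm⟩
  | insert k s hk ih =>
    rw [Finset.sum_insert hk]
    refine ⟨by rw [polar_add_right, W.perp_single, ih.1, add_zero], ?_⟩
    rw [rprod, Finset.noncommProd_insert_of_notMem _ _ _ _ hk, map_mul, W.π_rgen]
    rw [show s.noncommProd (fun k => W.rgen k (v k)) _ = W.rprod s v from rfl, ih.2,
      CfsgLib.Quad.siegel_mul (e := W.e0) (Q_single _ _) (W.perp_single k _) ih.1]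

theorem rgen_zero (k : RI q) : W.rgen k 0 = 1 := by
  have := W.rgen_add k 0 0
  rw [add_zero] at this
  exact mul_eq_left.1 this.symm

theorem rad_eq_rprod {r : Γ} (hr : r ∈ W.S.rad) : ∃ v, r = W.rprod Finset.univ v := by
  classical
  have hadd : ∀ v w, W.rprod Finset.univ (v + w) = W.rprod Finset.univ v * W.rprod Finset.univ w := by
    intro v w
    rw [rprod, rprod, rprod, ← Finset.noncommProd_mul_distrib _ _ _ _ (fun _ _ _ _ _ => W.rgen_comm _ _ _ _)]
    exact Finset.noncommProd_congr rfl (fun k _ => W.rgen_add k _ _) _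
  have hsingle : ∀ k t, W.rprod Finset.univ (Pi.single k t) = W.rgen k t := by
    intro k t
    suffices ∀ s : Finset (RI q), W.rprod s (Pi.single k t) = if k ∈ s then W.rgen k t else 1 by
      rw [this, if_pos (Finset.mem_univ k)]
    intro s
    induction s using Finset.induction with
    | empty => rw [rprod, Finset.noncommProd_empty, if_neg (Finset.notMem_empty k)]
    | insert j s hj ih =>
      rw [rprod, Finset.noncommProd_insert_of_notMem _ _ _ _ hj,
        show s.noncommProd (fun i => W.rgen i ((Pi.single k t : RI q → F) i)) _ =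
          W.rprod s (Pi.single k t) from rfl, ih]
      rcases eq_or_ne j k with rfl | hjk
      · rw [Pi.single_eq_same, if_neg hj, mul_one, if_pos (Finset.mem_insert_self _ _)]
      · rw [Pi.single_eq_of_ne hjk, W.rgen_zero, one_mul]
        exact if_congr (by simp [Ne.symm hjk]) rfl rfl
  have hzero : W.rprod Finset.univ 0 = 1 := by
    have := hadd 0 0
    rw [add_zero] at this
    exact mul_eq_left.1 this.symm
  induction hr using closure_induction with
  | mem x hx =>
    rcases hx with ⟨j, t, hj, rfl⟩ | ⟨j, t, hj, rfl⟩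
    · exact ⟨Pi.single (.inl ⟨j, hj⟩) t, (hsingle (.inl ⟨j, hj⟩) t).symm⟩
    · exact ⟨Pi.single (.inr ⟨j, hj⟩) t, (hsingle (.inr ⟨j, hj⟩) t).symm⟩
  | one => exact ⟨0, hzero.symm⟩
  | mul x y _ _ ihx ihy =>
    obtain ⟨v, rfl⟩ := ihx
    obtain ⟨w, rfl⟩ := ihy
    exact ⟨v + w, (hadd v w).symm⟩
  | inv x _ ih =>
    obtain ⟨v, rfl⟩ := ih
    exact ⟨-v, inv_eq_of_mul_eq_one_right (by rw [← hadd, add_neg_cancel, hzero])⟩

/-- The root elements at the first point which fix the opposite point are trivial. -/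
theorem rad_fix {r : Γ} (hr : r ∈ W.S.rad) :
    (W.π r).1 W.e0 = W.e0 ∧ ((W.π r).1 W.g0 = W.g0 → r = 1) := by
  classical
  obtain ⟨v, rfl⟩ := W.rad_eq_rprod hr
  obtain ⟨hperp, hπ⟩ := W.π_rprod v Finset.univ
  set w : Fin N ⊕ Fin N → F := ∑ k, Pi.single (W.rvec k) (-(v k)) with hw
  have hQ : plusQ (F := F) N W.e0 = 0 := Q_single _ _
  have hee : polar (plusQ (F := F) N) W.e0 W.e0 = 0 := by rw [polar_self, hQ, smul_zero]
  refine ⟨by rw [hπ, CfsgLib.Quad.siegel_apply hQ hperp, hee, hperp]; simp, fun hfix => ?_⟩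
  have hge : polar (plusQ (F := F) N) W.g0 W.e0 = 1 := by
    rw [e0, polar_single_inl, g0, Pi.single_eq_same, mul_one]
  rw [hπ, CfsgLib.Quad.siegel_apply hQ hperp, hge] at hfix
  have hv : ∀ k, v k = 0 := by
    intro k
    have h := congrFun hfix (W.rvec k)
    obtain ⟨h1, h2⟩ := W.rvec_ne k
    simp only [Pi.sub_apply, Pi.add_apply, Pi.smul_apply, smul_eq_mul, g0, e0, Pi.single_eq_of_ne h1,
      Pi.single_eq_of_ne h2, mul_zero, sub_zero, zero_add, one_mul] at h
    rw [hw, Finset.sum_apply, Finset.sum_eq_single k] at h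
    · simpa using h
    · intro j _ hj
      rw [Pi.single_eq_of_ne (fun e => hj (W.rvec_injective e).symm)]
    · simp
  rw [rprod, Finset.noncommProd_eq_pow_card _ _ _ 1 (fun k _ => by rw [hv k, W.rgen_zero]), one_pow]

theorem levi1_fix : W.levi1 ≤ ((vecFix W.e0).comap W.π) ⊓ ((vecFix W.g0).comap W.π) := by
  refine sup_le ?_ ?_
  · rintro _ ⟨A, rfl⟩
    have h := maps_emb W.inj (maps_emb_out (Fin.succ_injective (q + 3)) A (x := f0 q) (fun i => Fin.succ_ne_zero i))
    refine ⟨?_, ?_⟩
    · show (W.π (W.S.φ _)).1 W.e0 = W.e0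
      rw [W.hφ, e0, h.lv_inl, one_mul]
    · show (W.π (W.S.φ _)).1 W.g0 = W.g0
      rw [W.hφ, g0, h.lv_inr, inv_one, one_mul]
  · rintro _ ⟨w, rfl⟩
    exact W.b_fix w

theorem step {z : Γ} (hz : z ∈ ⨆ k, (W.S.node k).range) (h1 : W.π z = 1) : z ∈ W.levi1 := by
  have hpar : z ∈ W.S.par W.base :=
    mem_par_sep W.S W.base W.stab W.hKφ W.hKX W.hKL W.base_le W.sep hz
      ⟨1, one_ne_zero, by rw [h1, one_smul]; rfl⟩
  have hsup := W.base_le_sup (mem_inf.1 hpar).2
  have hT : W.torus.range ≤ W.S.par W.base := by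
    rintro _ ⟨c, rfl⟩
    exact W.S.diag_par W.base W.hKφ f0_ne_fp c.ne_zero
  have hL0 : W.torus.range ⊔ W.levi1 ≤ normalizer (W.S.rad : Set Γ) :=
    (sup_le hT W.levi_le_par).trans inf_le_left
  rw [← SetLike.mem_coe, coe_mul_of_right_le_normalizer_left _ _ hL0] at hsup
  obtain ⟨r, hr, y, hy, hry⟩ := hsup
  rw [SetLike.mem_coe, ← SetLike.mem_coe, coe_mul_of_left_le_normalizer_right _ _ W.torus_norm] at hy
  obtain ⟨t, ⟨c, rfl⟩, y1, hy1, hty⟩ := hy
  subst hry hty
  obtain ⟨hye, hyg⟩ := W.levi1_fix hy1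
  obtain ⟨hre, hrg⟩ := W.rad_fix hr
  have hm : ∀ (x y : oGroup (plusQ (F := F) N)) v, (x * y).1 v = x.1 (y.1 v) := fun _ _ _ => rfl
  obtain ⟨d1, -, -⟩ := maps_diag2n (F := F) (f0_ne_fp (q := q)) c.ne_zero
  have hc : c = 1 := by
    have h := congrArg (fun g : oGroup (plusQ (F := F) N) => g.1 W.e0) h1
    simp only [map_mul, hm] at h
    rw [show (W.π y1).1 W.e0 = W.e0 from hye, show W.π (W.torus c) = lv (emb W.ι W.inj
      (SpecialLinearGroup.diag2n (f0_ne_fp (q := q)) c.1 c.ne_zero)) from W.hφ _,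
      W.lv_stab d1.1, map_smul, hre] at h
    have := congrFun h (Sum.inl (W.ι (f0 q)))
    simp [e0] at this
    exact this
  subst hc
  simp only [map_one, one_mul] at h1 ⊢
  have hr1 : r = 1 := by
    refine hrg ?_
    have h := congrArg (fun g : oGroup (plusQ (F := F) N) => g.1 W.g0) h1
    simp only [map_mul, hm] at h
    rwa [show (W.π y1).1 W.g0 = W.g0 from hyg] at h
  rw [hr1, one_mul]
  exact hy1

/-- The fork on the coordinates after the first. -/
noncomputable def next (W : Over F N Γ (q + 1)) : Over F N Γ q where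
  S :=
    have es : ∀ {a : ℕ} (h : a < q + 4) (h' : a + 1 < q + 1 + 4), Fin.succ (⟨a, h⟩ : Fin (q + 4)) = (⟨a + 1, h'⟩ : Fin (q + 1 + 4)) :=
      fun _ _ => rfl
    { φ := W.S.φ.comp (emb Fin.succ (Fin.succ_injective (q + 4)))
      b := W.S.b
      ψ := W.S.ψ
      pup := fun t => by
        rw [MonoidHom.comp_apply, emb_xt _ _ fp_ne_fm]
        exact W.S.pup t
      plow := fun t => by
        rw [MonoidHom.comp_apply, emb_xt _ _ fp_ne_fm.symm]
        exact W.S.plow t
      ψL := W.S.ψL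
      far := fun j k h h' u A => by
        have hjk : j ≠ k := fun e => by subst e; omega
        rw [MonoidHom.comp_apply, emb_xt _ _ hjk]
        exact W.S.far j.succ k.succ (by simp only [Fin.val_succ]; omega)
          (by simp only [Fin.val_succ]; omega) u A }
  ι := W.ι ∘ Fin.succ
  inj := W.inj.comp (Fin.succ_injective (q + 4))
  π := W.π
  hφ A := by
    show W.π (W.S.φ (emb Fin.succ _ A)) = _
    rw [W.hφ, emb_comp W.inj (Fin.succ_injective (q + 4)) (by omega)]
  hb w := W.hb w

theorem levi1_le_next (W : Over F N Γ (q + 1)) : W.levi1 ≤ ⨆ k, (W.next.S.node k).range := by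
  refine sup_le ?_ ?_
  · rintro _ ⟨A, rfl⟩
    exact φ_mem_nodes W.next.S A
  · exact le_iSup (fun k => (W.next.S.node k).range) none

end Over

end CfsgLib.DMult
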