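/-
A perfect central extension of `Ω` of plus type has at most two elements over the identity.
-/
import Cfsg.Agent.DMult.KerStep

set_option autoImplicit false

namespace CfsgLib.DMult

open Matrix Subgroup QuadraticMap
open CfsgLib.An
open CfsgLib.En (SL2 SL3 iU iL ti ti3 ti3_iU ti3_iL ti_coe iU_coe iL_coe sl2_gen)
open CfsgLib.QP (up low up_coe low_coe up_mul)
open CfsgLib.Quad (plusQ oGroup)
open scoped commutatorElement

universe u

variable {F : Type u} [Field F] [Finite F]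

/-- The antidiagonal. -/
def antiDiag (F : Type u) [Field F] : SL3 F :=
  ⟨!![0, 0, 1; 0, -1, 0; 1, 0, 0], by simp [Matrix.det_fin_three]⟩

/-- The flip of the diagram of `SL(3)`. -/
noncomputable def flip3 (F : Type u) [Field F] : SL3 F →* SL3 F :=
  (MulAut.conj (antiDiag F)).toMonoidHom.comp ti3

omit [Finite F] in
theorem flip3_eq (A : SL2 F) : flip3 F (iU A) = iL A ∧ flip3 F (iL A) = iU A := by
  constructor <;>
  · show antiDiag F * ti3 _ * (antiDiag F)⁻¹ = _
    first | rw [ti3_iU] | rw [ti3_iL]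
    rw [mul_inv_eq_iff_eq_mul]
    apply Subtype.ext
    simp only [Matrix.SpecialLinearGroup.coe_mul, iU_coe, iL_coe]
    ext i j
    fin_cases i <;> fin_cases j <;>
      simp [antiDiag, ti_coe, Matrix.mul_apply, Fin.sum_univ_three]

omit [Finite F] in
theorem normal_le_center {n : ℕ} (hn : 3 ≤ n) (N : Subgroup (SLn n F)) [N.Normal] (hN : N ≠ ⊤) :
    N ≤ center (SLn n F) := by
  have : Nontrivial (Fin n) := Fin.nontrivial_iff_two_le.2 (by omega)
  have h3 : 3 ≤ Fintype.card (Fin n) := by rw [Fintype.card_fin]; exact hn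
  have := CfsgLib.Linear.isSimpleGroup_PSL (ι := Fin n) (F := F) (.inl h3)
  let f : SLn n F →* Matrix.ProjectiveSpecialLinearGroup (Fin n) F := QuotientGroup.mk' _
  have hn' : (N.map f).Normal := Subgroup.Normal.map inferInstance f (QuotientGroup.mk'_surjective _)
  rcases hn'.eq_bot_or_eq_top with h | h
  · intro x hx
    have : f x ∈ (⊥ : Subgroup _) := h ▸ mem_map_of_mem f hx
    exact (QuotientGroup.eq_one_iff x).1 (mem_bot.1 this)
  · refine absurd (eq_top_iff.2 ?_) hN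
    rw [← CfsgLib.Linear.commutator_SL_eq_top (ι := Fin n) (F := F) (.inl h3), _root_.commutator_def, commutator_le]
    intro a _ b _
    obtain ⟨x, hx, ex⟩ := (h ▸ mem_top (f a) : f a ∈ N.map f)
    have hc : ∀ y, y * (x⁻¹ * a) = x⁻¹ * a * y := fun y =>
      mem_center_iff.1 ((QuotientGroup.eq).1 ex) y
    have e : ⁅a, b⁆ = x * (b * x⁻¹ * b⁻¹) := by
      rw [commutatorElement_def, show a * b * a⁻¹ * b⁻¹ = x * ((x⁻¹ * a) * b * (x⁻¹ * a)⁻¹) * x⁻¹ * b⁻¹ by group,
        ← hc b, mul_inv_cancel_right]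
      group
    rw [e]
    exact mul_mem hx ((inferInstance : N.Normal).conj_mem _ (inv_mem hx) b)

namespace Over

variable {N : ℕ} {Γ : Type u} [Group Γ]

/-- The element over the identity at the fork. -/
noncomputable def corner {q : ℕ} (W : Over F N Γ q) : Γ :=
  W.S.b (hd (-1)) * W.S.φ (emb2 (fm_ne_fl (q := q)) (hd (-1)))

theorem base_case_eq (W : Over F N Γ 0) :
    ∀ z ∈ W.levi1, W.π z = 1 → z = 1 ∨ (z = W.corner ∧ (2 : F) ≠ 0) := by
  obtain ⟨hfp, hfm⟩ : fp 0 ≠ fm 0 ∧ fm 0 ≠ fl 0 := ⟨fp_ne_fm, fm_ne_fl⟩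
  let g : ℕ → SL2 F →* Γ := fun i =>
    if i = 0 then W.S.b else if i = 1 then W.S.φ.comp (emb2 hfp) else W.S.φ.comp (emb2 hfm)
  have hψU : ∀ A, W.S.ψ (iU A) = W.S.φ (emb2 hfp A) :=
    DFunLike.congr_fun (hom_ext_sl2 (f := W.S.ψ.comp iU) (g := W.S.φ.comp (emb2 hfp))
      (fun t => by simp only [MonoidHom.comp_apply, emb2_up]; exact (W.S.pup t).symm)
      fun t => by simp only [MonoidHom.comp_apply, emb2_low]; exact (W.S.plow t).symm)
  have hedge : ∀ k, k + 2 < 4 → ∃ ψ : SL3 F →* Γ, (∀ A, ψ (iU A) = g k A) ∧ ∀ A, ψ (iL A) = g (k + 1) A := by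
    intro k hk
    have hk' : k = 0 ∨ k = 1 := by omega
    rcases hk' with rfl | rfl
    · refine ⟨W.S.ψ.comp (flip3 F), fun A => ?_, fun A => ?_⟩
      · rw [MonoidHom.comp_apply, (flip3_eq A).1, W.S.ψL]; rfl
      · rw [MonoidHom.comp_apply, (flip3_eq A).2, hψU]; rfl
    · refine ⟨W.S.φ.comp (emb ![fp 0, fm 0, fl 0] (three_inj hfp fp_ne_fl hfm)), fun A => ?_, fun A => ?_⟩
      · rw [MonoidHom.comp_apply, emb3_iU hfp fp_ne_fl hfm]; rfl
      · rw [MonoidHom.comp_apply, emb3_iL hfp fp_ne_fl hfm]; rfl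
  have hfar : ∀ i j, i + 2 ≤ j → j + 1 < 4 → ∀ A B, Commute (g i A) (g j B) := by
    intro i j hij hj
    obtain ⟨rfl, rfl⟩ : i = 0 ∧ j = 2 := by omega
    refine comm_sl2 fun x _ y hy => ?_
    show Commute (W.S.b x) (W.S.φ (emb2 hfm y))
    rcases hy with ⟨t, rfl⟩ | ⟨t, rfl⟩
    · rw [emb2_up]
      exact (W.S.far _ _ (by simp [fm, fl]) (.inr ⟨by simp [fm], by simp [fl]⟩) t x).symm
    · rw [emb2_low]
      exact (W.S.far _ _ (by simp [fm, fl]) (.inr ⟨by simp [fl], by simp [fm]⟩) t x).symm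
  obtain ⟨χ, hχ⟩ := exists_path g 4 (by omega) hedge hfar
  have hnode : ∀ (j k : Fin 4) (h : k.val = j.val + 1) (hne : j ≠ k) (w : SL2 F),
      χ (emb2 hne w) = g j.val w := fun j k h hne =>
    DFunLike.congr_fun (hom_ext_sl2 (f := χ.comp (emb2 hne)) (g := g j.val)
      (fun t => by simp only [MonoidHom.comp_apply, emb2_up]; exact (hχ j k h t).1)
      fun t => by simp only [MonoidHom.comp_apply, emb2_low]; exact (hχ j k h t).2)
  have hle : W.levi1 ≤ χ.range := by
    refine sup_le ?_ ?_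
    · rintro _ ⟨A, rfl⟩
      refine range_le_of_adj (W.S.φ.comp (emb Fin.succ (Fin.succ_injective (0 + 3)))) χ.range (by omega)
        (fun j k hjk t => ?_) A
      have hne : j ≠ k := fun e => by subst e; omega
      simp only [MonoidHom.comp_apply, emb_xt _ _ hne, emb_xt _ _ hne.symm]
      have hj : j = 0 ∧ k = 1 ∨ j = 1 ∧ k = 2 := by
        fin_cases j <;> fin_cases k <;> simp at hjk ⊢
      rcases hj with ⟨rfl, rfl⟩ | ⟨rfl, rfl⟩
      · refine ⟨⟨xt 1 2 t, ?_⟩, ⟨xt 2 1 t, ?_⟩⟩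
        · rw [(hχ 1 2 rfl t).1]; exact congrArg W.S.φ (emb2_up hfp t)
        · rw [(hχ 1 2 rfl t).2]; exact congrArg W.S.φ (emb2_low hfp t)
      · refine ⟨⟨xt 2 3 t, ?_⟩, ⟨xt 3 2 t, ?_⟩⟩
        · rw [(hχ 2 3 rfl t).1]; exact congrArg W.S.φ (emb2_up hfm t)
        · rw [(hχ 2 3 rfl t).2]; exact congrArg W.S.φ (emb2_low hfm t)
    · rintro _ ⟨w, rfl⟩
      exact ⟨emb2 (show (0 : Fin 4) ≠ 1 by decide) w, hnode 0 1 rfl (by decide) w⟩
  have hker : (W.π.comp χ).ker ≤ center (SLn 4 F) := by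
    refine normal_le_center (by omega) _ fun htop => ?_
    have h : xt (1 : Fin 4) 2 (1 : F) ∈ (W.π.comp χ).ker := htop ▸ mem_top _
    rw [MonoidHom.mem_ker, MonoidHom.comp_apply, (hχ 1 2 rfl 1).1] at h
    have h' : lv (emb W.ι W.inj (emb2 hfp (up (1 : F)))) = 1 := by rw [← W.hφ]; exact h
    rw [emb2_up, emb_xt _ _ hfp] at h'
    have := congrFun (congrArg (fun x : oGroup (plusQ (F := F) N) => x.1 (Pi.single (Sum.inl (W.ι (fm 0))) 1)) h')
      (Sum.inl (W.ι (fp 0)))
    simp [lv_single_inl, act_xt_single (W.inj.ne hfp), W.inj.ne hfp, Pi.single_apply] at this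
  have hsc : ∀ A ∈ (W.π.comp χ).ker, ∀ c : F, A.1 = Matrix.scalar (Fin 4) c → c * c = 1 := by
    intro A hA c hAc
    have hc4 : c ^ 4 = 1 := by
      have := A.2
      rw [hAc] at this
      simpa [Matrix.det_diagonal] using this
    have hc : c ≠ 0 := fun e => by simp [e] at hc4
    have hc2 : c ^ 2 ≠ 0 := pow_ne_zero 2 hc
    have hc3 : c ^ 3 ≠ 0 := pow_ne_zero 3 hc
    have e : A = emb2 (show (0 : Fin 4) ≠ 1 by decide) (hd c) *
        emb2 (show (1 : Fin 4) ≠ 2 by decide) (hd (c ^ 2)) *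
        emb2 (show (2 : Fin 4) ≠ 3 by decide) (hd (c ^ 3)) := by
      rw [emb2_hd _ hc, emb2_hd _ hc2, emb2_hd _ hc3]
      apply Subtype.ext
      rw [hAc, Matrix.SpecialLinearGroup.coe_mul, Matrix.SpecialLinearGroup.coe_mul,
        Linear.diag2n_matrix, Linear.diag2n_matrix, Linear.diag2n_matrix]
      have i1 : (c ^ 3)⁻¹ = c := inv_eq_of_mul_eq_one_right (by rw [← hc4]; ring)
      ext i j
      fin_cases i <;> fin_cases j <;>
        simp [Matrix.mul_apply, Fin.sum_univ_four, Matrix.single_apply, i1] <;> field_simp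
    rw [MonoidHom.mem_ker, MonoidHom.comp_apply, e, map_mul χ, map_mul χ, hnode 0 1 rfl,
      hnode 1 2 rfl, hnode 2 3 rfl] at hA
    have h' : W.π (W.S.b (hd c)) * lv (emb W.ι W.inj (emb2 hfp (hd (c ^ 2)))) *
        lv (emb W.ι W.inj (emb2 hfm (hd (c ^ 3)))) = 1 := by
      rw [← W.hφ, ← W.hφ, ← map_mul, ← map_mul]; exact hA
    rw [emb2_hd _ hc2, emb2_hd _ hc3, W.hb] at h'
    have hv := congrArg (fun x : oGroup (plusQ (F := F) N) => x.1 (Pi.single (Sum.inl (W.ι (fp 0))) 1)) h'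
    have hm : ∀ (x y : oGroup (plusQ (F := F) N)) v, (x * y).1 v = x.1 (y.1 v) := fun _ _ _ => rfl
    simp only [hm] at hv
    rw [(maps_emb W.inj ((maps_diag2n hfm hc3).2.2 _ hfp fp_ne_fl)).lv_inl, one_mul,
      (maps_emb W.inj (maps_diag2n hfp hc2).1).lv_inl, mul_one] at hv
    have hs : (Pi.single (Sum.inl (W.ι (fp 0))) (c ^ 2) : Fin N ⊕ Fin N → F) =
        c ^ 2 • Pi.single (Sum.inl (W.ι (fp 0))) 1 := by rw [← Pi.single_smul, smul_eq_mul, mul_one]
    rw [hs, map_smul, (cjr_single_fix (W.inj.ne hfm) (W.inj.ne hfp) (W.inj.ne fp_ne_fl) _).1] at hv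
    have := congrFun hv (Sum.inl (W.ι (fp 0)))
    simp at this
    rcases this with rfl | rfl <;> ring
  intro z hz hz1
  obtain ⟨A, rfl⟩ := hle hz
  have hA : A ∈ (W.π.comp χ).ker := MonoidHom.mem_ker.2 hz1
  obtain ⟨c, -, hc⟩ := Matrix.SpecialLinearGroup.mem_center_iff.1 (hker hA)
  rcases mul_self_eq_one_iff.1 (hsc A hA c hc.symm) with rfl | rfl
  · rw [show A = 1 from Subtype.ext (by rw [← hc, map_one]; rfl)]
    exact .inl (map_one χ)
  · by_cases h2 : (2 : F) = 0
    · rw [show A = 1 from Subtype.ext (by rw [← hc, show (-1 : F) = 1 by linear_combination -h2, map_one]; rfl)]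
      exact .inl (map_one χ)
    · refine .inr ⟨?_, h2⟩
      have hm1 : (-1 : F) ≠ 0 := neg_ne_zero.2 one_ne_zero
      have e : A = emb2 (show (0 : Fin 4) ≠ 1 by decide) (hd (-1)) *
          emb2 (show (2 : Fin 4) ≠ 3 by decide) (hd (-1)) := by
        rw [emb2_hd _ hm1, emb2_hd _ hm1]
        apply Subtype.ext
        rw [← hc, Matrix.SpecialLinearGroup.coe_mul, Linear.diag2n_matrix, Linear.diag2n_matrix]
        ext i j
        fin_cases i <;> fin_cases j <;>
          simp [Matrix.mul_apply, Fin.sum_univ_four, Matrix.single_apply]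
      rw [e, map_mul, hnode 0 1 rfl, hnode 2 3 rfl]
      rfl

theorem base_case (W : Over F N Γ 0) :
    ∃ ζ : Γ, ∀ z ∈ W.levi1, W.π z = 1 → z = 1 ∨ (z = ζ ∧ (2 : F) ≠ 0) :=
  ⟨_, W.base_case_eq⟩

theorem corner_next {q : ℕ} (W : Over F N Γ (q + 1)) : W.next.corner = W.corner := by
  have h : emb Fin.succ (Fin.succ_injective (q + 4)) (emb2 (fm_ne_fl (q := q)) (hd (-1 : F))) =
      emb2 (fm_ne_fl (q := q + 1)) (hd (-1)) := by
    rw [show emb2 (fm_ne_fl (q := q)) (hd (-1 : F)) = emb ![fm q, fl q] (pair_inj fm_ne_fl) (hd (-1)) from rfl,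
      ← emb_comp (Fin.succ_injective (q + 4)) (pair_inj fm_ne_fl) le_rfl]
    refine DFunLike.congr_fun ?_ _
    show emb (Fin.succ ∘ ![fm q, fl q]) _ = emb ![fm (q + 1), fl (q + 1)] _
    congr 1
    funext i
    fin_cases i <;> rfl
  show W.S.b _ * W.S.φ (emb Fin.succ _ _) = _
  rw [h]
  rfl

/-- At most two elements lie over the identity. -/
theorem ker_two : ∀ {q : ℕ} (W : Over F N Γ q),
    ∃ ζ : Γ, ∀ z ∈ ⨆ k, (W.S.node k).range, W.π z = 1 → z = 1 ∨ (z = ζ ∧ (2 : F) ≠ 0) := by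
  intro q
  induction q with
  | zero =>
    intro W
    obtain ⟨ζ, h⟩ := W.base_case
    exact ⟨ζ, fun z hz h1 => h z (W.step hz h1) h1⟩
  | succ q ih =>
    intro W
    obtain ⟨ζ, h⟩ := ih W.next
    exact ⟨ζ, fun z hz h1 => h z (W.levi1_le_next (W.step hz h1)) h1⟩

end Over

namespace Over

variable {N : ℕ} {Γ : Type u} [Group Γ]

/-- Nothing but the identity lies over the identity when the corner is trivial. -/
theorem ker_trivial : ∀ {q : ℕ} (W : Over F N Γ q), W.corner = 1 →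
    ∀ z ∈ ⨆ k, (W.S.node k).range, W.π z = 1 → z = 1 := by
  intro q
  induction q with
  | zero =>
    intro W hW z hz h1
    rcases W.base_case_eq z (W.step hz h1) h1 with h | ⟨h, -⟩
    exacts [h, h.trans hW]
  | succ q ih =>
    intro W hW z hz h1
    exact ih W.next (W.corner_next.trans hW) z (W.levi1_le_next (W.step hz h1)) h1

end Over

/-- The bound for a perfect central extension. -/
theorem ker_bound_perfect {q : ℕ} {Γ : Type u} [Group Γ] [Finite Γ]
    (π : Γ →* oGroup (plusQ (F := F) (q + 4))) (hexc : ¬(q = 0 ∧ Nat.card F = 2))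
    (hc : π.ker ≤ center Γ) (hrange : π.range = commutator (oGroup (plusQ (F := F) (q + 4))))
    (hperf : commutator Γ = ⊤) :
    ∃ ζ : Γ, ∀ z, π z = 1 → z = 1 ∨ (z = ζ ∧ (2 : F) ≠ 0) := by
  have hexc' : ¬(q + 4 = 4 ∧ Nat.card F = 2) := fun h => hexc ⟨by omega, h.2⟩
  obtain ⟨s0, hs0⟩ := exists_lift π hc (by omega) hexc' (lv (F := F) (n := q + 4))
    (fun A => hrange ▸ lv_mem_omega (by omega) A)
  obtain ⟨s1, hs1⟩ := exists_lift π hc (by omega) hexc' (cjr (F := F) (fl q))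
    (fun A => hrange ▸ cjr_mem_omega (by omega) _ A)
  let L : Lifts F q Γ := { π := π, central := hc, φ := s0, φl := s1, hφ := hs0, hl := hs1 }
  have hemb : ∀ A : SLn (q + 4) F, emb id Function.injective_id A = A := fun A => by
    have : Nontrivial (Fin (q + 4)) := Fin.nontrivial_iff_two_le.2 (by omega)
    induction A using CfsgLib.Linear.transvection_induction with
    | htransvec i j hij c => rw [← xt_eq hij, emb_xt _ _ hij]; rfl
    | hmul A B hA hB => rw [map_mul, hA, hB]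
  let W : Over F (q + 4) Γ q :=
    { S := L.fork, ι := id, inj := Function.injective_id, π := π
      hφ := fun A => by rw [hemb]; exact hs0 A
      hb := fun w => hs1 _ }
  obtain ⟨ζ, hζ⟩ := W.ker_two
  set E : Subgroup Γ := ⨆ k, (W.S.node k).range
  have hE : ∀ g : Γ, g ∈ E := by
    have hcover : ∀ g : Γ, ∃ e ∈ E, π g = π e := by
      intro g
      have h : π g ∈ E.map π := by
        refine omega_le (by omega) (E.map π) (f0 q) (fm q) (fl q) fm_ne_fl (ne_of_low f0_low).1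
          (ne_of_low f0_low).2 (fun A => ⟨_, φ_mem_nodes W.S A, (W.hφ A).trans (by rw [hemb])⟩)
          (fun t => ⟨W.S.node none (up t), le_iSup (fun k => (W.S.node k).range) none ⟨_, rfl⟩, ?_⟩)
          (fun t => ⟨W.S.node none (low t), le_iSup (fun k => (W.S.node k).range) none ⟨_, rfl⟩, ?_⟩)
          (hrange ▸ ⟨g, rfl⟩)
        · exact (W.hb (up t)).trans (by rw [emb2_up]; rfl)
        · exact (W.hb (low t)).trans (by rw [emb2_low]; rfl)
      obtain ⟨e, he, hee⟩ := h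
      exact ⟨e, he, hee.symm⟩
    have hle : commutator Γ ≤ E := by
      rw [_root_.commutator_def, commutator_le]
      intro a _ b _
      obtain ⟨x, hx, ea⟩ := hcover a
      obtain ⟨y, hy, eb⟩ := hcover b
      rw [SLMult.commutator_congr hc ea eb, commutatorElement_def]
      exact mul_mem (mul_mem (mul_mem hx hy) (inv_mem hx)) (inv_mem hy)
    exact fun g => hle (hperf ▸ mem_top g)
  exact ⟨ζ, fun z hz => hζ z (hE z) hz⟩

end CfsgLib.DMult
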