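/-
Creation and annihilation operators on the subsets of `Fin n`, and their anti-transpose.
-/
import Cfsg.Agent.An.OmegaPlus
import Mathlib.Data.Matrix.Mul
import Mathlib.Data.Finset.SymmDiff

set_option autoImplicit false

namespace CfsgLib.DMult

open Matrix QuadraticMap
open CfsgLib.Quad (plusQ oGroup)

variable {F : Type*} [Field F] {n : ℕ}

/-- The operators on the spinors. -/
abbrev Sp (F : Type*) (n : ℕ) := Matrix (Finset (Fin n)) (Finset (Fin n)) F

/-- A monomial matrix. -/
def mono (f : Finset (Fin n) → F) (p : Finset (Fin n) → Finset (Fin n)) : Sp F n :=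
  Matrix.of fun S T => if T = p S then f S else 0

theorem mono_apply (f : Finset (Fin n) → F) (p : Finset (Fin n) → Finset (Fin n)) (S T : Finset (Fin n)) :
    mono f p S T = if T = p S then f S else 0 := rfl

theorem mono_mul (f g : Finset (Fin n) → F) (p r : Finset (Fin n) → Finset (Fin n)) :
    mono f p * mono g r = mono (fun S => f S * g (p S)) fun S => r (p S) := by
  ext S T
  rw [Matrix.mul_apply, Finset.sum_eq_single (p S)]
  · simp only [mono_apply, if_true]
    split_ifs <;> simp
  · intro U _ hU
    simp [mono_apply, hU]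
  · simp

theorem mono_add (f g : Finset (Fin n) → F) (p : Finset (Fin n) → Finset (Fin n)) :
    mono f p + mono g p = mono (fun S => f S + g S) p := by
  ext S T
  simp only [Matrix.add_apply, mono_apply]
  split_ifs <;> simp

theorem one_eq_mono : (1 : Sp F n) = mono (fun _ => 1) id := by
  ext S T
  simp [mono_apply, Matrix.one_apply, eq_comm]

theorem smul_mono (c : F) (f : Finset (Fin n) → F) (p : Finset (Fin n) → Finset (Fin n)) :
    c • mono f p = mono (fun S => c * f S) p := by
  ext S T
  simp only [Matrix.smul_apply, mono_apply, smul_eq_mul]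
  split_ifs <;> simp

theorem transpose_mono (f : Finset (Fin n) → F) (p : Finset (Fin n) → Finset (Fin n))
    (hp : ∀ S, p (p S) = S) : (mono f p)ᵀ = mono (fun S => f (p S)) p := by
  ext S T
  simp only [Matrix.transpose_apply, mono_apply]
  by_cases h : T = p S
  · rw [if_pos h, if_pos (by rw [h, hp]), h]
  · rw [if_neg h, if_neg (fun e => h (by rw [e, hp]))]

/-- The toggle. -/
def tog (i : Fin n) (S : Finset (Fin n)) : Finset (Fin n) := symmDiff S {i}

theorem mem_tog (i j : Fin n) (S : Finset (Fin n)) : j ∈ tog i S ↔ ¬(j ∈ S ↔ j = i) := by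
  simp [tog, Finset.mem_symmDiff]; tauto

theorem tog_tog (i : Fin n) (S : Finset (Fin n)) : tog i (tog i S) = S := by
  ext j; simp only [mem_tog]; tauto

theorem tog_comm (i j : Fin n) (S : Finset (Fin n)) : tog i (tog j S) = tog j (tog i S) := by
  ext k; simp only [mem_tog]; tauto

/-- The sign of an index in a subset. -/
def eps (i : Fin n) (S : Finset (Fin n)) : F := (-1) ^ (S.filter (· < i)).card

theorem eps_mul_self (i : Fin n) (S : Finset (Fin n)) : eps i S * eps i S = (1 : F) := by
  rw [eps, ← pow_add, ← two_mul, pow_mul]; simp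

theorem eps_tog_self (i : Fin n) (S : Finset (Fin n)) : eps i (tog i S) = (eps i S : F) := by
  unfold eps
  congr 2
  ext j
  simp only [Finset.mem_filter, mem_tog]
  constructor <;> rintro ⟨h1, h2⟩ <;> refine ⟨?_, h2⟩ <;>
    have := ne_of_lt h2 <;> tauto

theorem eps_tog {i j : Fin n} (h : i ≠ j) (S : Finset (Fin n)) :
    eps i (tog j S) = (if j < i then -1 else 1) * (eps i S : F) := by
  unfold eps
  by_cases hji : j < i
  · rw [if_pos hji]
    by_cases hjS : j ∈ S
    · have e : insert j ((tog j S).filter (· < i)) = S.filter (· < i) := by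
        ext k; simp only [Finset.mem_insert, Finset.mem_filter, mem_tog]
        constructor
        · rintro (rfl | ⟨h1, h2⟩)
          · exact ⟨hjS, hji⟩
          · exact ⟨by by_cases hk : k = j <;> [exact hk ▸ hjS; tauto], h2⟩
        · rintro ⟨h1, h2⟩
          by_cases hk : k = j
          · exact .inl hk
          · exact .inr ⟨by tauto, h2⟩
      rw [← e, Finset.card_insert_of_notMem (by simp [mem_tog, hjS]), pow_succ]
      ring
    · have e : insert j (S.filter (· < i)) = (tog j S).filter (· < i) := by
        ext k; simp only [Finset.mem_insert, Finset.mem_filter, mem_tog]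
        constructor
        · rintro (rfl | ⟨h1, h2⟩)
          · exact ⟨by tauto, hji⟩
          · exact ⟨fun e => hjS ((e.1 h1) ▸ h1), h2⟩
        · rintro ⟨h1, h2⟩
          by_cases hk : k = j
          · exact .inl hk
          · exact .inr ⟨by tauto, h2⟩
      rw [← e, Finset.card_insert_of_notMem (by simp [hjS]), pow_succ]
      ring
  · rw [if_neg hji, one_mul]
    congr 2
    ext k
    simp only [Finset.mem_filter, mem_tog]
    constructor <;> rintro ⟨h1, h2⟩ <;> refine ⟨?_, h2⟩ <;>
      have : k ≠ j := fun e => hji (e ▸ h2) <;> tauto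

/-- The coefficients of the creation and annihilation operators. -/
def coef : Fin n ⊕ Fin n → Finset (Fin n) → F
  | .inl i, S => if i ∈ S then eps i S else 0
  | .inr i, S => if i ∈ S then 0 else eps i S

/-- The index of an operator. -/
def idx : Fin n ⊕ Fin n → Fin n
  | .inl i => i
  | .inr i => i

/-- The creation and annihilation operators. -/
def op (k : Fin n ⊕ Fin n) : Sp F n := mono (coef k) (tog (idx k))

theorem coef_tog {k : Fin n ⊕ Fin n} {j : Fin n} (h : idx k ≠ j) (S : Finset (Fin n)) :
    coef k (tog j S) = (if j < idx k then -1 else 1) * (coef k S : F) := by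
  by_cases hji : j < idx k
  · rw [if_pos hji]
    rcases k with i | i <;> simp only [idx] at h hji <;> simp only [coef, mem_tog, eps_tog h] <;>
      by_cases hS : i ∈ S <;> simp [hS, h, hji]
  · rw [if_neg hji]
    rcases k with i | i <;> simp only [idx] at h hji <;> simp only [coef, mem_tog, eps_tog h] <;>
      by_cases hS : i ∈ S <;> simp [hS, h, hji]

theorem op_anti (k k' : Fin n ⊕ Fin n) :
    op k * op k' + op k' * op k = (if k' = k.swap then (1 : F) else 0) • (1 : Sp F n) := by
  rw [op, op, mono_mul, mono_mul, one_eq_mono, smul_mono]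
  by_cases h : idx k = idx k'
  · have e1 : (fun S => tog (idx k') (tog (idx k) S)) = (id : Finset (Fin n) → _) :=
      funext fun S => by rw [h, tog_tog]; rfl
    have e2 : (fun S => tog (idx k) (tog (idx k') S)) = (id : Finset (Fin n) → _) :=
      funext fun S => by rw [h, tog_tog]; rfl
    rw [e1, e2, mono_add]
    congr 1
    funext S
    rcases k with i | i <;> rcases k' with j | j <;> simp only [idx] at h <;> subst h <;>
      simp [idx, coef, mem_tog, eps_tog_self, Sum.swap] <;> split_ifs <;> simp [eps_mul_self]
  · have e : (fun S => tog (idx k') (tog (idx k) S)) = fun S => tog (idx k) (tog (idx k') S) :=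
      funext fun S => tog_comm _ _ _
    rw [e, mono_add, if_neg (by rintro rfl; rcases k with i | i <;> simp [idx, Sum.swap] at h)]
    have e0 : (fun S : Finset (Fin n) =>
        coef k S * coef k' (tog (idx k) S) + coef k' S * coef k (tog (idx k') S)) =
        fun _ => (0 : F) := by
      funext S
      rw [coef_tog (Ne.symm h), coef_tog h]
      rcases lt_or_gt_of_ne h with h1 | h1
      · rw [if_pos h1, if_neg h1.asymm]; ring
      · rw [if_neg h1.asymm, if_pos h1]; ring
    rw [e0]
    ext S T
    simp [mono_apply]

theorem op_sq (k : Fin n ⊕ Fin n) : op k * op k = (0 : Sp F n) := by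
  rw [op, mono_mul]
  ext S T
  rcases k with i | i <;> simp [mono_apply, idx, coef, mem_tog, tog_tog, eps_tog_self] <;>
    intros <;> simp_all

/-- The vectors as operators. -/
noncomputable def iota : (Fin n ⊕ Fin n → F) →ₗ[F] Sp F n := Fintype.linearCombination F op

theorem iota_apply (v : Fin n ⊕ Fin n → F) : iota v = ∑ k, v k • (op k : Sp F n) :=
  Fintype.linearCombination_apply F op v

theorem iota_single (k : Fin n ⊕ Fin n) (t : F) : iota (Pi.single k t) = t • (op k : Sp F n) :=
  Fintype.linearCombination_apply_single F op k t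

theorem polar_single (v : Fin n ⊕ Fin n → F) (k : Fin n ⊕ Fin n) (t : F) :
    polar (plusQ n) v (Pi.single k t) = v k.swap * t := by
  rcases k with i | i
  · rw [An.polar_single_inl, mul_comm]; rfl
  · rw [An.polar_single_inr]; rfl

theorem iota_anti (v w : Fin n ⊕ Fin n → F) :
    iota v * iota w + iota w * iota v = polar (plusQ n) v w • (1 : Sp F n) := by
  have key : ∀ k, iota v * op k + op k * iota v = v k.swap • (1 : Sp F n) := fun k => by
    rw [iota_apply, Finset.sum_mul, Finset.mul_sum, ← Finset.sum_add_distrib]
    rw [Finset.sum_eq_single k.swap]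
    · rw [smul_mul_assoc, mul_smul_comm, ← smul_add, op_anti, if_pos (Sum.swap_swap k).symm, one_smul]
    · intro j _ hj
      rw [smul_mul_assoc, mul_smul_comm, ← smul_add, op_anti,
        if_neg (fun e => hj (by rw [e, Sum.swap_swap])), zero_smul, smul_zero]
    · simp
  conv_lhs => rw [iota_apply w, Finset.mul_sum, Finset.sum_mul, ← Finset.sum_add_distrib]
  conv_rhs => rw [show w = ∑ k, Pi.single k (w k) from (Finset.univ_sum_single w).symm]
  have hp : polar (plusQ n) v (∑ k, Pi.single k (w k)) = ∑ k, v k.swap * w k := by
    have h := map_sum (polarBilin (plusQ (F := F) n) v) (fun k => Pi.single k (w k)) Finset.univ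
    simp only [polarBilin_apply_apply, polar_single] at h
    exact h
  rw [hp, Finset.sum_smul]
  refine Finset.sum_congr rfl fun k _ => ?_
  rw [mul_smul_comm, smul_mul_assoc, ← smul_add, key, smul_smul, mul_comm]

theorem iota_sq (v : Fin n ⊕ Fin n → F) : iota v * iota v = plusQ n v • (1 : Sp F n) := by
  suffices ∀ s : Finset (Fin n ⊕ Fin n),
      iota (∑ k ∈ s, Pi.single k (v k)) * iota (∑ k ∈ s, Pi.single k (v k)) =
        plusQ n (∑ k ∈ s, Pi.single k (v k)) • (1 : Sp F n) by
    simpa [Finset.univ_sum_single] using this Finset.univ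
  intro s
  induction s using Finset.induction with
  | empty => simp
  | insert k s hk ih =>
    rw [Finset.sum_insert hk]
    set x : Fin n ⊕ Fin n → F := Pi.single k (v k)
    set y : Fin n ⊕ Fin n → F := ∑ j ∈ s, Pi.single j (v j)
    have hx : iota x * iota x = plusQ n x • (1 : Sp F n) := by
      rw [An.Q_single, zero_smul, iota_single, smul_mul_smul_comm, op_sq, smul_zero]
    have hQ : plusQ n (x + y) = plusQ n x + plusQ n y + polar (plusQ n) x y := by
      rw [polar]; ring
    rw [map_add, hQ, add_smul, add_smul, ← hx, ← ih, ← iota_anti]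
    noncomm_ring

theorem iota_injective : Function.Injective (iota (F := F) (n := n)) := by
  intro v w e
  rw [← sub_eq_zero, ← map_sub] at e
  rw [← sub_eq_zero]
  set u := v - w
  funext k
  let S0 : Finset (Fin n) := if k.isLeft then {idx k} else ∅
  have h := congrFun (congrFun e S0) (tog (idx k) S0)
  rw [iota_apply, Matrix.sum_apply, Finset.sum_eq_single k] at h
  · rcases k with i | i <;>
      simpa [op, mono_apply, S0, coef, idx, eps, Finset.filter_singleton] using h
  · intro j _ hj
    simp only [Matrix.smul_apply, op, mono_apply, smul_eq_mul]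
    split_ifs with hh
    · have hij : idx j = idx k := by
        by_contra hne
        have := congrArg (fun T : Finset (Fin n) => idx k ∈ T) hh
        simp only [mem_tog, eq_iff_iff] at this
        tauto
      rcases k with i | i <;> rcases j with i' | i' <;> simp only [idx] at hij <;> subst hij <;>
        first | exact absurd rfl hj | simp [coef, S0, idx]
    · simp
  · simp

/-- The anti-transpose. -/
def tw : Sp F n := mono (fun S => (-1) ^ (∑ j ∈ S, j.val)) compl

theorem eps_compl (i : Fin n) (S : Finset (Fin n)) :
    eps i S * eps i Sᶜ = ((-1) ^ i.val : F) := by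
  rw [eps, eps, ← pow_add, ← Finset.card_union_of_disjoint
    (Finset.disjoint_filter_filter disjoint_compl_right), ← Finset.filter_union,
    Finset.union_compl, show Finset.univ.filter (· < i) = Finset.Iio i by ext; simp, Fin.card_Iio]

theorem tw_op (k : Fin n ⊕ Fin n) : tw * (op k)ᵀ = op k * (tw : Sp F n) := by
  rw [op, transpose_mono _ _ (tog_tog _), tw, mono_mul, mono_mul]
  have hc : ∀ S : Finset (Fin n), tog (idx k) Sᶜ = (tog (idx k) S)ᶜ := fun S => by
    ext j; simp only [mem_tog, Finset.mem_compl]; tauto
  congr 1
  · funext S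
    have h1 : ∀ i : Fin n, i ∈ S → (-1 : F) ^ (∑ j ∈ S, j.val) =
        (-1) ^ i.val * (-1) ^ (∑ j ∈ tog i S, j.val) := fun i hi => by
      rw [show tog i S = S.erase i by ext j; simp only [mem_tog, Finset.mem_erase]; by_cases hj : j = i <;> simp [hj, hi],
        ← pow_add, Finset.add_sum_erase S (fun j => j.val) hi]
    have h2 : ∀ i : Fin n, i ∉ S → (-1 : F) ^ (∑ j ∈ tog i S, j.val) =
        (-1) ^ i.val * (-1) ^ (∑ j ∈ S, j.val) := fun i hi => by
      rw [show tog i S = insert i S by
        ext j; simp only [mem_tog, Finset.mem_insert]; by_cases hj : j = i <;> simp [hj, hi],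
        Finset.sum_insert hi, pow_add]
    rcases k with i | i <;>
      simp only [coef, idx, mem_tog, Finset.mem_compl, eps_tog_self, iff_true, not_not] <;>
      by_cases hi : i ∈ S <;> simp [hi]
    · rw [h1 i hi, ← eps_compl (F := F) i S]
      linear_combination (eps i S * (-1 : F) ^ (∑ j ∈ tog i S, j.val)) * eps_mul_self (F := F) i Sᶜ
    · rw [h2 i hi, ← eps_compl (F := F) i S]
      linear_combination (-(eps i Sᶜ) * (-1 : F) ^ (∑ j ∈ S, j.val)) * eps_mul_self (F := F) i S
  · funext S
    exact hc S

theorem tw_iota (v : Fin n ⊕ Fin n → F) : tw * (iota v)ᵀ = iota v * (tw : Sp F n) := by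
  rw [iota_apply, Matrix.transpose_sum, Finset.mul_sum, Finset.sum_mul]
  refine Finset.sum_congr rfl fun k _ => ?_
  rw [Matrix.transpose_smul, mul_smul_comm, tw_op, smul_mul_assoc]

/-- The sign operator of a set of indices. -/
def sgn (f : Finset (Fin n) → F) : Sp F n := mono f id

theorem sgn_mul (f g : Finset (Fin n) → F) : sgn f * sgn g = sgn fun S => f S * g S :=
  mono_mul f g id id

/-- A matrix commuting with every operator is a scalar. -/
theorem scalar_of_comm {g : Sp F n} (h : ∀ k, g * op k = op k * g) : ∃ c : F, g = c • 1 := by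
  have hd : ∀ S T : Finset (Fin n), S ≠ T → g S T = 0 := by
    intro S T hST
    obtain ⟨i, hi⟩ : ∃ i, ¬(i ∈ S ↔ i ∈ T) := by
      by_contra hc; push Not at hc; exact hST (Finset.ext hc)
    have e : op (Sum.inl i) * op (Sum.inr i) = sgn (fun R => if i ∈ R then (1 : F) else 0) := by
      rw [op, op, mono_mul, sgn]
      congr 1
      · funext R
        simp only [coef, idx, mem_tog, eps_tog_self]
        split_ifs with h1 <;> simp_all [eps_mul_self]
      · funext R; exact tog_tog i R
    have h2 : g * sgn (fun R => if i ∈ R then (1 : F) else 0) =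
        sgn (fun R => if i ∈ R then (1 : F) else 0) * g := by
      rw [← e, ← mul_assoc, h, mul_assoc, h, ← mul_assoc]
    have h3 := congrFun (congrFun h2 S) T
    rw [Matrix.mul_apply, Matrix.mul_apply, Finset.sum_eq_single T, Finset.sum_eq_single S] at h3
    · simp only [sgn, mono_apply, id, if_true] at h3
      by_cases hS : i ∈ S <;> by_cases hT : i ∈ T <;> simp_all
    all_goals first
      | (intro U _ hU; simp [sgn, mono_apply, hU, Ne.symm hU])
      | simp
  have hstep : ∀ (i : Fin n) (T : Finset (Fin n)), i ∉ T → g (insert i T) (insert i T) = g T T := by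
    intro i T hi
    have ht : tog i (insert i T) = T := by
      ext j; simp only [mem_tog, Finset.mem_insert]; by_cases hj : j = i <;> simp [hj, hi]
    have h3 := congrFun (congrFun (h (Sum.inl i)) (insert i T)) T
    rw [Matrix.mul_apply, Matrix.mul_apply, Finset.sum_eq_single (insert i T),
      Finset.sum_eq_single T] at h3
    · simp only [op, mono_apply, idx, ht, if_true, coef, Finset.mem_insert_self] at h3
      have he := eps_mul_self (F := F) i (insert i T)
      linear_combination (eps i (insert i T) : F) * h3 - (g (insert i T) (insert i T) - g T T) * he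
    all_goals first
      | (intro U _ hU; simp [hd _ _ hU, hd _ _ (Ne.symm hU)])
      | simp
  refine ⟨g ∅ ∅, ?_⟩
  have hall : ∀ T : Finset (Fin n), g T T = g ∅ ∅ := by
    intro T
    induction T using Finset.induction with
    | empty => rfl
    | insert i T hi ih => rw [hstep i T hi, ih]
  ext S T
  rcases eq_or_ne S T with rfl | hST
  · simp [hall S]
  · simp [hd S T hST, hST]

end CfsgLib.DMult
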