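/-
The double cover of `Ω` of plus type inside the units of the spinor operators.
-/
import Cfsg.Agent.DMult.Spinor

set_option autoImplicit false

namespace CfsgLib.DMult

open Matrix QuadraticMap
open CfsgLib.Quad (plusQ oGroup siegel siegel_apply)

variable {F : Type*} [Field F] {n : ℕ}

theorem polar_iota (v w : Fin n ⊕ Fin n → F) :
    iota v * iota w = polar (plusQ n) v w • (1 : Sp F n) - iota w * iota v :=
  eq_sub_of_add_eq (iota_anti v w)

theorem root_sq {x y : Fin n ⊕ Fin n → F} (hx : plusQ n x = 0) (hxy : polar (plusQ n) x y = 0) :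
    iota x * iota y * (iota x * iota y) = (0 : Sp F n) := by
  have e : iota y * iota x = -(iota x * iota y) := by
    rw [polar_iota y x, polar_comm, hxy, zero_smul, zero_sub]
  rw [show iota x * iota y * (iota x * iota y) = iota x * (iota y * iota x) * iota y by
    simp only [mul_assoc], e, mul_neg, ← mul_assoc, iota_sq, hx, zero_smul, zero_mul, neg_zero,
    zero_mul]

open Classical in
/-- The root elements. -/
noncomputable def uel (x y : Fin n ⊕ Fin n → F) : (Sp F n)ˣ :=
  if h : plusQ n x = 0 ∧ polar (plusQ n) x y = 0 then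
    ⟨1 + iota x * iota y, 1 - iota x * iota y,
      by linear_combination (norm := noncomm_ring) (-1 : ℤ) • root_sq h.1 h.2,
      by linear_combination (norm := noncomm_ring) (-1 : ℤ) • root_sq h.1 h.2⟩
  else 1

theorem uel_coe {x y : Fin n ⊕ Fin n → F} (hx : plusQ n x = 0) (hxy : polar (plusQ n) x y = 0) :
    (uel x y).1 = (1 + iota x * iota y : Sp F n) := by
  rw [uel, dif_pos ⟨hx, hxy⟩]

theorem root_conj {x y : Fin n ⊕ Fin n → F} (hx : plusQ n x = 0) (hxy : polar (plusQ n) x y = 0)
    (z : Fin n ⊕ Fin n → F) :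
    (1 + iota x * iota y) * iota z = iota ((siegel (plusQ (F := F) n) x (-y)).1 z) *
      (1 + iota x * iota y : Sp F n) := by
  rw [siegel_apply hx (by rw [polar_neg_right, hxy, neg_zero]), QuadraticMap.map_neg, polar_neg_right]
  simp only [map_sub, map_add, map_smul, map_neg]
  have h1 := polar_iota y z
  have h2 := polar_iota x z
  have hyx : iota y * iota x = -(iota x * iota y : Sp F n) := by
    rw [polar_iota y x, polar_comm, hxy, zero_smul, zero_sub]
  have hxx : iota x * iota x = (0 : Sp F n) := by rw [iota_sq, hx, zero_smul]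
  have hyy := iota_sq y
  rw [polar_comm (plusQ n) z x, polar_comm (plusQ n) z y] at *
  set a := iota x
  set b := iota y
  set c := iota z
  have e1 : a * b * c = polar (plusQ n) y z • a - polar (plusQ n) x z • b + c * (a * b) := by
    calc a * b * c = a * (b * c) := mul_assoc _ _ _
      _ = polar (plusQ n) y z • a - a * c * b := by
          rw [h1, mul_sub, mul_smul_comm, mul_one, mul_assoc]
      _ = _ := by rw [h2, sub_mul, smul_mul_assoc, one_mul, mul_assoc]; abel
  have e2 : a * (a * b) = 0 := by rw [← mul_assoc, hxx, zero_mul]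
  have e3 : b * (a * b) = -(plusQ n y • a) := by
    rw [← mul_assoc, hyx, neg_mul, mul_assoc, hyy, mul_smul_comm, mul_one]
  rw [add_mul, one_mul, e1]
  simp only [mul_add, mul_one, sub_mul, add_mul, smul_mul_assoc, neg_mul, smul_neg, e2, e3,
    smul_zero, add_zero, smul_smul, neg_neg]
  module

/-- The units normalising the vectors by an isometry. -/
def normV (F : Type*) [Field F] (n : ℕ) : Subgroup (Sp F n)ˣ where
  carrier := {g | ∃ h : oGroup (plusQ (F := F) n), ∀ v, g.1 * iota v = iota (h.1 v) * g.1}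
  one_mem' := ⟨1, fun v => by simp⟩
  mul_mem' := by
    rintro g g' ⟨h, hh⟩ ⟨h', hh'⟩
    refine ⟨h * h', fun v => ?_⟩
    rw [Units.val_mul, mul_assoc, hh', ← mul_assoc, hh, mul_assoc]
    rfl
  inv_mem' := by
    rintro g ⟨h, hh⟩
    refine ⟨h⁻¹, fun v => ?_⟩
    have e := hh (h⁻¹.1 v)
    rw [show h.1 (h⁻¹.1 v) = v from h.1.apply_symm_apply v] at e
    rw [Units.inv_mul_eq_iff_eq_mul, ← mul_assoc, e, mul_assoc, Units.mul_inv, mul_one]

/-- The isometry of a unit. -/
noncomputable def vecHom (F : Type*) [Field F] (n : ℕ) : normV F n →* oGroup (plusQ (F := F) n) :=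
  MonoidHom.mk' (fun g => g.2.choose) fun g g' => by
    refine Subtype.ext (LinearEquiv.ext fun v => iota_injective ?_)
    have h1 := (g * g').2.choose_spec v
    have h2 : (g * g').1.1 * iota v = iota (((g.2.choose * g'.2.choose : oGroup (plusQ n))).1 v) *
        (g * g').1.1 := by
      show g.1.1 * g'.1.1 * iota v = iota (g.2.choose.1 (g'.2.choose.1 v)) * (g.1.1 * g'.1.1)
      rw [mul_assoc, g'.2.choose_spec, ← mul_assoc, g.2.choose_spec, mul_assoc]
    exact (Units.mul_left_inj _).1 (h1.symm.trans h2)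

theorem vecHom_spec (g : normV F n) (v : Fin n ⊕ Fin n → F) :
    g.1.1 * iota v = iota ((vecHom F n g).1 v) * g.1.1 := g.2.choose_spec v

theorem vecHom_eq {g : normV F n} {h : oGroup (plusQ (F := F) n)}
    (e : ∀ v, g.1.1 * iota v = iota (h.1 v) * g.1.1) : vecHom F n g = h :=
  Subtype.ext (LinearEquiv.ext fun v =>
    iota_injective ((Units.mul_left_inj _).1 ((vecHom_spec g v).symm.trans (e v))))

/-- The units respecting the anti-transpose. -/
def twGroup (F : Type*) [Field F] (n : ℕ) : Subgroup (Sp F n)ˣ where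
  carrier := {g | g.1 * tw * g.1ᵀ = tw}
  one_mem' := by simp
  mul_mem' := by
    intro g g' hg hg'
    show g.1 * g'.1 * tw * (g.1 * g'.1)ᵀ = tw
    rw [Matrix.transpose_mul, show g.1 * g'.1 * tw * (g'.1ᵀ * g.1ᵀ) =
      g.1 * (g'.1 * tw * g'.1ᵀ) * g.1ᵀ by simp only [mul_assoc], hg', hg]
  inv_mem' := by
    intro g hg
    show (g⁻¹).1 * tw * (g⁻¹).1ᵀ = tw
    calc (g⁻¹).1 * tw * (g⁻¹).1ᵀ = (g⁻¹).1 * (g.1 * tw * g.1ᵀ) * (g⁻¹).1ᵀ := by rw [hg]
      _ = (g⁻¹.1 * g.1) * tw * (g.1ᵀ * (g⁻¹).1ᵀ) := by simp only [mul_assoc]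
      _ = tw := by
        rw [← Matrix.transpose_mul, Units.inv_mul, Matrix.transpose_one, mul_one, one_mul]

/-- The double cover. -/
noncomputable def spin (F : Type*) [Field F] (n : ℕ) : Subgroup (Sp F n)ˣ :=
  Subgroup.closure {g | ∃ x y : Fin n ⊕ Fin n → F, plusQ n x = 0 ∧ polar (plusQ n) x y = 0 ∧ g = uel x y}

theorem uel_mem {x y : Fin n ⊕ Fin n → F} (hx : plusQ n x = 0) (hxy : polar (plusQ n) x y = 0) :
    uel x y ∈ spin F n :=
  Subgroup.subset_closure ⟨x, y, hx, hxy, rfl⟩

theorem spin_le_normV : spin F n ≤ normV F n := by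
  refine (Subgroup.closure_le _).2 ?_
  rintro _ ⟨x, y, hx, hxy, rfl⟩
  exact ⟨siegel (plusQ n) x (-y), fun v => by rw [uel_coe hx hxy]; exact root_conj hx hxy v⟩

theorem spin_le_twGroup : spin F n ≤ twGroup F n := by
  refine (Subgroup.closure_le _).2 ?_
  rintro _ ⟨x, y, hx, hxy, rfl⟩
  show (uel x y).1 * tw * (uel x y).1ᵀ = tw
  have hyx : iota y * iota x = -(iota x * iota y : Sp F n) := by
    rw [polar_iota y x, polar_comm, hxy, zero_smul, zero_sub]
  rw [uel_coe hx hxy, Matrix.transpose_add, Matrix.transpose_one, Matrix.transpose_mul, mul_assoc,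
    mul_add, mul_one, ← mul_assoc tw, tw_iota, mul_assoc (iota y) tw, tw_iota, ← mul_assoc (iota y),
    hyx]
  linear_combination (norm := noncomm_ring) (-1 : ℤ) • congrArg (· * (tw : Sp F n)) (root_sq hx hxy)

/-- The covering map. -/
noncomputable def cov (F : Type*) [Field F] (n : ℕ) : spin F n →* oGroup (plusQ (F := F) n) :=
  (vecHom F n).comp (Subgroup.inclusion spin_le_normV)

theorem cov_uel {x y : Fin n ⊕ Fin n → F} (hx : plusQ n x = 0) (hxy : polar (plusQ n) x y = 0) :
    cov F n ⟨uel x y, uel_mem hx hxy⟩ = siegel (plusQ n) x (-y) :=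
  vecHom_eq fun v => by
    show (uel x y).1 * iota v = _ * (uel x y).1
    rw [uel_coe hx hxy]
    exact root_conj hx hxy v

theorem cov_range : (cov F n).range = CfsgLib.Quad.siegelGroup (plusQ (F := F) n) := by
  refine le_antisymm ?_ ((Subgroup.closure_le _).2 ?_)
  · rw [MonoidHom.range_eq_map, Subgroup.map_le_iff_le_comap]
    rintro ⟨g, hg⟩ -
    rw [Subgroup.mem_comap]
    induction hg using Subgroup.closure_induction with
    | mem g hg =>
      obtain ⟨x, y, hx, hxy, rfl⟩ := hg
      rw [cov_uel hx hxy]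
      exact CfsgLib.Quad.siegel_mem_group hx (by rw [polar_neg_right, hxy, neg_zero])
    | one =>
      rw [show (⟨1, one_mem _⟩ : spin F n) = 1 from rfl, map_one]; exact one_mem _
    | mul a b ha hb iha ihb =>
      rw [show (⟨a * b, mul_mem ha hb⟩ : spin F n) = ⟨a, ha⟩ * ⟨b, hb⟩ from rfl, map_mul]
      exact mul_mem iha ihb
    | inv a ha ih =>
      rw [show (⟨a⁻¹, inv_mem ha⟩ : spin F n) = ⟨a, ha⟩⁻¹ from rfl, map_inv]
      exact inv_mem ih
  · rintro _ ⟨x, y, hx, hxy, rfl⟩
    have hxy' : polar (plusQ n) x (-y) = 0 := by rw [polar_neg_right, hxy, neg_zero]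
    exact ⟨_, by rw [cov_uel hx hxy', neg_neg]⟩

theorem scalar_of_cov {g : spin F n} (h : cov F n g = 1) :
    ∃ c : F, c * c = 1 ∧ g.1.1 = c • 1 := by
  obtain ⟨c, hc⟩ := scalar_of_comm (g := g.1.1) fun k => by
    have := vecHom_spec (Subgroup.inclusion spin_le_normV g) (Pi.single k 1)
    rw [show vecHom F n (Subgroup.inclusion spin_le_normV g) = 1 from h] at this
    simpa [iota_single] using this
  refine ⟨c, ?_, hc⟩
  have h2 : g.1.1 * tw * g.1.1ᵀ = tw := spin_le_twGroup g.2
  rw [hc, Matrix.transpose_smul, Matrix.transpose_one, smul_mul_assoc, one_mul, mul_smul_comm,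
    mul_one, smul_smul] at h2
  have h3 := congrFun (congrFun h2 ∅) (∅ : Finset (Fin n))ᶜ
  simpa [tw, mono_apply] using h3

/-! ## Torus elements -/

/-- The operator with sign at two indices. -/
def sign2 (i j : Fin n) : Finset (Fin n) → F :=
  fun S => (if i ∈ S then -1 else 1) * if j ∈ S then -1 else 1

theorem op_pair {i j : Fin n} (hij : i ≠ j) :
    op (Sum.inl i) * op (Sum.inr j) * (op (Sum.inl j) * op (Sum.inr i)) =
      sgn (fun S => if i ∈ S ∧ j ∉ S then (1 : F) else 0) ∧
    op (Sum.inl i) * op (Sum.inl j) * (op (Sum.inr j) * op (Sum.inr i)) =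
      sgn (fun S => if i ∈ S ∧ j ∈ S then (1 : F) else 0) ∧
    op (Sum.inr j) * op (Sum.inr i) * (op (Sum.inl i) * op (Sum.inl j)) =
      sgn (fun S => if i ∉ S ∧ j ∉ S then (1 : F) else 0) := by
  refine ⟨?_, ?_, ?_⟩ <;>
  · simp only [op, mono_mul, sgn]
    congr 1
    · funext S
      simp only [idx, coef_tog (k := Sum.inl i) (j := j) hij,
        coef_tog (k := Sum.inr i) (j := j) hij, coef_tog (k := Sum.inl j) (j := i) hij.symm,
        coef_tog (k := Sum.inr j) (j := i) hij.symm, tog_tog]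
      simp only [coef, mem_tog, eps_tog_self]
      rcases lt_or_gt_of_ne hij with h | h <;> by_cases h1 : i ∈ S <;> by_cases h2 : j ∈ S <;>
        simp [h, h.asymm, h1, h2, hij, hij.symm, eps_tog hij, eps_tog hij.symm, eps_mul_self] <;>
        linear_combination
          (norm := ring_nf) (eps j S * eps j S) * eps_mul_self (F := F) i S + eps_mul_self (F := F) j S
    · funext S
      simp only [idx]
      ext k
      simp only [mem_tog, id]
      tauto

theorem weyl_sq {R : Type*} [Ring R] {K L : R} (hK : K * K = 0) (hL : L * L = 0)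
    (hKLK : K * L * K = K) (hLKL : L * K * L = L) :
    ((1 + K) * (1 - L) * (1 + K)) * ((1 + K) * (1 - L) * (1 + K)) =
      1 - (K * L + L * K) - (K * L + L * K) := by
  have e : (1 + K) * (1 - L) * (1 + K) = 1 + (K - L) - (K * L + L * K) := by
    linear_combination (norm := noncomm_ring) hK + (-1 : ℤ) • hKLK
  have hN : (K - L) * (K * L + L * K) = K - L ∧ (K * L + L * K) * (K - L) = K - L := by
    constructor
    · linear_combination (norm := noncomm_ring) congrArg (· * L) hK + hKLK + (-1 : ℤ) • hLKL +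
        (-1 : ℤ) • congrArg (· * K) hL
    · linear_combination (norm := noncomm_ring) hKLK + (-1 : ℤ) • congrArg (K * ·) hL +
        congrArg (L * ·) hK + (-1 : ℤ) • hLKL
  have hNN : (K * L + L * K) * (K * L + L * K) = K * L + L * K := by
    linear_combination (norm := noncomm_ring) congrArg (· * L) hKLK + congrArg (· * K) hLKL +
      congrArg (fun x => K * x * K) hL + congrArg (fun x => L * x * L) hK
  rw [e]
  linear_combination (norm := noncomm_ring) hK + hL + hNN + (-1 : ℤ) • hN.1 + (-1 : ℤ) • hN.2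

set_option maxHeartbeats 1000000 in
theorem mem_sgn_of {i j : Fin n} (hij : i ≠ j) (H : Subgroup (Sp F n)ˣ)
    (hH : ∀ (a b : Fin n ⊕ Fin n), (idx a = i ∨ idx a = j) → (idx b = i ∨ idx b = j) → idx a ≠ idx b →
      ∀ t : F, uel (Pi.single a 1) (Pi.single b t) ∈ H) :
    ∃ g ∈ H, g.1 = sgn (sign2 i j) ∧
      ∃ g' ∈ H, g'.1 = sgn fun S => -(sign2 (F := F) i j S) := by
  have mk : ∀ (a b c d : Fin n ⊕ Fin n) (f f' : Finset (Fin n) → F),
      (idx a = i ∨ idx a = j) → (idx b = i ∨ idx b = j) → (idx c = i ∨ idx c = j) →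
      (idx d = i ∨ idx d = j) →
      idx a ≠ idx b → idx c ≠ idx d →
      op a * op b * (op c * op d) = sgn f → op c * op d * (op a * op b) = sgn f' →
      sgn f * (op a * op b) = op a * op b → sgn f' * (op c * op d) = op c * op d →
      ∃ g ∈ H, g.1 = sgn fun S => 1 - (f S + f' S) - (f S + f' S) := by
    intro a b c d f f' ha hb hc hd hab hcd h1 h2 h3 h4
    have hp : ∀ {a b : Fin n ⊕ Fin n}, idx a ≠ idx b → ∀ t : F, plusQ n (Pi.single a 1 : Fin n ⊕ Fin n → F) = 0 ∧
        polar (plusQ n) (Pi.single a (1 : F) : Fin n ⊕ Fin n → F) (Pi.single b t) = 0 := by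
      intro a b h t
      refine ⟨An.Q_single _ _, ?_⟩
      rw [polar_single, Pi.single_eq_of_ne (fun e => h (by rw [← e]; rcases b with b | b <;> rfl)),
        zero_mul]
    have m1 := hH a b ha hb hab 1
    have m2 := hH c d hc hd hcd (-1)
    refine ⟨_, mul_mem (mul_mem (mul_mem m1 m2) m1) (mul_mem (mul_mem m1 m2) m1), ?_⟩
    simp only [Units.val_mul, uel_coe (hp hab 1).1 (hp hab 1).2,
      uel_coe (hp hcd (-1)).1 (hp hcd (-1)).2, iota_single, one_smul, neg_smul, mul_neg,
      ← sub_eq_add_neg]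
    have hsq : ∀ {a b : Fin n ⊕ Fin n}, idx a ≠ idx b → op a * op b * (op a * op b) = (0 : Sp F n) := by
      intro a b h
      have := root_sq (hp h 1).1 (hp h 1).2
      simpa [iota_single] using this
    rw [weyl_sq (hsq hab) (hsq hcd) (by rw [h1, h3]) (by rw [h2, h4]), h1, h2]
    ext S T
    simp only [sgn, Matrix.sub_apply, Matrix.add_apply, Matrix.one_apply, mono_apply, id,
      eq_comm (a := S) (b := T)]
    split_ifs <;> simp
  have hmono : ∀ (f : Finset (Fin n) → F) (a b : Fin n ⊕ Fin n),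
      (∀ S, coef a S * coef b (tog (idx a) S) ≠ (0 : F) → f S = 1) →
      sgn f * (op a * op b) = op a * op b := by
    intro f a b h
    rw [op, op, sgn, mono_mul, mono_mul]
    congr 1
    funext S
    by_cases e : coef a S * coef b (tog (idx a) S) = (0 : F)
    · simp [e]
    · simp [h S e]
  obtain ⟨p1, p2, p3⟩ := op_pair (F := F) hij
  obtain ⟨q1, -, -⟩ := op_pair (F := F) hij.symm
  obtain ⟨g, hg, eg⟩ := mk (Sum.inl i) (Sum.inr j) (Sum.inl j) (Sum.inr i) _ _ (.inl rfl) (.inr rfl) (.inr rfl) (.inl rfl) hij hij.symm p1 q1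
    (hmono _ _ _ fun S => by
      simp [coef, idx, mem_tog, hij, hij.symm]; intros; simp_all)
    (hmono _ _ _ fun S => by
      simp [coef, idx, mem_tog, hij, hij.symm]; intros; simp_all)
  obtain ⟨g', hg', eg'⟩ := mk (Sum.inl i) (Sum.inl j) (Sum.inr j) (Sum.inr i) _ _ (.inl rfl) (.inr rfl) (.inr rfl) (.inl rfl) hij hij.symm p2 p3
    (hmono _ _ _ fun S => by
      simp [coef, idx, mem_tog, hij, hij.symm]; intros; simp_all)
    (hmono _ _ _ fun S => by
      simp [coef, idx, mem_tog, hij, hij.symm]; intros; simp_all)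
  refine ⟨g, hg, ?_, g', hg', ?_⟩
  · rw [eg]; congr 1; funext S
    by_cases h1 : i ∈ S <;> by_cases h2 : j ∈ S <;> simp [sign2, h1, h2]
  · rw [eg']; congr 1; funext S
    by_cases h1 : i ∈ S <;> by_cases h2 : j ∈ S <;> simp [sign2, h1, h2]

theorem mem_spin_sgn {i j : Fin n} (hij : i ≠ j) :
    ∃ g ∈ spin F n, g.1 = sgn (sign2 i j) ∧
      ∃ g' ∈ spin F n, g'.1 = sgn fun S => -(sign2 (F := F) i j S) :=
  mem_sgn_of hij (spin F n) fun a b _ _ hab t => uel_mem (An.Q_single _ _) (by
    rw [polar_single, Pi.single_eq_of_ne (fun e => hab (by rw [← e]; rcases b with b | b <;> rfl)),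
      zero_mul])

theorem neg_one_mem (hn : 2 ≤ n) : (-1 : (Sp F n)ˣ) ∈ spin F n := by
  obtain ⟨g, hg, eg, g', hg', eg'⟩ :=
    mem_spin_sgn (F := F) (i := (⟨0, by omega⟩ : Fin n)) (j := ⟨1, by omega⟩) (by simp [Fin.ext_iff])
  convert mul_mem hg hg'
  refine Units.ext ?_
  rw [Units.val_mul, eg, eg', sgn_mul, Units.val_neg, Units.val_one, one_eq_mono]
  ext S T
  simp only [Matrix.neg_apply, sgn, mono_apply, sign2]
  split_ifs <;> simp

/-- The parity. -/
def par (S : Finset (Fin n)) : F := (-1) ^ S.card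

theorem par_anti (k : Fin n ⊕ Fin n) : sgn par * op k = -(op k * sgn (par (F := F))) := by
  rw [sgn, op, mono_mul, mono_mul]
  ext S T
  simp only [Matrix.neg_apply, mono_apply, id]
  have hc : (par (tog (idx k) S) : F) = -par S := by
    have key : ∀ (i : Fin n) (S : Finset (Fin n)), i ∉ S → (par (tog i S) : F) = -par S := by
      intro i S hi
      rw [show tog i S = insert i S by
        ext j; simp only [mem_tog, Finset.mem_insert]; by_cases hj : j = i <;> simp [hj, hi],
        par, par, Finset.card_insert_of_notMem hi, pow_succ]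
      ring
    by_cases hi : idx k ∈ S
    · have := key (idx k) (tog (idx k) S) (by simp [mem_tog, hi])
      rw [tog_tog] at this
      rw [this, neg_neg]
    · exact key _ _ hi
  rw [hc]
  split_ifs <;> ring

theorem par_iota (v : Fin n ⊕ Fin n → F) : sgn par * iota v = -(iota v * sgn (par (F := F))) := by
  rw [iota_apply, Finset.mul_sum, Finset.sum_mul, ← Finset.sum_neg_distrib]
  refine Finset.sum_congr rfl fun k _ => ?_
  rw [mul_smul_comm, smul_mul_assoc, par_anti, smul_neg]

theorem par_mul_par : sgn par * sgn (par (F := F)) = (1 : Sp F n) := by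
  rw [sgn_mul, one_eq_mono, sgn]
  congr 1
  funext S
  rw [par, ← pow_add, ← two_mul, pow_mul]; simp

/-- For an even number of indices the parity is in the cover. -/
theorem par_mem (heven : Even n) : ∃ g ∈ spin F n, g.1 = sgn par := by
  obtain ⟨m, rfl⟩ := heven
  suffices ∀ k ≤ m, ∃ g ∈ spin F (m + m),
      g.1 = sgn fun S : Finset (Fin (m + m)) => (-1 : F) ^ (S.filter (fun j => j.val < k + k)).card by
    obtain ⟨g, hg, eg⟩ := this m le_rfl
    refine ⟨g, hg, eg.trans ?_⟩
    congr 1; funext S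
    rw [par, Finset.filter_true_of_mem fun j _ => j.isLt]
  intro k
  induction k with
  | zero =>
    intro _
    refine ⟨1, one_mem _, ?_⟩
    rw [Units.val_one, one_eq_mono, sgn]
    congr 1; funext S; simp
  | succ k ih =>
    intro hk
    obtain ⟨g, hg, eg⟩ := ih (by omega)
    let i : Fin (m + m) := ⟨k + k, by omega⟩
    let j : Fin (m + m) := ⟨k + k + 1, by omega⟩
    obtain ⟨h, hh, eh, -⟩ := mem_spin_sgn (F := F) (i := i) (j := j) (by simp [i, j])
    refine ⟨g * h, mul_mem hg hh, ?_⟩
    rw [Units.val_mul, eg, eh, sgn_mul]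
    congr 1; funext S
    have e : S.filter (fun x : Fin (m + m) => x.val < k + 1 + (k + 1)) =
        S.filter (fun x => x.val < k + k) ∪ S.filter (fun x => x = i) ∪ S.filter (fun x => x = j) := by
      ext x
      simp only [Finset.mem_union, Finset.mem_filter, i, j, Fin.ext_iff]
      constructor
      · rintro ⟨h1, h2⟩
        by_cases h3 : x.val < k + k
        · exact .inl (.inl ⟨h1, h3⟩)
        by_cases h4 : x.val = k + k
        · exact .inl (.inr ⟨h1, h4⟩)
        exact .inr ⟨h1, by omega⟩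
      · rintro ((⟨h1, h2⟩ | ⟨h1, h2⟩) | ⟨h1, h2⟩) <;> exact ⟨h1, by omega⟩
    rw [e, Finset.card_union_of_disjoint, Finset.card_union_of_disjoint, pow_add, pow_add, sign2,
      mul_assoc]
    · congr 2 <;> rw [Finset.filter_eq'] <;> split_ifs <;> simp
    all_goals
      rw [Finset.disjoint_left]
      intro x h1 h2
      simp only [Finset.mem_union, Finset.mem_filter, i, j, Fin.ext_iff] at h1 h2
      omega

end CfsgLib.DMult
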