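/-
The double cover is perfect; the kernel of its map to the simple group.
-/
import Cfsg.Agent.DMult.Spin
import Cfsg.Agent.Quad.POmega
import Cfsg.Agent.Schur.Pullback

set_option autoImplicit false

namespace CfsgLib.DMult

open Matrix QuadraticMap
open CfsgLib.Quad (plusQ oGroup negIso)

variable {F : Type*} [Field F] [Finite F] {n : ℕ}

/-- `Ω` of plus type. -/
abbrev Om (F : Type*) [Field F] (n : ℕ) : Subgroup (oGroup (plusQ (F := F) n)) :=
  commutator (oGroup (plusQ (F := F) n))

theorem cov_range_eq (hn : 3 ≤ n) : (cov F n).range = Om F n := by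
  rw [cov_range]
  exact CfsgLib.Quad.siegelGroup_eq_commutator (CfsgLib.Quad.plusQ_nondeg n) (by simp; omega)

/-- The covering map onto `Ω`. -/
noncomputable def covOm (hn : 3 ≤ n) : spin F n →* Om F n :=
  (cov F n).codRestrict (Om F n) fun g => cov_range_eq (F := F) hn ▸ ⟨g, rfl⟩

theorem covOm_coe (hn : 3 ≤ n) (g : spin F n) : (covOm hn g).1 = cov F n g := rfl

theorem covOm_surjective (hn : 3 ≤ n) : Function.Surjective (covOm (F := F) hn) := by
  rintro ⟨h, hh⟩
  obtain ⟨g, hg⟩ := (cov_range_eq (F := F) hn).ge hh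
  exact ⟨g, Subtype.ext hg⟩

omit [Finite F] in
theorem uel_pow {x y : Fin n ⊕ Fin n → F} (hx : plusQ n x = 0) (hxy : polar (plusQ n) x y = 0) (k : ℕ) :
    ((uel x y) ^ k).1 = (1 + (k : F) • (iota x * iota y) : Sp F n) := by
  induction k with
  | zero => simp
  | succ k ih =>
    rw [pow_succ, Units.val_mul, ih, uel_coe hx hxy, Nat.cast_succ, add_smul, one_smul, add_mul,
      one_mul, smul_mul_assoc, mul_add, mul_one, root_sq hx hxy, add_zero]
    abel

omit [Finite F] in
/-- An element over the identity is central, of square one. -/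
theorem cov_ker {z : spin F n} (h : cov F n z = 1) : ∃ c : F, c * c = 1 ∧ z.1.1 = c • 1 ∧ (∀ g, g * z = z * g) ∧ z * z = 1 := by
  obtain ⟨c, hc, e⟩ := scalar_of_cov h
  refine ⟨c, hc, e, fun g => ?_, ?_⟩
  · refine Subtype.ext (Units.ext ?_)
    show g.1.1 * z.1.1 = z.1.1 * g.1.1
    rw [e, smul_mul_assoc, one_mul, mul_smul_comm, mul_one]
  · refine Subtype.ext (Units.ext ?_)
    show z.1.1 * z.1.1 = 1
    rw [e, smul_mul_smul_comm, hc, one_mul, one_smul]

theorem spin_perfect (hn : 3 ≤ n) : commutator (spin F n) = ⊤ := by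
  have hfin : 5 ≤ Module.finrank F (Fin n ⊕ Fin n → F) := by simp; omega
  have hOm := CfsgLib.Quad.commutator_commutator_eq_top (CfsgLib.Quad.plusQ_nondeg (F := F) n) hfin
  have hgen : ∀ (x y : Fin n ⊕ Fin n → F) (hx : plusQ n x = 0) (hxy : polar (plusQ n) x y = 0),
      (⟨uel x y, uel_mem hx hxy⟩ : spin F n) ∈ commutator (spin F n) := by
    intro x y hx hxy
    set u : spin F n := ⟨uel x y, uel_mem hx hxy⟩
    obtain ⟨w, hw, e⟩ : covOm hn u ∈ (commutator (spin F n)).map (covOm hn) := by
      have h := CfsgLib.Schur.map_commutator_of_surjective (covOm (F := F) hn) (covOm_surjective hn)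
      rw [h, hOm]
      trivial
    obtain ⟨c, hc, ec, hcen, hsq⟩ := cov_ker (z := w⁻¹ * u) (by
      rw [map_mul, map_inv, ← covOm_coe hn, ← covOm_coe hn, e, inv_mul_cancel])
    have hu : u = w * (w⁻¹ * u) := by group
    set p := ringChar F
    have hp : u ^ p = 1 := by
      refine Subtype.ext (Units.ext ?_)
      rw [SubgroupClass.coe_pow, show (u.1 ^ p).1 = _ from uel_pow hx hxy p, ringChar.Nat.cast_ringChar,
        zero_smul, add_zero]
      rfl
    have hprime : Nat.Prime p := CharP.char_is_prime F p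
    rcases hprime.eq_two_or_odd with h2 | h2
    · have hz : w⁻¹ * u = 1 := by
        have h20 : (2 : F) = 0 := by
          have := ringChar.Nat.cast_ringChar (R := F)
          rw [show ringChar F = 2 from h2] at this; exact_mod_cast this
        have hc1 : c = 1 := by
          rcases mul_self_eq_one_iff.1 hc with h | h
          · exact h
          · rw [h]; linear_combination -h20
        refine Subtype.ext (Units.ext ?_)
        rw [ec, hc1, one_smul]; rfl
      rw [hu, hz, mul_one]; exact hw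
    · have hz : w⁻¹ * u = (w ^ p)⁻¹ := by
        have h1 : w ^ p * (w⁻¹ * u) ^ p = 1 := by
          rw [← (show Commute w (w⁻¹ * u) from hcen w).mul_pow, ← hu, hp]
        have h3 : (w⁻¹ * u) ^ p = w⁻¹ * u := by
          rw [← Nat.div_add_mod p 2, h2, pow_succ, pow_mul, pow_two, hsq, one_pow, one_mul]
        rw [h3] at h1
        exact (inv_eq_of_mul_eq_one_right h1).symm
      rw [hu, hz]
      exact mul_mem hw (inv_mem (pow_mem hw p))
  rw [eq_top_iff]
  rintro ⟨g, hg⟩ -
  induction hg using Subgroup.closure_induction with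
  | mem g hg =>
    obtain ⟨x, y, hx, hxy, rfl⟩ := hg
    exact hgen x y hx hxy
  | one => exact one_mem _
  | mul a b ha hb iha ihb => exact mul_mem iha ihb
  | inv a ha ih => exact inv_mem ih

/-- The map onto the simple group. -/
noncomputable def covP (hn : 3 ≤ n) : spin F n →* Om F n ⧸ Subgroup.center (Om F n) :=
  (QuotientGroup.mk' _).comp (covOm hn)

theorem covP_surjective (hn : 3 ≤ n) : Function.Surjective (covP (F := F) hn) :=
  (QuotientGroup.mk'_surjective _).comp (covOm_surjective hn)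

theorem covP_ker_iff (hn : 3 ≤ n) (z : spin F n) :
    z ∈ (covP hn).ker ↔ cov F n z = 1 ∨ cov F n z = negIso (plusQ (F := F) n) := by
  have hfin : 5 ≤ Module.finrank F (Fin n ⊕ Fin n → F) := by simp; omega
  have hQ := CfsgLib.Quad.plusQ_nondeg (F := F) n
  rw [covP, MonoidHom.mem_ker, MonoidHom.comp_apply, QuotientGroup.mk'_apply,
    QuotientGroup.eq_one_iff]
  refine ⟨fun h => (CfsgLib.Quad.center_omega_subset hQ hfin _ h).imp (fun e => ?_) id, ?_⟩
  · rw [← covOm_coe hn, e]; rfl
  · rintro (h | h)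
    · rw [show covOm hn z = 1 from Subtype.ext h]; exact one_mem _
    · refine (CfsgLib.Quad.center_iff hQ hfin _).2 ⟨-1, by ring, fun v => ?_⟩
      rw [covOm_coe, h, CfsgLib.Quad.negIso_apply, neg_one_smul]

omit [Finite F] in
/-- An element over minus one is a multiple of the parity. -/
theorem par_of_cov {z : spin F n} (h : cov F n z = negIso (plusQ (F := F) n)) :
    ∃ c : F, c * c * (-1) ^ n = 1 ∧ z.1.1 = c • sgn par := by
  have hz : ∀ v, z.1.1 * iota v = -(iota v * z.1.1) := fun v => by
    have := vecHom_spec (Subgroup.inclusion spin_le_normV z) v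
    rw [show vecHom F n (Subgroup.inclusion spin_le_normV z) = negIso (plusQ (F := F) n) from h] at this
    refine this.trans ?_
    rw [CfsgLib.Quad.negIso_apply, map_neg, neg_mul]; rfl
  obtain ⟨c, hc⟩ := scalar_of_comm (g := sgn par * z.1.1) fun k => by
    have h1 := hz (Pi.single k 1)
    rw [iota_single, one_smul] at h1
    rw [mul_assoc, h1, mul_neg, ← mul_assoc, par_anti, neg_mul, neg_neg, mul_assoc]
  have hzc : z.1.1 = c • sgn par := by
    rw [← one_mul z.1.1, ← par_mul_par, mul_assoc, hc, mul_smul_comm, mul_one]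
  refine ⟨c, ?_, hzc⟩
  have h2 : z.1.1 * tw * z.1.1ᵀ = tw := spin_le_twGroup z.2
  rw [hzc, Matrix.transpose_smul, sgn, transpose_mono _ _ (fun _ => rfl), smul_mul_assoc, mul_smul_comm,
    smul_mul_assoc, smul_smul, tw, mono_mul, mono_mul, smul_mono] at h2
  have h3 := congrFun (congrFun h2 ∅) (∅ : Finset (Fin n))ᶜ
  simpa [mono_apply, par, Finset.compl_empty] using h3

omit [Finite F] in
/-- The elements over plus or minus one are central. -/
theorem covP_central {z : spin F n} (h : cov F n z = 1 ∨ cov F n z = negIso (plusQ (F := F) n)) :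
    z ∈ Subgroup.center (spin F n) := by
  rcases h with h | h
  · obtain ⟨-, -, -, hc, -⟩ := cov_ker h
    exact Subgroup.mem_center_iff.2 hc
  obtain ⟨c, -, hc⟩ := par_of_cov h
  refine Subgroup.mem_center_iff.2 fun g => Subtype.ext (Units.ext ?_)
  show g.1.1 * z.1.1 = z.1.1 * g.1.1
  rw [hc, mul_smul_comm, smul_mul_assoc]
  congr 1
  let C : Subgroup (Sp F n)ˣ :=
    { carrier := {u | u.1 * sgn par = sgn par * u.1}
      one_mem' := by simp
      mul_mem' := fun {a b} ha hb => by
        show a.1 * b.1 * sgn par = sgn par * (a.1 * b.1)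
        rw [mul_assoc, hb, ← mul_assoc, ha, mul_assoc]
      inv_mem' := fun {a} ha => by
        show (a⁻¹).1 * sgn par = sgn par * (a⁻¹).1
        rw [Units.inv_mul_eq_iff_eq_mul, ← mul_assoc, ha, mul_assoc, Units.mul_inv, mul_one] }
  have hle : spin F n ≤ C := by
    refine (Subgroup.closure_le _).2 ?_
    rintro _ ⟨x, y, hx, hxy, rfl⟩
    show (uel x y).1 * sgn par = sgn par * (uel x y).1
    rw [uel_coe hx hxy, add_mul, mul_add, one_mul, mul_one, ← mul_assoc (sgn par), par_iota, neg_mul,
      mul_assoc (iota x) (sgn par), par_iota, mul_neg, neg_neg, mul_assoc]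
  exact hle g.2

theorem covP_isStem (hn : 3 ≤ n) :
    Function.Surjective (covP (F := F) hn) ∧ (covP (F := F) hn).ker ≤ Subgroup.center (spin F n) ∧
      (covP (F := F) hn).ker ≤ commutator (spin F n) :=
  ⟨covP_surjective hn, fun z hz => covP_central ((covP_ker_iff hn z).1 hz), by rw [spin_perfect hn]; exact le_top⟩

theorem card_covOm_ker_two (hn : 3 ≤ n) (h2 : (2 : F) = 0) : (covOm (F := F) hn).ker = ⊥ := by
  rw [Subgroup.eq_bot_iff_forall]
  intro z hz
  obtain ⟨c, hc, ec, -, -⟩ := cov_ker (z := z) (congrArg Subtype.val hz)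
  have hc1 : c = 1 := by
    rcases mul_self_eq_one_iff.1 hc with h | h
    · exact h
    · rw [h]; linear_combination -h2
  refine Subtype.ext (Units.ext ?_)
  rw [ec, hc1, one_smul]; rfl

/-- Minus one in the cover. -/
noncomputable def negOne (hn : 2 ≤ n) : spin F n := ⟨-1, neg_one_mem hn⟩

omit [Finite F] in
theorem negOne_coe (hn : 2 ≤ n) : (negOne (F := F) hn).1.1 = (-1 : F) • (1 : Sp F n) := by
  rw [negOne, Units.val_neg, Units.val_one, neg_one_smul]

omit [Finite F] in
theorem negOne_ne (hn : 2 ≤ n) (h2 : (2 : F) ≠ 0) : negOne (F := F) hn ≠ 1 := by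
  intro e
  have := congrFun (congrFun (congrArg (fun z : spin F n => z.1.1) e) ∅) (∅ : Finset (Fin n))
  simp [negOne] at this
  exact h2 (by linear_combination -this)

omit [Finite F] in
theorem cov_negOne (hn : 2 ≤ n) : cov F n (negOne hn) = 1 :=
  vecHom_eq fun v => by
    show (-1 : Sp F n) * iota v = iota v * (-1 : Sp F n)
    rw [neg_one_mul, mul_neg_one]

omit [Finite F] in
theorem cov_ker_cases (hn : 2 ≤ n) {z : spin F n} (h : cov F n z = 1) :
    z = 1 ∨ z = negOne hn := by
  obtain ⟨c, hc, ec, -, -⟩ := cov_ker h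
  rcases mul_self_eq_one_iff.1 hc with rfl | rfl
  · exact .inl (Subtype.ext (Units.ext (by rw [ec, one_smul]; rfl)))
  · exact .inr (Subtype.ext (Units.ext (by rw [ec, negOne_coe])))

theorem card_covOm_ker (hn : 3 ≤ n) (h2 : (2 : F) ≠ 0) : Nat.card (covOm (F := F) hn).ker = 2 := by
  refine Nat.card_eq_two_iff.mpr ⟨1, ⟨negOne (by omega), Subtype.ext (cov_negOne _)⟩,
    fun e => negOne_ne (by omega) h2 (congrArg Subtype.val e).symm, ?_⟩
  refine Set.eq_univ_iff_forall.mpr fun g => ?_
  rcases cov_ker_cases (F := F) (n := n) (by omega) (congrArg Subtype.val g.2 : cov F n g.1 = 1) with h | h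
  · exact Or.inl (Subtype.ext h)
  · exact Or.inr (Subtype.ext h)

/-- For trivial two there is no kernel. -/
theorem covP_ker_two (hn : 3 ≤ n) (h2 : (2 : F) = 0) : (covP (F := F) hn).ker = ⊥ := by
  rw [Subgroup.eq_bot_iff_forall]
  intro z hz
  refine (Subgroup.eq_bot_iff_forall _).1 (card_covOm_ker_two hn h2) z ?_
  rw [MonoidHom.mem_ker]
  refine Subtype.ext ?_
  rw [covOm_coe]
  rcases (covP_ker_iff hn z).1 hz with h | h
  · exact h
  · rw [h]
    refine Subtype.ext (LinearEquiv.ext fun v => ?_)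
    show -v = v
    rw [← neg_one_smul F v, show (-1 : F) = 1 by linear_combination -h2, one_smul]

/-- With no element over minus one the kernel is `±1`. -/
theorem covP_ker_notMem (hn : 3 ≤ n) (h : negIso (plusQ (F := F) n) ∉ Om F n) :
    (covP (F := F) hn).ker = (covOm hn).ker := by
  ext z
  rw [covP_ker_iff, MonoidHom.mem_ker]
  exact ⟨fun e => Subtype.ext (e.resolve_right fun e' => h (e' ▸ (covOm hn z).2)), fun e => Or.inl (congrArg Subtype.val e)⟩

omit [Finite F] in
theorem cov_par {z : spin F n} (h : z.1.1 = sgn par) : cov F n z = negIso (plusQ (F := F) n) :=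
  vecHom_eq fun v => by
    show z.1.1 * iota v = iota (-v) * z.1.1
    rw [h, par_iota, map_neg, neg_mul]

omit [Finite F] in
theorem negIso_mem_of_even (hn : 3 ≤ n) (heven : Even n) [Finite F] :
    negIso (plusQ (F := F) n) ∈ Om F n := by
  obtain ⟨g, hg, e⟩ := par_mem (F := F) heven
  rw [← cov_par (z := ⟨g, hg⟩) e, ← covOm_coe hn]
  exact Subtype.coe_prop _

theorem negIso_mem_iff_of_odd (hn : 3 ≤ n) (hodd : Odd n) :
    negIso (plusQ (F := F) n) ∈ Om F n ↔ IsSquare (-1 : F) := by
  have e : negIso (plusQ (F := F) n) = CfsgLib.Quad.levi n (-1 : GL (Fin n) F) := by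
    refine Subtype.ext (LinearEquiv.ext fun v => funext fun k => ?_)
    rw [CfsgLib.Quad.negIso_apply, CfsgLib.Quad.levi_apply]
    rcases k with k | k <;> simp [Matrix.neg_mulVec, Units.val_neg]
  rw [e]
  refine (CfsgLib.Quad.levi_mem_iff (Or.inr (by omega)) _).trans ?_
  rw [Units.val_neg, Units.val_one, Matrix.det_neg, Matrix.det_one, mul_one, Fintype.card_fin, hodd.neg_one_pow]

omit [Finite F] in
theorem sgn_par_ne (hn : 1 ≤ n) (h2 : (2 : F) ≠ 0) (c : F) :
    (sgn par : Sp F n) ≠ c • 1 := by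
  intro e
  have h0 := congrFun (congrFun e ∅) (∅ : Finset (Fin n))
  have h1 := congrFun (congrFun e {⟨0, hn⟩}) ({⟨0, hn⟩} : Finset (Fin n))
  simp [sgn, mono_apply, par] at h0 h1
  exact h2 (by linear_combination h0 - h1)

omit [Finite F] in
theorem negOne_sq (hn : 2 ≤ n) : negOne (F := F) hn * negOne hn = 1 := by
  refine Subtype.ext (Units.ext ?_)
  show (negOne (F := F) hn).1.1 * (negOne hn).1.1 = 1
  rw [negOne_coe, smul_mul_smul_comm, one_mul, show (-1 : F) * -1 = 1 by ring, one_smul]

/-- With minus one in `Ω` the kernel has four elements. -/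
theorem covP_ker_mem (hn : 3 ≤ n) (h2 : (2 : F) ≠ 0) (hmem : negIso (plusQ (F := F) n) ∈ Om F n) :
    Nat.card (covP (F := F) hn).ker = 4 ∧
      (Even n → ∀ z ∈ (covP (F := F) hn).ker, z * z = 1) ∧
      (Odd n → IsCyclic (covP (F := F) hn).ker) := by
  classical
  obtain ⟨g, hg⟩ := covOm_surjective (F := F) hn ⟨_, hmem⟩
  have hcg : cov F n g = negIso (plusQ (F := F) n) := congrArg Subtype.val hg
  obtain ⟨c, hc, ec⟩ := par_of_cov hcg
  have hgk : g ∈ (covP (F := F) hn).ker := (covP_ker_iff hn g).2 (Or.inr hcg)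
  set m1 := negOne (F := F) (n := n) (by omega) with hm1
  have hmk : m1 ∈ (covP (F := F) hn).ker := (covP_ker_iff hn m1).2 (Or.inl (cov_negOne _))
  have hall : ∀ z ∈ (covP (F := F) hn).ker, z = 1 ∨ z = m1 ∨ z = g ∨ z = g * m1 := by
    intro z hz
    rcases (covP_ker_iff hn z).1 hz with h | h
    · rcases cov_ker_cases (n := n) (by omega) h with h | h
      exacts [.inl h, .inr (.inl h)]
    · have h' : cov F n (g⁻¹ * z) = 1 := by rw [map_mul, map_inv, hcg, h, inv_mul_cancel]
      rcases cov_ker_cases (n := n) (by omega) h' with h' | h'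
      · exact .inr (.inr (.inl (inv_mul_eq_one.1 h').symm))
      · exact .inr (.inr (.inr (by rw [hm1, ← h', mul_inv_cancel_left])))
  have hgne : cov F n g ≠ 1 := by
    intro e
    obtain ⟨d, -, ed, -, -⟩ := cov_ker e
    have hc0 : c ≠ 0 := left_ne_zero_of_mul (left_ne_zero_of_mul (hc.symm ▸ one_ne_zero))
    refine sgn_par_ne (n := n) (by omega) h2 (c⁻¹ * d) ?_
    rw [← smul_smul, ← ed, ec, smul_smul, inv_mul_cancel₀ hc0, one_smul]
  have hgsq : g * g = if Even n then 1 else m1 := by
    refine Subtype.ext (Units.ext ?_)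
    show g.1.1 * g.1.1 = _
    rw [ec, smul_mul_smul_comm, par_mul_par]
    split_ifs with he
    · rw [he.neg_one_pow, mul_one] at hc
      rw [hc, one_smul]; rfl
    · rw [(Nat.not_even_iff_odd.1 he).neg_one_pow] at hc
      rw [negOne_coe, show c * c = -1 by linear_combination -hc]
  have hd : ∀ {a b : spin F n}, cov F n a ≠ cov F n b → a ≠ b := fun h e => h (e ▸ rfl)
  have hcm : cov F n m1 = 1 := cov_negOne _
  have hm1ne : m1 ≠ 1 := negOne_ne _ h2
  let l : List (spin F n) := [1, m1, g, g * m1]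
  have hl : l.Nodup := by
    simp only [l, List.nodup_cons, List.mem_cons, List.not_mem_nil, or_false, List.nodup_nil, and_true,
      not_or, not_false_iff]
    exact ⟨⟨hm1ne.symm, hd (by rw [map_one]; exact hgne.symm), hd (by rw [map_one, map_mul, hcm, mul_one]; exact hgne.symm)⟩,
      ⟨hd (by rw [hcm]; exact hgne.symm), hd (by rw [map_mul, hcm, mul_one]; exact hgne.symm)⟩,
      fun e => hm1ne (left_eq_mul.1 e)⟩
  have hcard : Nat.card (covP (F := F) hn).ker = 4 := by
    rw [show ((covP (F := F) hn).ker : Subgroup _) = ((covP (F := F) hn).ker) from rfl]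
    have he : ((covP (F := F) hn).ker : Set (spin F n)) = ↑l.toFinset := by
      ext z
      simp only [List.coe_toFinset, Set.mem_setOf_eq, SetLike.mem_coe, l, List.mem_cons, List.not_mem_nil, or_false]
      exact ⟨hall z, fun h => by rcases h with rfl | rfl | rfl | rfl; exacts [one_mem _, hmk, hgk, mul_mem hgk hmk]⟩
    calc Nat.card (covP (F := F) hn).ker = Nat.card (l.toFinset : Set (spin F n)) := Nat.card_congr (Equiv.setCongr he)
      _ = l.toFinset.card := by rw [Nat.card_coe_set_eq, Set.ncard_coe_finset]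
      _ = 4 := by rw [List.toFinset_card_of_nodup hl]; rfl
  refine ⟨hcard, fun he z hz => ?_, fun ho => ?_⟩
  · have hmg : m1 * g = g * m1 := (Subgroup.mem_center_iff.1 (covP_central (Or.inl hcm)) g).symm
    rw [if_pos he] at hgsq
    rcases hall z hz with rfl | rfl | rfl | rfl
    · rw [one_mul]
    · exact negOne_sq _
    · exact hgsq
    · rw [mul_assoc, ← mul_assoc m1, hmg, mul_assoc g m1, negOne_sq, mul_one, hgsq]
  · rw [if_neg (Nat.not_even_iff_odd.2 ho)] at hgsq
    refine ⟨⟨g, hgk⟩, fun z => ?_⟩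
    rcases hall z.1 z.2 with h | h | h | h
    · exact ⟨0, Subtype.ext (by simp [h])⟩
    · exact ⟨2, Subtype.ext (by rw [h]; simp [zpow_two, ← hgsq, pow_two])⟩
    · exact ⟨1, Subtype.ext (by simp [h])⟩
    · refine ⟨3, Subtype.ext ?_⟩
      rw [h]
      show ((⟨g, hgk⟩ : (covP (F := F) hn).ker) ^ (3 : ℤ)).1 = _
      rw [SubgroupClass.coe_zpow, show (3 : ℤ) = 1 + 2 from rfl, _root_.zpow_add, zpow_one, zpow_two, hgsq]

end CfsgLib.DMult
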