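/-
The double cover of `Ω` is the universal cover of the simple group `PΩ` of plus type.
-/
import Cfsg.Agent.DMult.KerMain
import Cfsg.Agent.DMult.SpinFacts
import Cfsg.Agent.SLMult.PSL
import Cfsg.Prelude.Def_KGroupFacts

set_option autoImplicit false

namespace CfsgLib.DMult

open Subgroup QuadraticMap
open CfsgLib.Quad (plusQ oGroup negIso)
open scoped commutatorElement

universe u

variable {F : Type u} [Field F] [Finite F]

instance finite_oGroup {N : ℕ} : Finite (oGroup (plusQ (F := F) N)) :=
  Finite.of_injective (fun x => (x.1 : (Fin N ⊕ Fin N → F) → (Fin N ⊕ Fin N → F)))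
    fun x y h => Subtype.ext (LinearEquiv.ext (congrFun h))

/-- A perfect central extension of the double cover is trivial. -/
theorem cover_bijective {q : ℕ} (hexc : ¬(q = 0 ∧ Nat.card F = 2)) {E : Type u} [Group E] [Finite E]
    (f : E →* spin F (q + 4)) (hf : Function.Surjective f) (hc : f.ker ≤ center E)
    (hperf : commutator E = ⊤) : Function.Bijective f := by
  refine ⟨?_, hf⟩
  have h3 : 3 ≤ q + 4 := by omega
  set π : E →* oGroup (plusQ (F := F) (q + 4)) :=
    ((commutator _).subtype.comp (covOm h3)).comp f with hπ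
  have hcπ : π.ker ≤ center E := by
    intro z hz
    have hz' : cov F (q + 4) (f z) = 1 := hz
    obtain ⟨-, -, -, hcen, -⟩ := cov_ker hz'
    have key : commutator E ≤ centralizer {z} := by
      rw [_root_.commutator_def, commutator_le]
      intro a _ b _
      refine mem_centralizer_singleton_iff.2 ?_
      have e : z * ⁅a, b⁆ * z⁻¹ = ⁅a, b⁆ := by
        rw [show z * ⁅a, b⁆ * z⁻¹ = ⁅z * a * z⁻¹, z * b * z⁻¹⁆ by
          rw [commutatorElement_def, commutatorElement_def]; group]
        refine SLMult.commutator_congr hc ?_ ?_ <;>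
          rw [map_mul, map_mul, map_inv, ← hcen, mul_inv_cancel_right]
      exact (mul_inv_eq_iff_eq_mul.1 e).symm
    rw [hperf] at key
    exact mem_center_iff.2 fun y => mem_centralizer_singleton_iff.1 (key (mem_top y))
  have hrange : π.range = commutator (oGroup (plusQ (F := F) (q + 4))) := by
    rw [hπ, MonoidHom.range_comp, MonoidHom.range_eq_top.2 hf, ← MonoidHom.range_eq_map,
      MonoidHom.range_comp, MonoidHom.range_eq_top.2 (covOm_surjective h3), ← MonoidHom.range_eq_map,
      Subgroup.range_subtype]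
  obtain ⟨ζ, hζ⟩ := ker_bound_perfect π hexc hcπ hrange hperf
  rw [injective_iff_map_eq_one]
  intro y hy
  have hy' : π y = 1 := by
    show cov F (q + 4) (f y) = 1
    rw [hy, map_one]
  rcases hζ y hy' with h | ⟨h, h2⟩
  · exact h
  obtain ⟨w, hw⟩ := hf (negOne (by omega))
  have hw' : π w = 1 := by
    show cov F (q + 4) (f w) = 1
    rw [hw, cov_negOne]
  rcases hζ w hw' with h' | ⟨h', -⟩
  · exact absurd (by rw [← hw, h', map_one]) (negOne_ne (F := F) (n := q + 4) (by omega) h2)
  · exact absurd (by rw [← hw, h', ← h, hy]) (negOne_ne (F := F) (n := q + 4) (by omega) h2)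

set_option maxHeartbeats 2000000 in
/-- The multiplier is the kernel of the map from the double cover. -/
theorem hasSchurMultiplier_pomega {n : ℕ} (hn : 4 ≤ n) (hexc : ¬(n = 4 ∧ Nat.card F = 2))
    {A : Type} [CommGroup A] (e : (covP (F := F) (n := n) (by omega)).ker ≃* A) :
    Cfsg.HasSchurMultiplier (Cfsg.POmega F (Cfsg.quadFormPlus n F)) A := by
  rw [← CfsgLib.Quad.plusQ_coe]
  obtain ⟨q, rfl⟩ : ∃ q, n = q + 4 := ⟨n - 4, by omega⟩
  have h3 : 3 ≤ q + 4 := by omega
  let i := CfsgLib.Quad.pOmegaEquiv (plusQ (F := F) (q + 4))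
  let τ := i.symm.toMonoidHom.comp (covP (F := F) h3)
  obtain ⟨hs, hc, -⟩ := covP_isStem (F := F) h3
  have hker : τ.ker = (covP (F := F) h3).ker := by
    ext z
    simp only [τ, MonoidHom.mem_ker, MonoidHom.comp_apply]
    exact i.symm.map_eq_one_iff
  have hτ : Cfsg.IsStemExtension τ :=
    ⟨i.symm.surjective.comp hs, hker.le.trans hc, by rw [spin_perfect h3]; exact le_top⟩
  let e' : τ.ker ≃* A := (MulEquiv.subgroupCongr hker).trans e
  refine ⟨⟨spin F (q + 4), inferInstance, inferInstance, τ, hτ, ⟨e'⟩⟩, fun Γ _ _ σ hσ => ?_⟩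
  have hsurjP := Schur.psnd_surjective σ τ hσ.1
  have hcP := SLMult.psnd_ker_le_center σ τ hσ.2.1
  obtain ⟨hfs, hfc, hfd⟩ := SLMult.derived_stem _ hsurjP hcP (spin_perfect (F := F) h3)
  set f := (Schur.psnd σ τ).comp (commutator (Schur.pullback σ τ)).subtype
  have hperf : commutator (commutator (Schur.pullback σ τ)) = ⊤ := by
    refine eq_top_iff.2 fun y _ => ?_
    obtain ⟨c, hc', ec⟩ : f y ∈ (commutator (commutator (Schur.pullback σ τ))).map f := by
      rw [Schur.map_commutator_of_surjective f hfs, spin_perfect h3]; trivial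
    have := mul_mem hc' (hfd (show c⁻¹ * y ∈ f.ker by
      rw [MonoidHom.mem_ker, map_mul, map_inv, ec, inv_mul_cancel]))
    rwa [mul_inv_cancel_left] at this
  have hb := cover_bijective (fun h => hexc ⟨by omega, h.2⟩) f hfs hfc hperf
  let g := MulEquiv.ofBijective f hb
  obtain ⟨φ, hφ⟩ := SLMult.ker_bound hσ hτ.1
    ((commutator (Schur.pullback σ τ)).subtype.comp g.symm.toMonoidHom)
    (fun d => g.apply_symm_apply d)
  exact ⟨φ.comp e'.symm.toMonoidHom, hφ.comp e'.symm.surjective⟩

/-- The orders `q ^ l - 1` modulo four. -/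
theorem isSquare_neg_one {q : ℕ} (hq : Nat.card F = q) {l : ℕ} (hl : Odd l) (hodd : Odd q) :
    IsSquare (-1 : F) ↔ q ^ l % 4 = 1 := by
  rw [← CfsgLib.Quad.isSquare_neg_one_pow_iff hq hodd l, hl.neg_one_pow]

end CfsgLib.DMult
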