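/-
A perfect central extension of `Ω` of plus type of dimension six has at most two elements over the
identity.
-/
import Cfsg.Agent.Quad.Klein
import Cfsg.Agent.SLMult.PSL

set_option autoImplicit false

namespace CfsgLib.DMult

open Subgroup QuadraticMap
open CfsgLib.Quad (plusQ oGroup)

universe u

variable {F : Type u} [Field F] [Finite F]

theorem zpow_of_sq {G : Type*} [Group G] (k : G) (h : k * k = 1) (n : ℤ) :
    k ^ n = 1 ∨ k ^ n = k := by
  rcases Int.even_or_odd' n with ⟨j, rfl | rfl⟩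
  · left
    rw [_root_.zpow_mul, zpow_two, h, one_zpow]
  · right
    rw [_root_.zpow_add, _root_.zpow_mul, zpow_two, h, one_zpow, one_mul, zpow_one]

theorem ker_bound_six (h2 : (2 : F) ≠ 0) {E : Type u} [Group E] [Finite E]
    (π : E →* oGroup (plusQ (F := F) 3)) (hker : π.ker ≤ center E)
    (hrange : π.range = commutator (oGroup (plusQ (F := F) 3))) (hperf : commutator E = ⊤) :
    ∃ ζ : E, ∀ z, π z = 1 → z = 1 ∨ z = ζ := by
  classical
  obtain ⟨f, hf, hfp, hfc⟩ := CfsgLib.Quad.exists_klein_hom F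
  let σ : E →* commutator (oGroup (plusQ (F := F) 3)) := π.codRestrict _ fun x => hrange.le ⟨x, rfl⟩
  let τ : Matrix.SpecialLinearGroup (Fin 4) F →* commutator (oGroup (plusQ (F := F) 3)) :=
    f.codRestrict _ fun x => hf.le ⟨x, rfl⟩
  have hσ : Cfsg.IsStemExtension σ := by
    refine ⟨fun g => ?_, fun z hz => hker (congrArg Subtype.val hz), by rw [hperf]; exact le_top⟩
    obtain ⟨x, hx⟩ := hrange.ge g.2
    exact ⟨x, Subtype.ext hx⟩
  have hτ : Function.Surjective τ := fun g => by
    obtain ⟨x, hx⟩ := hf.ge g.2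
    exact ⟨x, Subtype.ext hx⟩
  have hne2 : Nat.card F ≠ 2 := fun h => h2 (by
    have := Fintype.ofFinite F
    rw [Nat.card_eq_fintype_card] at h
    exact_mod_cast (h ▸ FiniteField.cast_card_eq_zero F : ((2 : ℕ) : F) = 0))
  let S : SLMult.Ext F 4 (Schur.pullback σ τ) :=
    { σ := Schur.psnd σ τ, surj := Schur.psnd_surjective σ τ hσ.1
      central := SLMult.psnd_ker_le_center σ τ hσ.2.1
      three := by omega, fin := inferInstance
      exc3 := fun e => absurd e (by omega)
      exc4 := fun _ => hne2 }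
  obtain ⟨s, hs⟩ := S.exists_section
  obtain ⟨φ, hφ⟩ := SLMult.ker_bound hσ hτ s hs
  have hkf : ∀ g : τ.ker, g.1 ∈ center (Matrix.SpecialLinearGroup (Fin 4) F) ∧ g.1 * g.1 = 1 :=
    fun g => hfc g.1 (congrArg Subtype.val g.2)
  have : IsCyclic (center (Matrix.SpecialLinearGroup (Fin 4) F)) :=
    isCyclic_of_surjective
      (Matrix.SpecialLinearGroup.center_equiv_rootsOfUnity' (R := F) (0 : Fin 4)).symm.toMonoidHom
      (MulEquiv.surjective _)
  have : IsCyclic τ.ker := by
    let i : τ.ker →* center (Matrix.SpecialLinearGroup (Fin 4) F) :=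
      τ.ker.subtype.codRestrict _ fun g => (hkf g).1
    exact isCyclic_of_injective i fun a b e =>
      Subtype.ext (congrArg (fun x : center (Matrix.SpecialLinearGroup (Fin 4) F) => x.1) e)
  obtain ⟨k, hk⟩ := IsCyclic.exists_generator (α := τ.ker)
  have hk2 : k * k = 1 := Subtype.ext (hkf k).2
  refine ⟨(φ k).1, fun z hz => ?_⟩
  have hzm : z ∈ σ.ker := by
    rw [MonoidHom.mem_ker]
    refine Subtype.ext ?_
    rw [OneMemClass.coe_one, MonoidHom.codRestrict_apply]
    exact hz
  obtain ⟨g, hg⟩ := hφ ⟨z, hzm⟩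
  obtain ⟨n, rfl⟩ := hk g
  have hz' : (φ (k ^ n)).1 = z := congrArg Subtype.val hg
  rcases zpow_of_sq k hk2 n with h | h
  · left
    rw [h, map_one] at hz'
    exact hz'.symm
  · right
    rw [h] at hz'
    exact hz'.symm

end CfsgLib.DMult
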