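/-
The Schur multiplier of `Ω` of odd dimension at least seven.
-/
import Cfsg.Agent.DMult.AnisoStep
import Cfsg.Agent.DMult.SixBound
import Cfsg.Agent.DMult.Multiplier
import Cfsg.Agent.DMult.StemBound

set_option autoImplicit false

namespace CfsgLib.DMult

open Subgroup QuadraticMap
open CfsgLib.Forms CfsgLib.Aniso
open CfsgLib.Quad (plusQ oddQ oGroup perpS siegel siegelGroup negIso oGroupCongr)
open scoped commutatorElement

universe u

section Generic

variable {F V V' : Type*} [Field F] [AddCommGroup V] [Module F V] [FiniteDimensional F V]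
  [AddCommGroup V'] [Module F V'] [FiniteDimensional F V'] [Finite F]
  {Q : QuadraticForm F V} {Q' : QuadraticForm F V'}

/-- The orthogonal group of a space isometric to a subspace, embedded. -/
theorem exists_embed (hQ : (polarBilin Q).Nondegenerate) {U : Submodule F V} (hU : NonDeg Q U)
    (hdim : 5 ≤ Module.finrank F U) (φ : V' ≃ₗ[F] U) (hφ : ∀ x, Q (φ x : V) = Q' x) :
    ∃ j : oGroup Q' →* oGroup Q, Function.Injective j ∧ (commutator (oGroup Q')).map j = SG Q U ∧
      ∀ g x, (j g).1 (φ x : V) = (φ (g.1 x) : V) := by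
  have hc := hU.isCompl hQ
  let i : oGroup Q' ≃* oGroup (Q.comp U.subtype) := oGroupCongr φ hφ
  refine ⟨(extHom hc).comp i.toMonoidHom, ?_, ?_, fun g x => ?_⟩
  · intro a b e
    refine i.injective (Subtype.ext (LinearEquiv.ext fun x => Subtype.ext ?_))
    have := congrArg (fun t : oGroup Q => t.1 (x : V)) e
    simpa only [MonoidHom.comp_apply, MulEquiv.coe_toMonoidHom, extHom_mem hc] using this
  · rw [← Subgroup.map_map, CfsgLib.Quad.commutator_map_equiv, SG_eq_map hc,
      CfsgLib.Quad.siegelGroup_eq_commutator (hU.res hQ) hdim]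
  · rw [MonoidHom.comp_apply, extHom_mem hc]
    show ((φ (g.1 (φ.symm (φ x))) : U) : V) = _
    rw [φ.symm_apply_apply]

variable {E : Type*} [Group E]

omit [FiniteDimensional F V] [FiniteDimensional F V'] [Finite F] in
/-- A perfect subgroup over a perfect subgroup. -/
theorem exists_perfect_over (π : E →* oGroup Q) (hker : π.ker ≤ center E) {D : Subgroup (oGroup Q)}
    (hD : ⁅D, D⁆ = D) (hr : D ≤ π.range) :
    ∃ X : Subgroup E, ⁅X, X⁆ = X ∧ X.map π = D := by
  set P := D.comap π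
  have hP : P.map π = D := map_comap_eq_self hr
  refine ⟨⁅P, P⁆, le_antisymm (commutator_le.2 fun a ha b hb => ?_) (commutator_le.2 fun a ha b hb => ?_), ?_⟩
  · have hle : ⁅P, P⁆ ≤ P := commutator_le.2 fun a ha b hb =>
      commutatorElement_def a b ▸ mul_mem (mul_mem (mul_mem ha hb) (inv_mem ha)) (inv_mem hb)
    exact commutator_mem_commutator (hle ha) (hle hb)
  · have hmap : ∀ x ∈ P, ∃ y ∈ ⁅P, P⁆, π y = π x := fun x hx => by
      have h : π x ∈ (⁅P, P⁆).map π := by rw [map_commutator, hP, hD]; exact hx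
      exact h
    obtain ⟨a', ha', ea⟩ := hmap a ha
    obtain ⟨b', hb', eb⟩ := hmap b hb
    rw [Aniso.comm_congr hker ea.symm eb.symm]
    exact commutator_mem_commutator ha' hb'
  · rw [map_commutator, hP, hD]

omit [FiniteDimensional F V] [FiniteDimensional F V'] [Finite F] in
/-- A map to an embedded group, pulled back. -/
theorem exists_pull (π : E →* oGroup Q) (j : oGroup Q' →* oGroup Q) (hj : Function.Injective j)
    {D : Subgroup (oGroup Q')} {X : Subgroup E} (hX : X.map π = D.map j) :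
    ∃ π₀ : X →* oGroup Q', π₀.range = D ∧ ∀ x : X, j (π₀ x) = π x := by
  have hmem : ∀ x : X, π x ∈ j.range := fun x => by
    obtain ⟨d, -, e⟩ := hX ▸ mem_map_of_mem π x.2
    exact ⟨d, e⟩
  let π₀ : X →* oGroup Q' :=
    (MonoidHom.ofInjective hj).symm.toMonoidHom.comp ((π.comp X.subtype).codRestrict j.range hmem)
  have he : ∀ x : X, j (π₀ x) = π x := fun x =>
    congrArg Subtype.val ((MonoidHom.ofInjective hj).apply_symm_apply ⟨π x, hmem x⟩)
  refine ⟨π₀, map_injective hj ?_, he⟩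
  rw [MonoidHom.map_range, ← hX, show j.comp π₀ = π.comp X.subtype from MonoidHom.ext he,
    MonoidHom.range_comp, range_subtype]

end Generic

variable {F : Type u} [Field F] [Finite F]

/-- The unit vector off the hyperbolic pairs. -/
def unitVec (F : Type u) [Field F] (m : ℕ) : Unit ⊕ (Fin m ⊕ Fin m) → F := Pi.single (Sum.inl ()) 1

omit [Finite F] in
theorem polar_unitVec {m : ℕ} (x : Unit ⊕ (Fin m ⊕ Fin m) → F) :
    polar (oddQ (F := F) m) (unitVec F m) x = 2 * x (Sum.inl ()) := by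
  simp only [polar, CfsgLib.Quad.oddQ_coe]
  simp [Cfsg.quadFormOdd, unitVec]
  ring

omit [Finite F] in
theorem oddQ_unitVec (m : ℕ) : oddQ (F := F) m (unitVec F m) = 1 := by
  rw [CfsgLib.Quad.oddQ_coe]
  simp [Cfsg.quadFormOdd, unitVec]

theorem oddQ_finrank (m : ℕ) : Module.finrank F (Unit ⊕ (Fin m ⊕ Fin m) → F) = 2 * m + 1 := by
  simp; omega

/-- Vectors of value one orthogonal to three given vectors, and chains between two of them. -/
theorem three_link_odd {m : ℕ} (hm : 3 ≤ m) (hexc : m = 3 → 4 < Nat.card F) (h2 : (2 : F) ≠ 0) :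
    (∀ a b d, ∃ z, oddQ (F := F) m z = 1 ∧ polar (oddQ (F := F) m) a z = 0 ∧
      polar (oddQ (F := F) m) b z = 0 ∧ polar (oddQ (F := F) m) d z = 0) ∧
    ∀ x y v w, oddQ (F := F) m v = 1 → oddQ (F := F) m w = 1 → polar (oddQ (F := F) m) x v = 0 →
      polar (oddQ (F := F) m) x w = 0 → polar (oddQ (F := F) m) y v = 0 →
      polar (oddQ (F := F) m) y w = 0 → ∃ z, oddQ (F := F) m z = 1 ∧
        polar (oddQ (F := F) m) x z = 0 ∧ polar (oddQ (F := F) m) y z = 0 ∧
        NonDeg (oddQ (F := F) m) (Submodule.span F (Set.range ![v, z])) ∧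
        NonDeg (oddQ (F := F) m) (Submodule.span F (Set.range ![w, z])) := by
  classical
  have hQ := CfsgLib.Quad.oddQ_nondeg (F := F) h2 m
  have hdim := oddQ_finrank (F := F) m
  rcases eq_or_lt_of_le hm with rfl | hlt
  swap
  · exact three_link_of_nine hQ h2 (by omega) one_ne_zero
  have hq := hexc rfl
  obtain ⟨s, hs0, hs1⟩ : ∃ s : F, s ≠ 0 ∧ 4 * s * s ≠ 1 := by
    have := Fintype.ofFinite F
    rw [Nat.card_eq_fintype_card] at hq
    have h4 : (4 : F) ≠ 0 := by rw [show (4 : F) = 2 * 2 by ring]; exact mul_ne_zero h2 h2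
    obtain ⟨s, -, hs⟩ := Finset.exists_mem_notMem_of_card_lt_card (s := ({0, 2⁻¹, -2⁻¹} : Finset F))
      (t := Finset.univ) (Finset.card_le_three.trans_lt (by rw [Finset.card_univ]; omega))
    simp only [Finset.mem_insert, Finset.mem_singleton, not_or] at hs
    refine ⟨s, hs.1, fun e => ?_⟩
    have : (2 * s) * (2 * s) = 1 := by linear_combination e
    rcases mul_self_eq_one_iff.1 this with h | h
    · exact hs.2.1 (by field_simp; linear_combination h)
    · exact hs.2.2 (by field_simp; linear_combination h)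
  refine ⟨fun a b d => ?_, fun x y v w hv hw h1 h3 h5 h7 =>
    exists_link hQ h2 (by omega) one_ne_zero ⟨s, hs0, hs1⟩ hv hw h1 h3 h5 h7⟩
  set U := Submodule.span F (Set.range ![a, b, d])
  have fin : ∀ {z}, z ∈ perpS (oddQ (F := F) 3) U → polar (oddQ (F := F) 3) a z = 0 ∧
      polar (oddQ (F := F) 3) b z = 0 ∧ polar (oddQ (F := F) 3) d z = 0 := fun hz =>
    ⟨hz a (Submodule.subset_span ⟨0, rfl⟩), hz b (Submodule.subset_span ⟨1, rfl⟩),
      hz d (Submodule.subset_span ⟨2, rfl⟩)⟩
  have hU : Module.finrank F U ≤ 3 := (finrank_range_le_card _).trans (by simp)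
  by_cases hgood : Module.finrank F U + Module.finrank F ↥(U ⊓ perpS (oddQ (F := F) 3) U) ≤ 5
  · obtain ⟨z, hz, hz1⟩ := exists_rep hQ h2 U (by omega) 1
    exact ⟨z, hz1, fin hz⟩
  have hle : U ⊓ perpS (oddQ (F := F) 3) U = U :=
    Submodule.eq_of_le_of_finrank_le inf_le_left (by omega)
  have hsing : ∀ p ∈ U, ∀ r ∈ U, polar (oddQ (F := F) 3) p r = 0 := fun p hp r hr =>
    (hle.symm ▸ hr : r ∈ U ⊓ perpS (oddQ (F := F) 3) U).2 p hp
  have hmem : ∀ i, (![a, b, d] : Fin 3 → _) i ∈ U := fun i => Submodule.subset_span ⟨i, rfl⟩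
  have hind : LinearIndependent F ![a, b, d] :=
    linearIndependent_iff_card_le_finrank_span.2 (by
      have := Submodule.finrank_mono (inf_le_left : U ⊓ perpS (oddQ (F := F) 3) U ≤ U)
      rw [Fintype.card_fin]
      show 3 ≤ Module.finrank F U
      omega)
  let e : Fin 3 → (Unit ⊕ (Fin 3 ⊕ Fin 3) → F) := fun i => Pi.single (Sum.inr (Sum.inl i)) 1
  have he : LinearIndependent F e :=
    (Pi.basisFun F (Unit ⊕ (Fin 3 ⊕ Fin 3))).linearIndependent.comp
      (fun i => Sum.inr (Sum.inl i)) (fun i j h => by simpa using h) |> fun h => by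
        convert h using 1
        funext i
        simp [e]
  have hQe : ∀ i, oddQ (F := F) 3 (e i) = 0 := fun i => by
    rw [CfsgLib.Quad.oddQ_coe]; simp [Cfsg.quadFormOdd, e, Pi.single_apply]
  have hQp : ∀ p ∈ U, oddQ (F := F) 3 p = 0 := fun p hp => by
    have h := hsing p hp p hp
    rw [polar_self, two_nsmul, ← two_mul] at h
    exact (mul_eq_zero.1 h).resolve_left h2
  obtain ⟨g, hg, hgi⟩ := quad_exists_map_family hQ ![a, b, d] e hind he
    (fun i => by rw [hQp _ (hmem i), hQe])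
    (fun i j => by
      rw [hsing _ (hmem i) _ (hmem j)]
      simp only [polar, CfsgLib.Quad.oddQ_coe]
      simp [Cfsg.quadFormOdd, e, Pi.single_apply])
  refine ⟨g.symm (unitVec F 3), ?_, ?_⟩
  · rw [← hg, g.apply_symm_apply, oddQ_unitVec]
  have key : ∀ i, polar (oddQ (F := F) 3) (![a, b, d] i) (g.symm (unitVec F 3)) = 0 := fun i => by
    have hgp : ∀ p r, polar (oddQ (F := F) 3) (g p) (g r) = polar (oddQ (F := F) 3) p r := fun p r => by
      simp only [polar, ← map_add, hg]
    rw [← hgp, g.apply_symm_apply, hgi, polar_comm, polar_unitVec]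
    simp [e]
  exact ⟨key 0, key 1, key 2⟩

set_option maxHeartbeats 1000000 in
/-- A perfect central extension of `Ω` of odd dimension at least seven has at most two elements over
the identity. -/
theorem ker_bound_odd {m : ℕ} (hm : 3 ≤ m) (hexc : m = 3 → 4 < Nat.card F) (h2 : (2 : F) ≠ 0) {E : Type u} [Group E] [Finite E]
    (π : E →* oGroup (oddQ (F := F) m)) (hker : π.ker ≤ center E)
    (hrange : π.range = commutator (oGroup (oddQ (F := F) m)))
    (hperf : commutator E = ⊤) : ∃ ζ : E, ∀ z, π z = 1 → z = 1 ∨ z = ζ := by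
  classical
  have hQ : (polarBilin (oddQ (F := F) m)).Nondegenerate := CfsgLib.Quad.oddQ_nondeg h2 m
  have hN : 7 ≤ Module.finrank F (Unit ⊕ (Fin m ⊕ Fin m) → F) := by rw [oddQ_finrank]; omega
  set e := unitVec F m
  have he1 : (oddQ (F := F) m) e = 1 := oddQ_unitVec m
  have hene : (oddQ (F := F) m) e ≠ 0 := by rw [he1]; exact one_ne_zero
  obtain ⟨hnd, hdim⟩ := perp_single_facts hQ h2 hene
  replace hdim : Module.finrank F (pv (oddQ (F := F) m) e) + 1 = _ := hdim
  have hU5 : 5 ≤ Module.finrank F (pv (oddQ (F := F) m) e) := by omega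
  have hmemU : ∀ x, x ∈ pv (oddQ (F := F) m) e ↔ x (Sum.inl ()) = 0 := fun x => by
    rw [mem_perp_single, polar_unitVec, mul_eq_zero, or_iff_right h2]
  let φ : (Fin m ⊕ Fin m → F) ≃ₗ[F] pv (oddQ (F := F) m) e :=
    { toFun := fun x => ⟨Sum.elim 0 x, (hmemU _).2 rfl⟩
      map_add' := fun x y => Subtype.ext (funext fun k => by rcases k with k | k <;> simp)
      map_smul' := fun c x => Subtype.ext (funext fun k => by rcases k with k | k <;> simp)
      invFun := fun v => v.1 ∘ Sum.inr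
      left_inv := fun x => rfl
      right_inv := fun v => Subtype.ext (funext fun k => by
        rcases k with k | k
        · exact ((hmemU _).1 v.2).symm
        · rfl) }
  obtain ⟨j, hj, hjmap, -⟩ := exists_embed (Q' := plusQ (F := F) m) hQ hnd hU5 φ fun x => by
    show oddQ (F := F) m (Sum.elim 0 x) = plusQ m x
    rw [CfsgLib.Quad.oddQ_coe, CfsgLib.Quad.plusQ_coe]
    simp [Cfsg.quadFormOdd, Cfsg.quadFormPlus]
  have hSGle : ∀ U, SG (oddQ (F := F) m) U ≤ π.range := fun U => by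
    rw [hrange, ← CfsgLib.Quad.siegelGroup_eq_commutator hQ (by omega)]
    exact closure_mono fun _ ⟨a, _, b, _, h0, hab, r⟩ => ⟨a, b, h0, hab, r⟩
  obtain ⟨X, hXp, hXmap⟩ := exists_perfect_over π hker (SG_perfect hQ hnd hU5) (hSGle _)
  obtain ⟨π₀, hr0, he0⟩ := exists_pull π j hj (X := X) (hXmap.trans hjmap.symm)
  have hperfX : commutator X = ⊤ := by
    refine map_injective X.subtype_injective ?_
    rw [_root_.commutator_def, map_commutator, ← MonoidHom.range_eq_map, range_subtype, hXp]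
  have hc0 : π₀.ker ≤ center X := fun z hz => mem_center_iff.2 fun y => Subtype.ext (mem_center_iff.1
    (hker (MonoidHom.mem_ker.2 (by rw [← he0, MonoidHom.mem_ker.1 hz, map_one]))) y.1)
  obtain ⟨ζ, hζ⟩ : ∃ ζ : X, ∀ z, π₀ z = 1 → z = 1 ∨ z = ζ := by
    rcases eq_or_lt_of_le hm with rfl | hlt
    · exact ker_bound_six h2 π₀ hc0 hr0 hperfX
    obtain ⟨q, rfl⟩ : ∃ q, m = q + 4 := ⟨m - 4, by omega⟩
    obtain ⟨ζ, hζ⟩ := ker_bound_perfect π₀
      (fun ⟨_, h⟩ => h2 (by
        have := Fintype.ofFinite F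
        rw [Nat.card_eq_fintype_card] at h
        exact_mod_cast (h ▸ FiniteField.cast_card_eq_zero F : ((2 : ℕ) : F) = 0)))
      hc0 hr0 hperfX
    exact ⟨ζ, fun z hz => (hζ z hz).imp id And.left⟩
  set C := π.ker ⊓ X with hC
  have hCN : C.Normal := ⟨fun z hz g => by
    rw [mem_center_iff.1 (hker hz.1) g, mul_inv_cancel_right]; exact hz⟩
  let π' : E ⧸ C →* oGroup (oddQ (F := F) m) := QuotientGroup.lift C π inf_le_left
  have hker' : π'.ker ≤ center (E ⧸ C) := by
    intro z hz
    obtain ⟨a, rfl⟩ := QuotientGroup.mk'_surjective C z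
    refine mem_center_iff.2 fun y => ?_
    obtain ⟨b, rfl⟩ := QuotientGroup.mk'_surjective C y
    rw [← map_mul, ← map_mul, mem_center_iff.1 (hker (show π a = 1 from hz)) b]
  have hrange' : π'.range = commutator (oGroup (oddQ (F := F) m)) := by
    rw [← hrange]
    ext g
    constructor
    · rintro ⟨z, rfl⟩
      obtain ⟨a, rfl⟩ := QuotientGroup.mk'_surjective C z
      exact ⟨a, rfl⟩
    · rintro ⟨a, rfl⟩
      exact ⟨QuotientGroup.mk' C a, rfl⟩
  have hperf' : commutator (E ⧸ C) = ⊤ := by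
    rw [← Schur.map_commutator_of_surjective _ (QuotientGroup.mk'_surjective C), hperf,
      map_top_of_surjective _ (QuotientGroup.mk'_surjective C)]
  have hsec0 : ∀ k : SG (oddQ (F := F) m) (pv (oddQ (F := F) m) e), ∃ x ∈ X, π x = k := fun k =>
    (hXmap.ge k.2 : k.1 ∈ X.map π)
  choose σ hσX hσ using hsec0
  let se : SG (oddQ (F := F) m) (pv (oddQ (F := F) m) e) →* E ⧸ C := MonoidHom.mk' (fun k => QuotientGroup.mk' C (σ k)) fun a b => by
    show QuotientGroup.mk' C (σ (a * b)) = QuotientGroup.mk' C (σ a) * QuotientGroup.mk' C (σ b)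
    rw [← map_mul]
    refine (QuotientGroup.eq).2 ⟨?_, X.mul_mem (X.inv_mem (hσX _)) (X.mul_mem (hσX _) (hσX _))⟩
    show π _ = 1
    rw [map_mul, map_inv, map_mul, hσ, hσ, hσ, Subgroup.coe_mul, inv_mul_cancel]
  obtain ⟨hthree, hlink⟩ := three_link_odd hm hexc h2
  have hinj := injective_of_sections hQ h2 hN (one_ne_zero (α := F)) hthree hlink π' hker' hrange' hperf' fun v hv => by
    obtain ⟨h, hh, hev⟩ := CfsgLib.Quad.exists_siegel_apply_eq hQ (by omega)
      (he1.trans hv.symm) hene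
    obtain ⟨g, hg⟩ : h ∈ π.range := by
      rw [hrange, ← CfsgLib.Quad.siegelGroup_eq_commutator hQ (by omega)]; exact hh
    have hmap : ∀ k : SG (oddQ (F := F) m) (pv (oddQ (F := F) m) v), h⁻¹ * k.1 * h ∈ SG (oddQ (F := F) m) (pv (oddQ (F := F) m) e) := fun k => by
      have := SG_conj (g := h⁻¹) (W' := pv (oddQ (F := F) m) e) (fun w hw => mem_perp_single.2 (by
        have h1 := mem_perp_single.1 hw
        rw [← hev, ← h.1.apply_symm_apply w, CfsgLib.Quad.polar_oGroup] at h1
        exact h1)) k.2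
      rwa [inv_inv] at this
    let r : SG (oddQ (F := F) m) (pv (oddQ (F := F) m) v) →* SG (oddQ (F := F) m) (pv (oddQ (F := F) m) e) :=
      MonoidHom.mk' (fun k => ⟨h⁻¹ * k.1 * h, hmap k⟩) fun a b => Subtype.ext (by
        show h⁻¹ * (a.1 * b.1) * h = h⁻¹ * a.1 * h * (h⁻¹ * b.1 * h)
        group)
    refine ⟨(MulAut.conj (QuotientGroup.mk' C g)).toMonoidHom.comp (se.comp r), fun k => ?_⟩
    show π (g * σ (r k) * g⁻¹) = k.1
    rw [map_mul, map_mul, map_inv, hσ, hg]
    show h * (h⁻¹ * k.1 * h) * h⁻¹ = k.1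
    group
  refine ⟨ζ, fun z hz => ?_⟩
  have hzC : z ∈ C := (QuotientGroup.eq_one_iff z).1 (hinj (show π' (QuotientGroup.mk' C z) = π' 1 by
    rw [map_one]; exact hz))
  rcases hζ ⟨z, hzC.2⟩ (hj (by rw [he0, map_one]; exact hz)) with h | h
  · exact Or.inl (congrArg Subtype.val h)
  · exact Or.inr (congrArg Subtype.val h)

/-- The anisotropic vector whose orthogonal space carries the cover. -/
def cutVec (F : Type u) [Field F] (m : ℕ) : Fin (m + 1) ⊕ Fin (m + 1) → F :=
  Pi.single (Sum.inl 0) 1 + Pi.single (Sum.inr 0) (-1)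

omit [Finite F] in
theorem polar_cutVec {m : ℕ} (x : Fin (m + 1) ⊕ Fin (m + 1) → F) :
    polar (plusQ (F := F) (m + 1)) (cutVec F m) x = x (Sum.inr 0) - x (Sum.inl 0) := by
  rw [polar_comm, cutVec, polar_add_right, polar_single, polar_single]
  simp
  ring

omit [Finite F] in
theorem plusQ_cutVec (m : ℕ) : plusQ (m + 1) (cutVec F m) = -1 := by
  rw [CfsgLib.Quad.plusQ_coe]
  simp [Cfsg.quadFormPlus, cutVec, Fin.sum_univ_succ]

set_option maxHeartbeats 1000000 in
/-- The double cover of `Ω` of odd dimension. -/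
theorem exists_odd_cover {m : ℕ} (hm : 3 ≤ m) (h2 : (2 : F) ≠ 0) :
    ∃ (Δ : Type u) (_ : Group Δ) (_ : Finite Δ) (τ : Δ →* commutator (oGroup (oddQ (F := F) m))),
      Function.Surjective τ ∧ τ.ker ≤ center Δ ∧ commutator Δ = ⊤ ∧ Nat.card τ.ker = 2 := by
  classical
  set n := m + 1
  have hn : 3 ≤ n := by omega
  set Q := plusQ (F := F) n
  have hQ : (polarBilin Q).Nondegenerate := CfsgLib.Quad.plusQ_nondeg n
  set v := cutVec F m
  have hvne : Q v ≠ 0 := by
    show plusQ (m + 1) (cutVec F m) ≠ 0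
    rw [plusQ_cutVec]; exact neg_ne_zero.2 one_ne_zero
  obtain ⟨hnd, hdim⟩ := perp_single_facts hQ h2 hvne
  have hfr : Module.finrank F (Fin n ⊕ Fin n → F) = n + n := by simp
  replace hdim : Module.finrank F (pv Q v) + 1 = n + n := hdim.trans hfr
  have hU5 : 5 ≤ Module.finrank F (pv Q v) := by omega
  have hmemU : ∀ x, x ∈ pv Q v ↔ x (Sum.inr 0) = x (Sum.inl 0) := fun x => by
    rw [mem_perp_single, polar_cutVec, sub_eq_zero]
  let f : (Unit ⊕ (Fin m ⊕ Fin m) → F) → (Fin n ⊕ Fin n → F) := fun w =>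
    Sum.elim (Fin.cons (w (Sum.inl ())) fun i => w (Sum.inr (Sum.inl i)))
      (Fin.cons (w (Sum.inl ())) fun i => w (Sum.inr (Sum.inr i)))
  let φ : (Unit ⊕ (Fin m ⊕ Fin m) → F) ≃ₗ[F] pv Q v :=
    { toFun := fun w => ⟨f w, (hmemU _).2 (by simp [f])⟩
      map_add' := fun x y => Subtype.ext (funext fun k => by
        rcases k with k | k <;> refine Fin.cases ?_ ?_ k <;> simp [f])
      map_smul' := fun c x => Subtype.ext (funext fun k => by
        rcases k with k | k <;> refine Fin.cases ?_ ?_ k <;> simp [f])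
      invFun := fun x => Sum.elim (fun _ => x.1 (Sum.inl 0))
        (Sum.elim (fun i => x.1 (Sum.inl i.succ)) fun i => x.1 (Sum.inr i.succ))
      left_inv := fun w => funext fun k => by
        rcases k with ⟨⟩ | k | k <;> simp [f]
      right_inv := fun x => Subtype.ext (funext fun k => by
        rcases k with k | k <;> refine Fin.cases ?_ ?_ k <;> simp [f, (hmemU _).1 x.2]) }
  obtain ⟨j, hj, hjmap, -⟩ := exists_embed (Q' := oddQ (F := F) m) hQ hnd hU5 φ fun w => by
    show plusQ n (f w) = oddQ m w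
    rw [CfsgLib.Quad.oddQ_coe, CfsgLib.Quad.plusQ_coe]
    simp [Cfsg.quadFormOdd, Cfsg.quadFormPlus, f, n, Fin.sum_univ_succ, pow_two]
  have hker : (cov F n).ker ≤ center (spin F n) := fun z hz => by
    obtain ⟨-, -, -, hc, -⟩ := cov_ker hz
    exact mem_center_iff.2 hc
  obtain ⟨X, hXp, hXmap⟩ := exists_perfect_over (cov F n) hker (SG_perfect hQ hnd hU5) (by
    rw [cov_range]
    exact closure_mono fun _ ⟨a, _, b, _, h0, hab, r⟩ => ⟨a, b, h0, hab, r⟩)
  obtain ⟨π₀, hr0, he0⟩ := exists_pull (cov F n) j hj (X := X) (hXmap.trans hjmap.symm)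
  have hperfX : commutator X = ⊤ := by
    refine map_injective X.subtype_injective ?_
    rw [_root_.commutator_def, map_commutator, ← MonoidHom.range_eq_map, range_subtype, hXp]
  have huel : ∀ x ∈ pv Q v, ∀ y ∈ pv Q v, ∀ (hx : Q x = 0) (hxy : polar Q x y = 0),
      (⟨uel x y, uel_mem hx hxy⟩ : spin F n) ∈ X := by
    intro x hxU y hyU hx hxy
    set u : spin F n := ⟨uel x y, uel_mem hx hxy⟩
    obtain ⟨w, hw, e⟩ : cov F n u ∈ X.map (cov F n) := by
      rw [hXmap, cov_uel hx hxy]
      exact siegel_mem_SG hxU (neg_mem hyU) hx (by rw [polar_neg_right, hxy, neg_zero])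
    obtain ⟨c, -, -, hcen, hsq⟩ := cov_ker (z := w⁻¹ * u) (by
      rw [map_mul, map_inv, e, inv_mul_cancel])
    have hu : u = w * (w⁻¹ * u) := by group
    set p := ringChar F
    have hp : u ^ p = 1 := by
      refine Subtype.ext (Units.ext ?_)
      rw [SubgroupClass.coe_pow, show (u.1 ^ p).1 = _ from uel_pow hx hxy p,
        ringChar.Nat.cast_ringChar, zero_smul, add_zero]
      rfl
    have hodd : p % 2 = 1 := by
      rcases (CharP.char_is_prime F p).eq_two_or_odd with h | h
      · exfalso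
        apply h2
        have := ringChar.Nat.cast_ringChar (R := F)
        rw [show ringChar F = 2 from h] at this
        exact_mod_cast this
      · exact h
    have hz : w⁻¹ * u = (w ^ p)⁻¹ := by
      have h1 : w ^ p * (w⁻¹ * u) ^ p = 1 := by
        rw [← (show Commute w (w⁻¹ * u) from hcen w).mul_pow, ← hu, hp]
      have h3 : (w⁻¹ * u) ^ p = w⁻¹ * u := by
        rw [← Nat.div_add_mod p 2, hodd, pow_succ, pow_mul, pow_two, hsq, one_pow, one_mul]
      rw [h3] at h1
      exact (inv_eq_of_mul_eq_one_right h1).symm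
    rw [hu, hz]
    exact mul_mem hw (inv_mem (pow_mem hw p))
  let i1 : Fin n := ⟨1, by omega⟩
  let i2 : Fin n := ⟨2, by omega⟩
  have hbasis : ∀ (a : Fin n ⊕ Fin n) (t : F), idx a ≠ (0 : Fin n) →
      (Pi.single a t : Fin n ⊕ Fin n → F) ∈ pv Q v := fun a t ha => (hmemU _).2 (by
    rw [Pi.single_eq_of_ne (fun e => ha (by rw [← e]; rfl)),
      Pi.single_eq_of_ne (fun e => ha (by rw [← e]; rfl))])
  obtain ⟨g, hg, eg, g', hg', eg'⟩ := mem_sgn_of (F := F) (i := i1) (j := i2) (by simp [i1, i2, Fin.ext_iff])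
    (X.map (spin F n).subtype) fun a b ha hb hab t => by
      have ha0 : idx a ≠ (0 : Fin n) := by
        rcases ha with h | h <;> rw [h] <;> simp [i1, i2, Fin.ext_iff]
      have hb0 : idx b ≠ (0 : Fin n) := by
        rcases hb with h | h <;> rw [h] <;> simp [i1, i2, Fin.ext_iff]
      have hx : Q (Pi.single a 1 : Fin n ⊕ Fin n → F) = 0 := An.Q_single _ _
      have hxy : polar Q (Pi.single a (1 : F) : Fin n ⊕ Fin n → F) (Pi.single b t) = 0 := by
        rw [polar_single, Pi.single_eq_of_ne (fun e => hab (by rw [← e]; rcases b with b | b <;> rfl)),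
          zero_mul]
      exact ⟨_, huel _ (hbasis a 1 ha0) _ (hbasis b t hb0) hx hxy, rfl⟩
  have hm1 : negOne (F := F) (n := n) (by omega) ∈ X := by
    obtain ⟨a, ha, ea⟩ := hg
    obtain ⟨b, hb, eb⟩ := hg'
    convert mul_mem ha hb
    refine Subtype.ext (Units.ext ?_)
    show (negOne (F := F) (n := n) (by omega)).1.1 = ((spin F n).subtype a).1 * ((spin F n).subtype b).1
    rw [ea, eb, eg, eg', sgn_mul, negOne_coe, one_eq_mono, smul_mono]
    ext S T
    simp only [sgn, mono_apply, sign2]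
    split_ifs <;> simp
  let τ : X →* commutator (oGroup (oddQ (F := F) m)) :=
    π₀.codRestrict _ fun x => hr0.le ⟨x, rfl⟩
  refine ⟨X, inferInstance, inferInstance, τ, fun g => ?_, fun z hz => mem_center_iff.2 fun y =>
    Subtype.ext (mem_center_iff.1 (hker ?_) y.1), hperfX, ?_⟩
  · obtain ⟨x, hx⟩ := hr0.ge g.2
    exact ⟨x, Subtype.ext hx⟩
  · show cov F n z = 1
    rw [← he0, show π₀ z = 1 from congrArg Subtype.val hz, map_one]
  have hk : (⟨negOne (by omega), hm1⟩ : X) ∈ τ.ker := Subtype.ext (hj (by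
    rw [show (τ ⟨negOne (by omega), hm1⟩).1 = π₀ ⟨negOne (by omega), hm1⟩ from rfl, he0, cov_negOne]
    exact (map_one j).symm))
  refine Nat.card_eq_two_iff.mpr ⟨1, ⟨_, hk⟩, fun e => ?_, Set.eq_univ_iff_forall.mpr fun z => ?_⟩
  · exact negOne_ne (F := F) (n := n) (by omega) h2 (congrArg (fun t : τ.ker => t.1.1) e).symm
  · rcases cov_ker_cases (F := F) (n := n) (by omega) (show cov F n z.1.1 = 1 by
      rw [← he0, show π₀ z.1 = 1 from congrArg Subtype.val z.2, map_one]) with h | h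
    · exact Or.inl (Subtype.ext (Subtype.ext h))
    · exact Or.inr (Subtype.ext (Subtype.ext h))

set_option maxHeartbeats 1000000 in
/-- The multiplier in odd dimension at least seven has order two. -/
theorem hasSchurMultiplier_odd {m : ℕ} (hm : 3 ≤ m) (hexc : m = 3 → 4 < Nat.card F) (h2 : (2 : F) ≠ 0) :
    Cfsg.HasCyclicSchurMultiplier (Cfsg.POmega F (Cfsg.quadFormOdd m F)) 2 := by
  rw [← CfsgLib.Quad.oddQ_coe]
  set Q := oddQ (F := F) m with hQdef
  have hQ : (polarBilin Q).Nondegenerate := CfsgLib.Quad.oddQ_nondeg h2 m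
  have hfin : 5 ≤ Module.finrank F (Unit ⊕ (Fin m ⊕ Fin m) → F) := by rw [oddQ_finrank]; omega
  have hcen : center ↥(commutator (oGroup Q)) = ⊥ := by
    refine (Subgroup.eq_bot_iff_forall _).2 fun g hg => ?_
    rcases CfsgLib.Quad.center_omega_subset hQ hfin g hg with h | h
    · exact h
    · exact absurd (h ▸ g.2) (CfsgLib.Quad.negIso_notMem_of_odd h2 (by rw [oddQ_finrank]; exact odd_two_mul_add_one m))
  let i : Cfsg.POmega F ⇑Q ≃* ↥(commutator (oGroup Q)) :=
    (CfsgLib.Quad.pOmegaEquiv Q).trans ((QuotientGroup.quotientMulEquivOfEq hcen).trans QuotientGroup.quotientBot)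
  obtain ⟨Δ, _, _, τ, hs, hc, hperf, hcard⟩ := exists_odd_cover (F := F) (m := m) (by omega) h2
  let τ' : Δ →* Cfsg.POmega F ⇑Q := i.symm.toMonoidHom.comp τ
  have hker : τ'.ker = τ.ker := by
    ext z
    simp only [τ', MonoidHom.mem_ker, MonoidHom.comp_apply]
    exact i.symm.map_eq_one_iff
  have hk2 : Nat.card τ'.ker = 2 := by rw [hker, hcard]
  have : Fact (Nat.Prime 2) := ⟨Nat.prime_two⟩
  have : IsCyclic τ'.ker := isCyclic_of_prime_card hk2
  refine hasSchurMultiplier_of_bound τ' (i.symm.surjective.comp hs) (hker.le.trans hc) hperf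
    (fun E _ _ π hπ hπc hE => ?_)
    (mulEquivOfCyclicCardEq (by rw [hk2, Nat.card_congr Multiplicative.toAdd, Nat.card_zmod]))
  rw [hk2]
  let π₁ : E →* oGroup Q := (commutator (oGroup Q)).subtype.comp (i.toMonoidHom.comp π)
  have hk : π₁.ker = π.ker := by
    ext z
    simp only [π₁, MonoidHom.mem_ker, MonoidHom.comp_apply, MulEquiv.coe_toMonoidHom,
      Subgroup.coe_subtype, OneMemClass.coe_eq_one, MulEquiv.map_eq_one_iff]
  obtain ⟨ζ, hζ⟩ := ker_bound_odd hm hexc h2 π₁ (hk.le.trans hπc) (by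
    rw [MonoidHom.range_comp, MonoidHom.range_eq_top.2 (i.surjective.comp hπ), ← MonoidHom.range_eq_map,
      range_subtype]) hE
  calc Nat.card π.ker = (π.ker : Set E).ncard := (Nat.card_coe_set_eq _)
    _ ≤ ({1, ζ} : Set E).ncard :=
        Set.ncard_le_ncard (fun z hz => hζ z (by rw [← hk] at hz; exact hz)) (Set.toFinite _)
    _ ≤ 2 := (Set.ncard_insert_le _ _).trans (by rw [Set.ncard_singleton])

end CfsgLib.DMult
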