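/-
Vectors of a given value and transitivity on singular vectors in characteristic two.
-/
import Cfsg.Agent.DMult.AnisoStep

set_option autoImplicit false
set_option linter.unusedSectionVars false

namespace CfsgLib.Aniso

open QuadraticMap Subgroup
open CfsgLib.Forms
open CfsgLib.Quad

variable {F V : Type*} [Field F] [AddCommGroup V] [Module F V] {Q : QuadraticForm F V}
variable [CharP F 2]

theorem polar_self_two (a : V) : polar Q a a = 0 := by
  rw [polar_self, two_nsmul, CharTwo.add_self_eq_zero]

/-- Two vectors which are not orthogonal span a non-degenerate space. -/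
theorem nonDeg_pair_two {v z : V} (h : polar Q v z ≠ 0) :
    NonDeg Q (Submodule.span F (Set.range ![v, z])) := by
  refine Submodule.disjoint_def.2 fun a ha ha' => ?_
  obtain ⟨f, rfl⟩ := (Submodule.mem_span_range_iff_exists_fun F).1 ha
  have e1 := ha' v (Submodule.subset_span ⟨0, rfl⟩)
  have e2 := ha' z (Submodule.subset_span ⟨1, rfl⟩)
  simp only [Fin.sum_univ_two, Matrix.cons_val_zero, Matrix.cons_val_one, polar_add_right,
    polar_smul_right, polar_self_two, polar_comm Q z v, smul_eq_mul, mul_zero, zero_add,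
    add_zero, mul_eq_zero, or_iff_left h] at e1 e2
  simp [Fin.sum_univ_two, e1, e2]

/-- A vector outside the orthogonal space of the subspace meets it. -/
theorem exists_polar_of_not_mem [FiniteDimensional F V] (hQ : (polarBilin Q).Nondegenerate)
    {U : Submodule F V} {v : V} (hv : v ∉ U) : ∃ g ∈ perpS Q U, polar Q v g ≠ 0 := by
  by_contra hc
  push Not at hc
  refine hv ?_
  rw [← perpS_perpS hQ U]
  intro b hb
  rw [polar_comm]; exact hc b hb

theorem not_mem_span_pair {x y v : V} (hx : Q x = 0) (hv : Q v ≠ 0)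
    (h : y ∉ Submodule.span F {x, v}) : v ∉ Submodule.span F {x, y} := by
  intro hm
  obtain ⟨p, r, e⟩ := Submodule.mem_span_pair.1 hm
  rcases eq_or_ne r 0 with rfl | hr
  · rw [zero_smul, add_zero] at e
    exact hv (by rw [← e, quad_smul, hx, mul_zero])
  refine h (Submodule.mem_span_pair.2 ⟨-(r⁻¹ * p), r⁻¹, ?_⟩)
  rw [← e, smul_add, smul_smul, smul_smul, inv_mul_cancel₀ hr, one_smul]
  module

theorem not_mem_span_singular {x y v : V} (hx : Q x = 0) (hy : Q y = 0) (hv : Q v ≠ 0)
    (h1 : polar Q x v = 0) : v ∉ Submodule.span F {x, y} := by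
  intro hm
  obtain ⟨p, r, e⟩ := Submodule.mem_span_pair.1 hm
  refine hv ?_
  rw [← e, polar_add_right, polar_smul_right, polar_smul_right, polar_self, hx, smul_zero,
    smul_zero, zero_add, smul_eq_mul] at h1
  rw [← e, quad_add, quad_smul, quad_smul, hx, hy, polar_smul_left, polar_smul_right, smul_eq_mul,
    smul_eq_mul, h1]
  simp

variable [FiniteDimensional F V] [Finite F]

/-- A large subspace has vectors of every value. -/
theorem exists_value_two (hQ : (polarBilin Q).Nondegenerate) {K : Submodule F V}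
    (h : Module.finrank F V < 2 * Module.finrank F K) (c : F) : ∃ k ∈ K, Q k = c := by
  obtain ⟨k, hk, hQk⟩ := exists_aniso_of_finrank hQ h
  obtain ⟨t, ht⟩ := (Finite.injective_iff_bijective.1 (CharTwo.sq_injective (R := F))).2 (c / Q k)
  refine ⟨t • k, K.smul_mem t hk, ?_⟩
  rw [quad_smul, ← pow_two, show t ^ 2 = c / Q k from ht, div_mul_cancel₀ _ hQk]

/-- Three vectors have a common orthogonal vector of each value. -/
theorem exists_perp3_two (hQ : (polarBilin Q).Nondegenerate) (hN : 7 ≤ Module.finrank F V)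
    (c : F) (a b d : V) :
    ∃ z, Q z = c ∧ polar Q a z = 0 ∧ polar Q b z = 0 ∧ polar Q d z = 0 := by
  set U := Submodule.span F (Set.range ![a, b, d])
  have hU : Module.finrank F U ≤ 3 := (finrank_range_le_card _).trans (by simp)
  have h1 := finrank_perpS hQ U
  obtain ⟨z, hz, e⟩ := exists_value_two hQ (K := perpS Q U) (by omega) c
  exact ⟨z, e, hz a (Submodule.subset_span ⟨0, rfl⟩), hz b (Submodule.subset_span ⟨1, rfl⟩),
    hz d (Submodule.subset_span ⟨2, rfl⟩)⟩

/-- Two vectors outside a plane are joined through a third one orthogonal to the plane. -/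
theorem exists_link_two (hQ : (polarBilin Q).Nondegenerate) (hN : 7 ≤ Module.finrank F V)
    (hs : (∃ s : F, s ≠ 0 ∧ s ≠ 1) ∨ 9 ≤ Module.finrank F V ∨
      ∀ T : Submodule F V, (∀ t ∈ T, Q t = 0) → Module.finrank F T + 5 ≤ Module.finrank F V)
    (c : F) (hc : c ≠ 0) {x y v w : V}
    (hv : v ∉ Submodule.span F {x, y}) (hw : w ∉ Submodule.span F {x, y}) :
    ∃ z, Q z = c ∧ polar Q x z = 0 ∧ polar Q y z = 0 ∧ polar Q v z ≠ 0 ∧ polar Q w z ≠ 0 := by
  classical
  set U := perpS Q (Submodule.span F {x, y}) with hU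
  have hUmem : ∀ {z}, z ∈ U → polar Q x z = 0 ∧ polar Q y z = 0 := fun hz =>
    ⟨hz x (Submodule.subset_span (by simp)), hz y (Submodule.subset_span (by simp))⟩
  obtain ⟨g1, hg1, e1⟩ := exists_polar_of_not_mem hQ hv
  obtain ⟨g2, hg2, e2⟩ := exists_polar_of_not_mem hQ hw
  obtain ⟨g, hg, hgv, hgw⟩ : ∃ g ∈ U, polar Q v g ≠ 0 ∧ polar Q w g ≠ 0 := by
    by_cases a1 : polar Q w g1 = 0
    · by_cases a2 : polar Q v g2 = 0
      · exact ⟨g1 + g2, U.add_mem hg1 hg2, by rwa [polar_add_right, a2, add_zero],
          by rwa [polar_add_right, a1, zero_add]⟩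
      · exact ⟨g2, hg2, a2, e2⟩
    · exact ⟨g1, hg1, e1, a1⟩
  by_contra hno
  push Not at hno
  have hsing : ∀ z ∈ U, polar Q v z ≠ 0 → polar Q w z ≠ 0 → Q z = 0 := by
    intro z hz a1 a2
    by_contra hne
    obtain ⟨t, ht⟩ := (Finite.injective_iff_bijective.1 (CharTwo.sq_injective (R := F))).2 (c / Q z)
    have ht0 : t ≠ 0 := fun e => by
      rw [e] at ht
      exact div_ne_zero hc hne (by simpa using ht.symm)
    have hQ' : Q (t • z) = c := by
      rw [quad_smul, ← pow_two, show t ^ 2 = c / Q z from ht, div_mul_cancel₀ _ hne]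
    obtain ⟨b1, b2⟩ := hUmem (U.smul_mem t hz)
    refine absurd (hno _ hQ' b1 b2 ?_) ?_
    · rw [polar_smul_right, smul_eq_mul]; exact mul_ne_zero ht0 a1
    · rw [polar_smul_right, smul_eq_mul]; exact mul_ne_zero ht0 a2
  set H := U ⊓ perpS Q (Submodule.span F {v, w}) with hH
  have hHmem : ∀ {h}, h ∈ H → polar Q v h = 0 ∧ polar Q w h = 0 := fun hh =>
    ⟨hh.2 v (Submodule.subset_span (by simp)), hh.2 w (Submodule.subset_span (by simp))⟩
  have hQg : Q g = 0 := hsing g hg hgv hgw
  have key : ∀ h ∈ H, ∀ t : F, t * t * Q h + t * polar Q g h = 0 := by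
    intro h hh t
    obtain ⟨b1, b2⟩ := hHmem hh
    have := hsing (g + t • h) (U.add_mem hg (U.smul_mem t hh.1))
      (by rwa [polar_add_right, polar_smul_right, b1, smul_zero, add_zero])
      (by rwa [polar_add_right, polar_smul_right, b2, smul_zero, add_zero])
    rw [quad_add, quad_smul, hQg, polar_smul_right, smul_eq_mul, zero_add] at this
    exact this
  have hd1 : Module.finrank F V ≤ Module.finrank F H + 4 := by
    have h1 := finrank_perpS hQ (Submodule.span F {x, y})
    have h3 := finrank_perpS hQ (Submodule.span F {v, w})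
    have h4 := Submodule.finrank_sup_add_finrank_inf_eq U (perpS Q (Submodule.span F {v, w}))
    have h5 := Submodule.finrank_le (U ⊔ perpS Q (Submodule.span F {v, w}))
    have : ∀ a b : V, Module.finrank F (Submodule.span F ({a, b} : Set V)) ≤ 2 := fun a b => by
      have := finrank_span_finset_le_card (R := F) ({a, b} : Finset V)
      simp only [Finset.coe_insert, Finset.coe_singleton] at this
      exact this.trans Finset.card_le_two
    have := this x y
    have h7 := ‹∀ a b : V, _› v w
    rw [← hU] at h1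
    rw [← hH] at h4
    omega
  rcases hs with ⟨s, hs0, hs1⟩ | hN9
  swap
  · have k1 : ∀ h ∈ H, Q h + polar Q g h = 0 := fun h hh => by
      simpa only [one_mul] using key h hh 1
    have hHH : H ≤ perpS Q H := fun h hh k hk => by
      have e := k1 _ (H.add_mem hk hh)
      rw [quad_add, polar_add_right] at e
      linear_combination e - k1 k hk - k1 h hh
    have h1 := finrank_perpS hQ H
    have h2' := Submodule.finrank_mono hHH
    rcases hN9 with hN9 | hwitt
    · omega
    set H1 := H ⊓ perpS Q (Submodule.span F {g})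
    have h3 := finrank_perpS hQ (Submodule.span F {g})
    have h4 : Module.finrank F (Submodule.span F ({g} : Set V)) ≤ 1 := by
      refine (finrank_span_le_card ({g} : Set V)).trans ?_
      simp
    have h5 := Submodule.finrank_sup_add_finrank_inf_eq H (perpS Q (Submodule.span F {g}))
    have h6 := Submodule.finrank_le (H ⊔ perpS Q (Submodule.span F {g}))
    set T := H1 ⊔ Submodule.span F {g}
    have h7 : Module.finrank F H1 < Module.finrank F T := Submodule.finrank_lt_finrank_of_lt
      (lt_of_le_of_ne le_sup_left fun e => hgv (hHmem (e ▸ Submodule.mem_sup_right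
        (Submodule.mem_span_singleton_self g) : g ∈ H1).1).1)
    have h8 := hwitt T fun t ht => by
      obtain ⟨h, hh, k, hk, rfl⟩ := Submodule.mem_sup.1 ht
      obtain ⟨r, rfl⟩ := Submodule.mem_span_singleton.1 hk
      have hgh : polar Q g h = 0 := hh.2 g (Submodule.mem_span_singleton_self g)
      have e := k1 h hh.1
      rw [hgh, add_zero] at e
      rw [quad_add, quad_smul, e, hQg, polar_smul_right, polar_comm Q h g, hgh]
      simp
    have he : Module.finrank F H1 = Module.finrank F ↥(H ⊓ perpS Q (Submodule.span F {g})) := rfl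
    omega
  have hHs : ∀ h ∈ H, Q h = 0 ∧ polar Q g h = 0 := by
    intro h hh
    have k1 := key h hh 1
    have k2 := key h hh s
    simp only [one_mul] at k1
    have h0 : Q h = 0 := by
      have : s * (s - 1) * Q h = 0 := by linear_combination k2 - s * k1
      simpa [hs0, sub_eq_zero, hs1] using this
    exact ⟨h0, by rw [h0, zero_add] at k1; exact k1⟩
  set M := H ⊔ Submodule.span F {g}
  have hgH : g ∉ H := fun hh => hgv (hHmem hh).1
  have hd2 : Module.finrank F H < Module.finrank F M := Submodule.finrank_lt_finrank_of_lt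
    (lt_of_le_of_ne le_sup_left fun e => hgH (e ▸ Submodule.mem_sup_right
      (Submodule.mem_span_singleton_self g)))
  obtain ⟨m, hm, hQm⟩ := exists_aniso_of_finrank hQ (K := M) (by omega)
  obtain ⟨h, hh, k, hk, rfl⟩ := Submodule.mem_sup.1 hm
  obtain ⟨t, rfl⟩ := Submodule.mem_span_singleton.1 hk
  obtain ⟨b1, b2⟩ := hHs h hh
  refine hQm ?_
  rw [quad_add, quad_smul, b1, hQg, polar_smul_right, polar_comm Q h g, b2]
  simp

/-- The Siegel group is transitive on non-zero singular vectors. -/
theorem exists_siegel_singular_two (hQ : (polarBilin Q).Nondegenerate)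
    (hN : 5 ≤ Module.finrank F V) {u v : V} (hu0 : u ≠ 0) (hv0 : v ≠ 0) (hu : Q u = 0)
    (hv : Q v = 0) : ∃ h ∈ siegelGroup Q, h.1 u = v := by
  have key : ∀ u v, Q u = 0 → Q v = 0 → polar Q u v ≠ 0 → ∃ h ∈ siegelGroup Q, h.1 u = v := by
    intro u v hu hv huv
    set β := polar Q u v with hβ
    have huu : polar Q u u = 0 := by rw [polar_self, hu, smul_zero]
    have hvv : polar Q v v = 0 := by rw [polar_self, hv, smul_zero]
    set U := Submodule.span F (Set.range ![u, v])
    have hU : Module.finrank F U ≤ 2 := (finrank_range_le_card _).trans (by simp)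
    have h1 := finrank_perpS hQ U
    obtain ⟨k, hk, hQk⟩ := exists_value_two hQ (K := perpS Q U) (by omega) (-β⁻¹)
    have hku : polar Q u k = 0 := hk u (Submodule.subset_span ⟨0, rfl⟩)
    have hkv : polar Q v k = 0 := hk v (Submodule.subset_span ⟨1, rfl⟩)
    set w := β⁻¹ • (u + v) + k with hw
    have hwu : polar Q u w = 1 := by
      rw [hw, polar_add_right, polar_smul_right, polar_add_right, huu, hku, ← hβ, zero_add, add_zero,
        smul_eq_mul, inv_mul_cancel₀ huv]
    have hwv : polar Q v w = 1 := by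
      rw [hw, polar_add_right, polar_smul_right, polar_add_right, hvv, hkv, polar_comm Q v u, ← hβ,
        add_zero, add_zero, smul_eq_mul, inv_mul_cancel₀ huv]
    have hQw : Q w = 0 := by
      rw [hw, quad_add, quad_smul, quad_add, hu, hv, ← hβ, hQk, polar_smul_left, polar_add_left,
        hku, hkv, add_zero, smul_zero, add_zero, zero_add, mul_assoc,
        inv_mul_cancel₀ huv, mul_one, add_neg_cancel]
    have hwa : polar Q w (v - u) = 0 := by
      rw [polar_sub_right, polar_comm Q w v, polar_comm Q w u, hwu, hwv, sub_self]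
    refine ⟨siegel Q w (v - u), siegel_mem_group hQw hwa, ?_⟩
    have h := quad_add Q u (v - u)
    rw [add_sub_cancel, hu, hv, zero_add] at h
    rw [siegel_apply hQw hwa, hwu, mul_one, one_smul, show polar Q u (v - u) + Q (v - u) = 0 by
      linear_combination -h, zero_smul, sub_zero, add_sub_cancel]
  obtain ⟨x, hx, hux, hvx⟩ := exists_common_nonorth hQ hN hu0 hv0 hu hv
  obtain ⟨h1, m1, e1⟩ := key u x hu hx hux
  obtain ⟨h3, m3, e3⟩ := key x v hx hv (by rwa [polar_comm])
  exact ⟨h3 * h1, mul_mem m3 m1, by show h3.1 (h1.1 u) = v; rw [e1, e3]⟩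

/-- The Siegel group of a subspace is transitive on its non-zero singular vectors. -/
theorem SG_trans_two {W : Submodule F V} (hQ : (polarBilin Q).Nondegenerate) (h : NonDeg Q W)
    (hn : 5 ≤ Module.finrank F W) {u v : V} (hu : u ∈ W) (hv : v ∈ W) (hu0 : u ≠ 0) (hv0 : v ≠ 0)
    (hQu : Q u = 0) (hQv : Q v = 0) : ∃ g ∈ SG Q W, g.1 u = v := by
  obtain ⟨g, hg, e⟩ := exists_siegel_singular_two (h.res hQ) hn (u := ⟨u, hu⟩) (v := ⟨v, hv⟩)
    (fun e => hu0 (congrArg Subtype.val e)) (fun e => hv0 (congrArg Subtype.val e)) hQu hQv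
  refine ⟨extHom (h.isCompl hQ) g, SG_eq_map (h.isCompl hQ) ▸ mem_map_of_mem _ hg, ?_⟩
  rw [extHom_mem (h.isCompl hQ) g ⟨u, hu⟩, e]

end CfsgLib.Aniso
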