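/-
A central extension of `Ω` in characteristic two which splits over the stabilisers of the vectors of
one non-zero value splits.
-/
import Cfsg.Agent.DMult.AnisoTwoBasic

set_option autoImplicit false
set_option linter.unusedSectionVars false

namespace CfsgLib.Aniso.Even

open QuadraticMap Subgroup
open CfsgLib.Forms
open CfsgLib.Quad
open scoped commutatorElement

variable {F V E : Type*} [Field F] [CharP F 2] [AddCommGroup V] [Module F V] [FiniteDimensional F V]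
  [Finite F] [Group E]

/-- The hypotheses of the step: sections over the stabilisers of the vectors of value `c`. -/
structure Ctx (Q : QuadraticForm F V) (E : Type*) [Group E] where
  nd : (polarBilin Q).Nondegenerate
  dim : 8 ≤ Module.finrank F V
  field_large : (∃ s : F, s ≠ 0 ∧ s ≠ 1) ∨ 9 ≤ Module.finrank F V ∨
    ∀ T : Submodule F V, (∀ t ∈ T, Q t = 0) → Module.finrank F T + 5 ≤ Module.finrank F V
  c : F
  c_ne : c ≠ 0
  perf : ∀ v, Q v = c → ⁅SG Q (pv Q v), SG Q (pv Q v)⁆ = SG Q (pv Q v)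
  move : ∀ v x y, Q v = c → Q x = 0 → Q y = 0 → x ≠ 0 → y ≠ 0 → polar Q v x = 0 → polar Q v y = 0 →
    ∃ h ∈ SG Q (pv Q v), h.1 x = y
  π : E →* oGroup Q
  central : π.ker ≤ center E
  s : V → oGroup Q → E
  π_s : ∀ v, Q v = c → ∀ h ∈ SG Q (pv Q v), π (s v h) = h
  s_mul : ∀ v, Q v = c → ∀ g ∈ SG Q (pv Q v), ∀ h ∈ SG Q (pv Q v), s v (g * h) = s v g * s v h

namespace Ctx

variable {Q : QuadraticForm F V} (S : Ctx Q E)

theorem three (a b d : V) :
    ∃ z, Q z = S.c ∧ polar Q a z = 0 ∧ polar Q b z = 0 ∧ polar Q d z = 0 :=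
  exists_perp3_two S.nd (by have := S.dim; omega) S.c a b d

theorem link {x y v w : V} (hv : v ∉ Submodule.span F {x, y}) (hw : w ∉ Submodule.span F {x, y}) :
    ∃ z, Q z = S.c ∧ polar Q x z = 0 ∧ polar Q y z = 0 ∧
      NonDeg Q (Submodule.span F (Set.range ![v, z])) ∧ NonDeg Q (Submodule.span F (Set.range ![w, z])) := by
  obtain ⟨z, hz, z1, z2, z3, z4⟩ :=
    exists_link_two S.nd (by have := S.dim; omega) S.field_large S.c S.c_ne hv hw
  exact ⟨z, hz, z1, z2, nonDeg_pair_two z3, nonDeg_pair_two z4⟩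

theorem Q_ne {v : V} (hv : Q v = S.c) : Q v ≠ 0 := hv ▸ S.c_ne

theorem s_one {v : V} (hv : Q v = S.c) : S.s v 1 = 1 := by
  have h := S.s_mul v hv 1 (one_mem _) 1 (one_mem _)
  rw [mul_one] at h
  exact mul_eq_left.1 h.symm

theorem s_inv {v : V} (hv : Q v = S.c) {g : oGroup Q} (hg : g ∈ SG Q (pv Q v)) :
    S.s v g⁻¹ = (S.s v g)⁻¹ := by
  refine (inv_eq_of_mul_eq_one_right ?_).symm
  rw [← S.s_mul v hv g hg g⁻¹ (inv_mem hg), mul_inv_cancel, S.s_one hv]

/-- Two lifts of a perfect subgroup agree. -/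
theorem lift_unique {D : Subgroup (oGroup Q)} (hD : ⁅D, D⁆ = D) (f g : oGroup Q → E)
    (hf : ∀ a ∈ D, ∀ b ∈ D, f (a * b) = f a * f b) (hg : ∀ a ∈ D, ∀ b ∈ D, g (a * b) = g a * g b)
    (h : ∀ a ∈ D, S.π (f a) = S.π (g a)) {x : oGroup Q} (hx : x ∈ D) : f x = g x := by
  let F1 : D →* E := MonoidHom.mk' (fun a => f a) fun a b => hf a a.2 b b.2
  let G1 : D →* E := MonoidHom.mk' (fun a => g a) fun a b => hg a a.2 b b.2
  let T : Subgroup (oGroup Q) := (F1.eqLocus G1).map D.subtype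
  have hle : ⁅D, D⁆ ≤ T := by
    rw [commutator_le]
    intro a ha b hb
    refine ⟨⁅(⟨a, ha⟩ : D), (⟨b, hb⟩ : D)⁆, ?_, rfl⟩
    show F1 ⁅(⟨a, ha⟩ : D), (⟨b, hb⟩ : D)⁆ = G1 ⁅(⟨a, ha⟩ : D), (⟨b, hb⟩ : D)⁆
    rw [map_commutatorElement, map_commutatorElement]
    exact comm_congr S.central (h a ha) (h b hb)
  rw [hD] at hle
  obtain ⟨y, hy, rfl⟩ := hle hx
  exact hy

/-- Sections agree over the orthogonal space of an orthogonal pair. -/
theorem agree {v z : V} (hv : Q v = S.c) (hz : Q z = S.c) (hvz : NonDeg Q (Submodule.span F (Set.range ![v, z]))) {h : oGroup Q}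
    (hh : h ∈ SG Q (perpS Q (Submodule.span F (Set.range ![v, z])))) : S.s v h = S.s z h := by
  obtain ⟨hnd, hdim⟩ := perp_span_pair_facts S.nd hvz
  have := S.dim
  have h1 : SG Q (perpS Q (Submodule.span F (Set.range ![v, z]))) ≤ SG Q (pv Q v) :=
    SG_mono fun x hx => mem_perp_single.2 (mem_perp_pair.1 hx).1
  have h2 : SG Q (perpS Q (Submodule.span F (Set.range ![v, z]))) ≤ SG Q (pv Q z) :=
    SG_mono fun x hx => mem_perp_single.2 (mem_perp_pair.1 hx).2
  exact S.lift_unique (SG_perfect S.nd hnd (by omega)) _ _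
    (fun a ha b hb => S.s_mul v hv a (h1 ha) b (h1 hb))
    (fun a ha b hb => S.s_mul z hz a (h2 ha) b (h2 hb))
    (fun a ha => by rw [S.π_s v hv a (h1 ha), S.π_s z hz a (h2 ha)]) hh

/-- Conjugation carries sections to sections. -/
theorem s_conj (e : E) {v : V} (hv : Q v = S.c) {h : oGroup Q} (hh : h ∈ SG Q (pv Q v)) :
    e * S.s v h * e⁻¹ = S.s ((S.π e).1 v) (S.π e * h * (S.π e)⁻¹) := by
  have hgv : Q ((S.π e).1 v) = S.c := by rw [(S.π e).2]; exact hv
  have hmap : ∀ a ∈ SG Q (pv Q v), S.π e * a * (S.π e)⁻¹ ∈ SG Q (pv Q ((S.π e).1 v)) :=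
    fun a ha => SG_conj (fun w hw => mem_perp_single.2 (by
      rw [polar_oGroup]; exact mem_perp_single.1 hw)) ha
  refine S.lift_unique (S.perf v hv) (fun a => e * S.s v a * e⁻¹)
    (fun a => S.s ((S.π e).1 v) (S.π e * a * (S.π e)⁻¹)) (fun a ha b hb => ?_) (fun a ha b hb => ?_)
    (fun a ha => ?_) hh
  · rw [S.s_mul v hv a ha b hb]; group
  · rw [← S.s_mul _ hgv _ (hmap a ha) _ (hmap b hb)]
    congr 1
    group
  · rw [map_mul, map_mul, map_inv, S.π_s v hv a ha, S.π_s _ hgv _ (hmap a ha)]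

theorem siegel_mem_pv {x y v : V} (hx : Q x = 0) (hxy : polar Q x y = 0) (h1 : polar Q x v = 0)
    (h2 : polar Q y v = 0) : siegel Q x y ∈ SG Q (pv Q v) :=
  siegel_mem_SG (mem_perp_single.2 (by rw [polar_comm]; exact h1))
    (mem_perp_single.2 (by rw [polar_comm]; exact h2)) hx hxy

theorem same_generic {x y v w : V} (hx : Q x = 0) (hxy : polar Q x y = 0) (hv : Q v = S.c)
    (hw : Q w = S.c) (h1 : polar Q x v = 0) (h2 : polar Q y v = 0) (k1 : polar Q x w = 0)
    (k2 : polar Q y w = 0) (hv' : v ∉ Submodule.span F {x, y})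
    (hw' : w ∉ Submodule.span F {x, y}) :
    S.s v (siegel Q x y) = S.s w (siegel Q x y) := by
  obtain ⟨z, hz, z1, z2, z3, z4⟩ := S.link hv' hw'
  have hmem : ∀ {a}, polar Q x a = 0 → polar Q y a = 0 →
      siegel Q x y ∈ SG Q (perpS Q (Submodule.span F (Set.range ![a, z]))) := fun {a} e1 e2 =>
    siegel_mem_SG (mem_perp_pair.2 ⟨by rw [polar_comm]; exact e1, by rw [polar_comm]; exact z1⟩)
      (mem_perp_pair.2 ⟨by rw [polar_comm]; exact e2, by rw [polar_comm]; exact z2⟩) hx hxy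
  rw [S.agree hv hz z3 (hmem h1 h2), S.agree hw hz z4 (hmem k1 k2)]

/-- Sections agree on the Siegel transformations. -/
theorem same_siegel {x y v w : V} (hx : Q x = 0) (hxy : polar Q x y = 0) (hv : Q v = S.c)
    (hw : Q w = S.c) (h1 : polar Q x v = 0) (h2 : polar Q y v = 0) (k1 : polar Q x w = 0)
    (k2 : polar Q y w = 0) : S.s v (siegel Q x y) = S.s w (siegel Q x y) := by
  set Y := perpS Q (Submodule.span F (Set.range ![x, v, w])) with hYdef
  have hY : Module.finrank F V ≤ Module.finrank F Y + 3 := by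
    rw [hYdef]
    have := finrank_perpS S.nd (Submodule.span F (Set.range ![x, v, w]))
    have : Module.finrank F (Submodule.span F (Set.range ![x, v, w])) ≤ 3 :=
      (finrank_range_le_card _).trans (by simp)
    omega
  have hA : ∀ a : V, ¬ Y ≤ Submodule.span F (Set.range ![x, y, a]) := fun a hle => by
    have := Submodule.finrank_mono hle
    have : Module.finrank F (Submodule.span F (Set.range ![x, y, a])) ≤ 3 :=
      (finrank_range_le_card _).trans (by simp)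
    have := S.dim
    omega
  obtain ⟨a, ha, ha'⟩ := SetLike.not_le_iff_exists.1 (hA v)
  obtain ⟨b, hb, hb'⟩ := SetLike.not_le_iff_exists.1 (hA w)
  obtain ⟨y1, hy1, a1, b1⟩ : ∃ y1 ∈ Y, y1 ∉ Submodule.span F (Set.range ![x, y, v]) ∧
      y1 ∉ Submodule.span F (Set.range ![x, y, w]) := by
    by_cases h3 : a ∈ Submodule.span F (Set.range ![x, y, w])
    · by_cases h4 : b ∈ Submodule.span F (Set.range ![x, y, v])
      · exact ⟨a + b, Y.add_mem ha hb, fun h => ha' (((Submodule.span F _).add_mem_iff_left h4).1 h),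
          fun h => hb' (((Submodule.span F _).add_mem_iff_right h3).1 h)⟩
      · exact ⟨b, hb, h4, hb'⟩
    · exact ⟨a, ha, ha', h3⟩
  obtain ⟨p1, p2, p3⟩ : polar Q x y1 = 0 ∧ polar Q y1 v = 0 ∧ polar Q y1 w = 0 :=
    ⟨hy1 x (Submodule.subset_span ⟨0, rfl⟩),
      (polar_comm _ _ _).trans (hy1 v (Submodule.subset_span ⟨1, rfl⟩)),
      (polar_comm _ _ _).trans (hy1 w (Submodule.subset_span ⟨2, rfl⟩))⟩
  have q1 : polar Q x (y - y1) = 0 := by rw [polar_sub_right, hxy, p1, sub_self]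
  have hy2 : ∀ {u}, y1 ∉ Submodule.span F (Set.range ![x, y, u]) →
      y1 ∉ Submodule.span F {x, u} ∧ y - y1 ∉ Submodule.span F {x, u} := fun {u} hu => by
    have hle : Submodule.span F {x, u} ≤ Submodule.span F (Set.range ![x, y, u]) :=
      Submodule.span_mono (by
        rintro t (rfl | rfl)
        exacts [⟨0, rfl⟩, ⟨2, rfl⟩])
    refine ⟨fun h => hu (hle h), fun h => hu ?_⟩
    have := Submodule.sub_mem _ (Submodule.subset_span ⟨1, rfl⟩ :
      y ∈ Submodule.span F (Set.range ![x, y, u])) (hle h)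
    rwa [sub_sub_cancel] at this
  have r2 : polar Q (y - y1) v = 0 := by rw [polar_sub_left, h2, p2, sub_self]
  have r3 : polar Q (y - y1) w = 0 := by rw [polar_sub_left, k2, p3, sub_self]
  have hne : ∀ {u}, Q u = S.c → Q u ≠ 0 := fun hu => S.Q_ne hu
  have e1 : S.s v (siegel Q x y1) = S.s w (siegel Q x y1) :=
    S.same_generic hx p1 hv hw h1 p2 k1 p3
      (not_mem_span_pair hx (hne hv) (hy2 a1).1) (not_mem_span_pair hx (hne hw) (hy2 b1).1)
  have e2 : S.s v (siegel Q x (y - y1)) = S.s w (siegel Q x (y - y1)) :=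
    S.same_generic hx q1 hv hw h1 r2 k1 r3
      (not_mem_span_pair hx (hne hv) (hy2 a1).2) (not_mem_span_pair hx (hne hw) (hy2 b1).2)
  have e : siegel Q x y = siegel Q x y1 * siegel Q x (y - y1) := by
    rw [siegel_mul hx p1 q1, add_sub_cancel]
  rw [e, S.s_mul v hv _ (siegel_mem_pv hx p1 h1 p2) _ (siegel_mem_pv hx q1 h1 r2),
    S.s_mul w hw _ (siegel_mem_pv hx p1 k1 p3) _ (siegel_mem_pv hx q1 k1 r3), e1, e2]

open Classical in
/-- The lift of a Siegel transformation. -/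
noncomputable def sie (x y : V) : E :=
  if h : ∃ v, Q v = S.c ∧ polar Q x v = 0 ∧ polar Q y v = 0 then S.s h.choose (siegel Q x y) else 1

theorem sie_eq {x y v : V} (hx : Q x = 0) (hxy : polar Q x y = 0) (hv : Q v = S.c)
    (h1 : polar Q x v = 0) (h2 : polar Q y v = 0) : S.sie x y = S.s v (siegel Q x y) := by
  have hex : ∃ v, Q v = S.c ∧ polar Q x v = 0 ∧ polar Q y v = 0 := ⟨v, hv, h1, h2⟩
  rw [sie, dif_pos hex]
  obtain ⟨hw, k1, k2⟩ := hex.choose_spec
  exact S.same_siegel hx hxy hw hv k1 k2 h1 h2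

theorem π_sie {x y : V} (hx : Q x = 0) (hxy : polar Q x y = 0) :
    S.π (S.sie x y) = siegel Q x y := by
  have := S.dim
  obtain ⟨v, hv, h1, h2, -⟩ := S.three x y y
  rw [S.sie_eq hx hxy hv h1 h2, S.π_s v hv _ (siegel_mem_pv hx hxy h1 h2)]

theorem sie_conj (e : E) {x y : V} (hx : Q x = 0) (hxy : polar Q x y = 0) :
    e * S.sie x y * e⁻¹ = S.sie ((S.π e).1 x) ((S.π e).1 y) := by
  have := S.dim
  obtain ⟨v, hv, h1, h2, -⟩ := S.three x y y
  rw [S.sie_eq hx hxy hv h1 h2, S.s_conj e hv (siegel_mem_pv hx hxy h1 h2), siegel_conj _ hx hxy,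
    ← S.sie_eq (by rw [(S.π e).2]; exact hx) (by rw [polar_oGroup]; exact hxy)
      (by rw [(S.π e).2]; exact hv) (by rw [polar_oGroup]; exact h1) (by rw [polar_oGroup]; exact h2)]

theorem sie_mul {x y z : V} (hx : Q x = 0) (hxy : polar Q x y = 0) (hxz : polar Q x z = 0) :
    S.sie x y * S.sie x z = S.sie x (y + z) := by
  have := S.dim
  obtain ⟨v, hv, h1, h2, h3⟩ := S.three x y z
  rw [S.sie_eq hx hxy hv h1 h2, S.sie_eq hx hxz hv h1 h3,
    S.sie_eq hx (by rw [polar_add_right, hxy, hxz, add_zero]) hv h1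
      (by rw [polar_add_left, h2, h3, add_zero]), ← siegel_mul hx hxy hxz,
    S.s_mul v hv _ (siegel_mem_pv hx hxy h1 h2) _ (siegel_mem_pv hx hxz h1 h3)]

theorem sie_zero {x : V} (hx : Q x = 0) : S.sie x 0 = 1 := by
  have h := S.sie_mul hx (polar_zero_right Q x) (polar_zero_right Q x)
  rw [add_zero] at h
  exact mul_eq_left.1 h


variable (T : Frame Q)

/-- The vector whose stabiliser holds the Levi factor. -/
def lev : V := T.x0 + S.c • T.y0

theorem Q_lev : Q (S.lev T) = S.c := by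
  rw [lev, quad_add, quad_smul, T.hx, T.hy, polar_smul_right, T.hxy, smul_eq_mul]
  ring

theorem W_le_lev : T.W ≤ pv Q (S.lev T) := fun w hw => by
  obtain ⟨h1, h2⟩ := T.mem_W.1 hw
  refine mem_perp_single.2 ?_
  rw [lev, polar_add_left, polar_smul_left, h1, h2, smul_zero, add_zero]

theorem π_lev {l : oGroup Q} (hl : l ∈ SG Q T.W) : S.π (S.s (S.lev T) l) = l :=
  S.π_s _ (S.Q_lev T) l (SG_mono (S.W_le_lev T) hl)

include S in
theorem fix_frame {l : oGroup Q} (hl : l ∈ SG Q T.W) : l.1 T.x0 = T.x0 ∧ l.1 T.y0 = T.y0 := by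
  constructor <;>
  · refine SG_fix hl ?_
    rw [Frame.W, perpS_perpS S.nd]
    first | exact Submodule.subset_span ⟨0, rfl⟩ | exact Submodule.subset_span ⟨1, rfl⟩

theorem lev_sie {l : oGroup Q} (hl : l ∈ SG Q T.W) {u : V} (hu : u ∈ T.W) :
    S.s (S.lev T) l * S.sie T.x0 u = S.sie T.x0 (l.1 u) * S.s (S.lev T) l := by
  rw [← mul_inv_eq_iff_eq_mul, S.sie_conj _ T.hx (T.mem_W.1 hu).1, S.π_lev T hl,
    (S.fix_frame T hl).1]

/-- The lifted parabolic. -/
def par : Subgroup E where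
  carrier := {e | ∃ u ∈ T.W, ∃ l ∈ SG Q T.W, e = S.sie T.x0 u * S.s (S.lev T) l}
  one_mem' := ⟨0, zero_mem _, 1, one_mem _, by rw [S.sie_zero T.hx, S.s_one (S.Q_lev T), mul_one]⟩
  mul_mem' := by
    rintro _ _ ⟨u, hu, l, hl, rfl⟩ ⟨u', hu', l', hl', rfl⟩
    refine ⟨u + l.1 u', add_mem hu (SG_maps hl hu'), l * l', mul_mem hl hl', ?_⟩
    rw [mul_assoc, ← mul_assoc (S.s (S.lev T) l), S.lev_sie T hl hu', ← mul_assoc, ← mul_assoc,
      S.sie_mul T.hx (T.mem_W.1 hu).1 (T.mem_W.1 (SG_maps hl hu')).1, mul_assoc,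
      S.s_mul _ (S.Q_lev T) _ (SG_mono (S.W_le_lev T) hl) _ (SG_mono (S.W_le_lev T) hl')]
  inv_mem' := by
    rintro _ ⟨u, hu, l, hl, rfl⟩
    have hu' : l⁻¹.1 (-u) ∈ T.W := SG_maps (inv_mem hl) (neg_mem hu)
    refine ⟨l⁻¹.1 (-u), hu', l⁻¹, inv_mem hl, ?_⟩
    have hneg : (S.sie T.x0 u)⁻¹ = S.sie T.x0 (-u) := by
      refine inv_eq_of_mul_eq_one_right ?_
      rw [S.sie_mul T.hx (T.mem_W.1 hu).1 (by rw [polar_neg_right, (T.mem_W.1 hu).1, neg_zero]),
        add_neg_cancel, S.sie_zero T.hx]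
    rw [mul_inv_rev, hneg, ← S.s_inv (S.Q_lev T) (SG_mono (S.W_le_lev T) hl),
      S.lev_sie T (inv_mem hl) (neg_mem hu)]

theorem sie_mem_par {u : V} (hu : u ∈ T.W) : S.sie T.x0 u ∈ S.par T :=
  ⟨u, hu, 1, one_mem _, by rw [S.s_one (S.Q_lev T), mul_one]⟩

theorem siegel_y0 {u : V} (hu : u ∈ T.W) :
    (siegel Q T.x0 u).1 T.y0 = T.y0 + u - Q u • T.x0 := by
  obtain ⟨h1, h2⟩ := T.mem_W.1 hu
  rw [siegel_apply T.hx h1, T.yx, h2, one_smul, zero_add, mul_one]

theorem siegel_x0 {u : V} (hu : u ∈ T.W) : (siegel Q T.x0 u).1 T.x0 = T.x0 := by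
  obtain ⟨h1, -⟩ := T.mem_W.1 hu
  rw [siegel_apply T.hx h1, T.xx, h1]
  simp

theorem par_inj {e : E} (he : e ∈ S.par T) (h1 : S.π e = 1) : e = 1 := by
  obtain ⟨u, hu, l, hl, rfl⟩ := he
  obtain ⟨k1, k2⟩ := T.mem_W.1 hu
  rw [map_mul, S.π_sie T.hx k1, S.π_lev T hl] at h1
  have h3 : (siegel Q T.x0 u).1 (l.1 T.y0) = T.y0 := congrArg (fun g : oGroup Q => g.1 T.y0) h1
  rw [(S.fix_frame T hl).2, siegel_y0 T hu, add_sub_assoc, add_eq_left, sub_eq_zero] at h3
  have h4 : Q u = 0 := by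
    have := congrArg (fun v => polar Q T.y0 v) h3
    simp only [k2, polar_smul_right, T.yx, smul_eq_mul, mul_one] at this
    exact this.symm
  rw [h4, zero_smul] at h3
  subst h3
  rw [siegel_zero T.hx, one_mul] at h1
  rw [h1, S.sie_zero T.hx, S.s_one (S.Q_lev T), mul_one]

include S in
theorem SG_le_commutator (X : Submodule F V) : SG Q X ≤ commutator (oGroup Q) := by
  have := S.dim
  refine (closure_le _).2 ?_
  rintro _ ⟨e, -, a, -, h0, hea, rfl⟩
  exact siegel_mem_commutator S.nd (by omega) h0 hea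

/-- The stabiliser of the point inside a section lies in the lifted parabolic. -/
theorem s_mem_par {v : V} (hv : Q v = S.c) (hxv : polar Q T.x0 v = 0) {h : oGroup Q}
    (hh : h ∈ SG Q (pv Q v)) (hfix : h.1 T.x0 = T.x0) : S.s v h ∈ S.par T := by
  have := S.dim
  have hfixv : ∀ {v : V} {h : oGroup Q}, h ∈ SG Q (pv Q v) → h.1 v = v := fun {v h} hh =>
    SG_fix hh (by rw [pv, perpS_perpS S.nd]; exact Submodule.mem_span_singleton_self v)
  have inW : ∀ v, polar Q T.x0 v = 0 → polar Q T.y0 v = 1 → Q v = S.c → ∀ h ∈ SG Q (pv Q v), h.1 T.x0 = T.x0 →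
      S.s v h ∈ S.par T := by
    intro v hv1 hv2 hv h hh hfix
    set a := polar Q T.y0 (h.1 T.y0) with ha
    set u := h.1 T.y0 - T.y0 - a • T.x0 with hu
    have hxy1 : polar Q T.x0 (h.1 T.y0) = 1 := by
      rw [← congrArg (polar Q · (h.1 T.y0)) hfix, polar_oGroup, T.hxy]
    have hu1 : polar Q T.x0 u = 0 := by
      rw [hu, polar_sub_right, polar_sub_right, hxy1, T.hxy, polar_smul_right, T.xx, smul_zero,
        sub_self, sub_zero]
    have hu2 : polar Q T.y0 u = 0 := by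
      rw [hu, polar_sub_right, polar_sub_right, T.yy, sub_zero, polar_smul_right, T.yx, smul_eq_mul,
        mul_one, ← ha, sub_self]
    have hu3 : polar Q u v = 0 := by
      have e : polar Q (h.1 T.y0) v = 1 := by
        rw [← congrArg (polar Q (h.1 T.y0)) (hfixv hh), polar_oGroup]; exact hv2
      rw [hu, polar_sub_left, polar_sub_left, e, hv2, polar_smul_left, hv1, smul_zero, sub_self,
        sub_zero]
    have huW : u ∈ T.W := T.mem_W.2 ⟨hu1, hu2⟩
    have hy1 : h.1 T.y0 = T.y0 + u + a • T.x0 := by rw [hu]; abel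
    have hQu : a = -Q u := by
      have h0 : Q (h.1 T.y0) = 0 := by rw [h.2]; exact T.hy
      rw [hy1, quad_add, quad_add, quad_smul, T.hy, T.hx, polar_add_left, polar_smul_right,
        polar_smul_right, hu2, T.yx, polar_comm Q u T.x0, hu1, smul_eq_mul, smul_eq_mul] at h0
      linear_combination h0
    set g := siegel Q T.x0 u with hg
    have hgmem : g ∈ SG Q (pv Q v) := siegel_mem_pv T.hx hu1 hv1 hu3
    have hy2 : h.1 T.y0 = g.1 T.y0 := by
      rw [hg, siegel_y0 T huW, hy1, hQu, neg_smul, ← sub_eq_add_neg]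
    set l := g⁻¹ * h with hl
    have hlmem : l ∈ SG Q (pv Q v) := mul_mem (inv_mem hgmem) hh
    have hlx : l.1 T.x0 = T.x0 := by
      show g.1.symm (h.1 T.x0) = T.x0
      rw [LinearEquiv.symm_apply_eq, hfix, hg, siegel_x0 T huW]
    have hly : l.1 T.y0 = T.y0 := by
      show g.1.symm (h.1 T.y0) = T.y0
      rw [LinearEquiv.symm_apply_eq, hy2]
    have hpair : NonDeg Q (Submodule.span F (Set.range ![v, S.lev T])) :=
      nonDeg_pair_two (by
        rw [lev, polar_add_right, polar_smul_right, polar_comm Q v T.x0, polar_comm Q v T.y0, hv1, hv2,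
          zero_add, smul_eq_mul, mul_one]
        exact S.c_ne)
    obtain ⟨hnd, hdim⟩ := perp_span_pair_facts S.nd hpair
    have hl2 : l ∈ SG Q (perpS Q (Submodule.span F (Set.range ![v, S.lev T]))) := by
      refine mem_SG_of_fix S.nd hnd (by omega) (SG_le_commutator S _ hlmem) fun b hb => ?_
      rw [perpS_perpS S.nd] at hb
      obtain ⟨f, rfl⟩ := (Submodule.mem_span_range_iff_exists_fun F).1 hb
      simp only [Fin.sum_univ_two, Matrix.cons_val_zero, Matrix.cons_val_one, lev,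
        map_add, map_smul, hlx, hly, hfixv hlmem]
    have hlW : l ∈ SG Q T.W := by
      have := T.W_dim S.nd
      refine mem_SG_of_fix S.nd (T.W_nondeg S.nd) (by omega) (SG_le_commutator S _ hlmem) fun b hb => ?_
      rw [Frame.W, perpS_perpS S.nd] at hb
      obtain ⟨f, rfl⟩ := (Submodule.mem_span_range_iff_exists_fun F).1 hb
      simp only [Fin.sum_univ_two, Matrix.cons_val_zero, Matrix.cons_val_one,
        map_add, map_smul, hlx, hly]
    refine ⟨u, huW, l, hlW, ?_⟩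
    rw [S.sie_eq T.hx hu1 hv hv1 hu3, show h = g * l by rw [hl, mul_inv_cancel_left],
      S.s_mul v hv g hgmem l hlmem, S.agree hv (S.Q_lev T) hpair hl2]
  set a := polar Q T.y0 v with ha
  set w := v - a • T.x0 with hw
  have hw1 : polar Q T.x0 w = 0 := by
    rw [hw, polar_sub_right, hxv, polar_smul_right, T.xx, smul_zero, sub_zero]
  have hwW : w ∈ T.W := T.mem_W.2 ⟨hw1, by
    rw [hw, polar_sub_right, polar_smul_right, T.yx, smul_eq_mul, mul_one, ← ha, sub_self]⟩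
  have hvw : v = w + a • T.x0 := by rw [hw, sub_add_cancel]
  have hQw : Q w = S.c := by
    rw [← hv]
    conv_rhs => rw [hvw, quad_add, quad_smul, T.hx, polar_smul_right, polar_comm Q w T.x0, hw1]
    simp
  obtain ⟨u0, hu0W, hu0⟩ : ∃ u0 ∈ T.W, polar Q w u0 ≠ 0 := by
    by_contra hc
    push Not at hc
    have h0 : w = 0 := Submodule.disjoint_def.1 (T.W_nondeg S.nd) w hwW fun b hb => by
      rw [polar_comm]; exact hc b hb
    exact S.c_ne (by rw [← hQw, h0, QuadraticMap.map_zero])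
  set u := ((a - 1) / polar Q w u0) • u0 with hu
  have huW : u ∈ T.W := T.W.smul_mem _ hu0W
  obtain ⟨hu1, -⟩ := T.mem_W.1 huW
  set v' := w + T.x0 with hv'
  have hgv : (siegel Q T.x0 u).1 v = v' := by
    rw [siegel_apply T.hx hu1, polar_comm Q v T.x0, hxv, zero_smul, add_zero, mul_zero, add_zero]
    have e : polar Q v u = a - 1 := by
      rw [hvw, polar_add_left, polar_smul_left, hu1, smul_zero, add_zero, hu, polar_smul_right,
        smul_eq_mul, div_mul_cancel₀ _ hu0]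
    rw [e, hv', hvw, sub_smul, one_smul]
    abel
  have hA := S.sie_mem_par T huW
  have hc := S.s_conj (S.sie T.x0 u) hv hh
  rw [S.π_sie T.hx hu1, hgv] at hc
  have hin : siegel Q T.x0 u * h * (siegel Q T.x0 u)⁻¹ ∈ SG Q (pv Q v') := by
    refine SG_conj (fun x hx => mem_perp_single.2 ?_) hh
    rw [← hgv, polar_oGroup]; exact mem_perp_single.1 hx
  have := inW v' (by rw [hv', polar_add_right, hw1, T.xx, add_zero])
    (by rw [hv', polar_add_right, T.yx, (T.mem_W.1 hwW).2, zero_add])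
    (by rw [← hgv, (siegel Q T.x0 u).2]; exact hv) _ hin (by
    show (siegel Q T.x0 u).1 (h.1 ((siegel Q T.x0 u).1.symm T.x0)) = T.x0
    rw [show (siegel Q T.x0 u).1.symm T.x0 = T.x0 from
      (LinearEquiv.symm_apply_eq _).2 (siegel_x0 T huW).symm, hfix, siegel_x0 T huW])
  rw [← hc] at this
  have h3 := mul_mem (mul_mem (inv_mem hA) this) hA
  rwa [← mul_assoc, ← mul_assoc, inv_mul_cancel, one_mul, inv_mul_cancel_right] at h3

/-- The representatives of the points. -/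
def Rep (x : V) (e : E) : Prop :=
  ∃ (v : V) (h : oGroup Q), Q v = S.c ∧ polar Q T.x0 v = 0 ∧ polar Q x v = 0 ∧
    h ∈ SG Q (pv Q v) ∧ h.1 T.x0 = x ∧ e = S.s v h

theorem exists_move {x v : V} (hx : Q x = 0) (hx0 : x ≠ 0) (hv : Q v = S.c)
    (h1 : polar Q T.x0 v = 0) (h2 : polar Q x v = 0) : ∃ h ∈ SG Q (pv Q v), h.1 T.x0 = x := by
  exact S.move v T.x0 x hv T.hx hx T.x0_ne hx0 (by rw [polar_comm]; exact h1)
    (by rw [polar_comm]; exact h2)

theorem exists_Rep {x : V} (hx : Q x = 0) (hx0 : x ≠ 0) : ∃ e, S.Rep T x e := by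
  have := S.dim
  obtain ⟨v, hv, h1, h2, -⟩ := S.three T.x0 x x
  obtain ⟨h, hh, e⟩ := S.exists_move T hx hx0 hv h1 h2
  exact ⟨_, v, h, hv, h1, h2, hh, e, rfl⟩

theorem Rep_coset {x : V} (hx : Q x = 0) (hx0 : x ≠ 0) {e e' : E} (he : S.Rep T x e)
    (he' : S.Rep T x e') : e⁻¹ * e' ∈ S.par T := by
  obtain ⟨v, h, hv, hv1, hv2, hh, hhx, rfl⟩ := he
  obtain ⟨w, k, hw, hw1, hw2, hk, hkx, rfl⟩ := he'
  obtain ⟨z, hz, z1, z2, z3, z4⟩ := S.link (not_mem_span_singular T.hx hx (S.Q_ne hw) hw1)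
    (not_mem_span_singular T.hx hx (S.Q_ne hv) hv1)
  have := S.dim
  have trans : ∀ {a}, Q a = S.c → NonDeg Q (Submodule.span F (Set.range ![a, z])) → polar Q T.x0 a = 0 → polar Q x a = 0 →
      ∃ g ∈ SG Q (perpS Q (Submodule.span F (Set.range ![a, z]))), g.1 T.x0 = x := by
    intro a ha haz a1 a2
    obtain ⟨hnd, hdim⟩ := perp_span_pair_facts S.nd haz
    exact SG_trans_two S.nd hnd (by omega)
      (mem_perp_pair.2 ⟨by rw [polar_comm]; exact a1, by rw [polar_comm]; exact z1⟩)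
      (mem_perp_pair.2 ⟨by rw [polar_comm]; exact a2, by rw [polar_comm]; exact z2⟩)
      T.x0_ne hx0 T.hx hx
  have same : ∀ {a} {g g' : oGroup Q}, Q a = S.c → polar Q T.x0 a = 0 → g ∈ SG Q (pv Q a) →
      g' ∈ SG Q (pv Q a) → g.1 T.x0 = x → g'.1 T.x0 = x → (S.s a g)⁻¹ * S.s a g' ∈ S.par T := by
    intro a g g' ha a1 hg hg' eg eg'
    rw [← S.s_inv ha hg, ← S.s_mul a ha _ (inv_mem hg) _ hg']
    refine S.s_mem_par T ha a1 (mul_mem (inv_mem hg) hg') ?_
    show g.1.symm (g'.1 T.x0) = T.x0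
    rw [eg', LinearEquiv.symm_apply_eq, eg]
  obtain ⟨g, hg, egx⟩ := trans hv z4 hv1 hv2
  obtain ⟨g', hg', egx'⟩ := trans hw z3 hw1 hw2
  have l1 : ∀ {a b}, perpS Q (Submodule.span F (Set.range ![a, b])) ≤ pv Q a := fun {a b} y hy =>
    mem_perp_single.2 (mem_perp_pair.1 hy).1
  have l2 : ∀ {a b}, perpS Q (Submodule.span F (Set.range ![a, b])) ≤ pv Q b := fun {a b} y hy =>
    mem_perp_single.2 (mem_perp_pair.1 hy).2
  have a1 := same hv hv1 hh (SG_mono l1 hg) hhx egx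
  have a2 := same hz z1 (SG_mono l2 hg) (SG_mono l2 hg') egx egx'
  have a3 := same hw hw1 (SG_mono l1 hg') hk egx' hkx
  rw [S.agree hv hz z4 hg] at a1
  rw [S.agree hw hz z3 hg'] at a3
  have h3 := mul_mem (mul_mem a1 a2) a3
  rwa [show (S.s v h)⁻¹ * S.s z g * ((S.s z g)⁻¹ * S.s z g') * ((S.s z g')⁻¹ * S.s w k) =
    (S.s v h)⁻¹ * S.s w k by group] at h3

/-- The elements compatible with the cosets of the points. -/
def good : Subgroup E where
  carrier := {e | ∀ x, Q x = 0 → x ≠ 0 → ∀ r r', S.Rep T x r → S.Rep T ((S.π e).1 x) r' →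
    r'⁻¹ * e * r ∈ S.par T}
  one_mem' := fun x hx hx0 r r' h h' => by
    rw [map_one] at h'
    rw [mul_one]
    exact S.Rep_coset T hx hx0 h' h
  mul_mem' := fun {a b} ha hb x hx hx0 r r' h h' => by
    have hbx : Q ((S.π b).1 x) = 0 := by rw [(S.π b).2]; exact hx
    have hbx0 := iso_ne_zero (S.π b) hx0
    obtain ⟨m, hm⟩ := S.exists_Rep T hbx hbx0
    rw [map_mul] at h'
    have h3 := mul_mem (ha _ hbx hbx0 m r' hm h') (hb x hx hx0 r m h hm)
    rwa [show r'⁻¹ * a * m * (m⁻¹ * b * r) = r'⁻¹ * (a * b) * r by group] at h3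
  inv_mem' := fun {a} ha x hx hx0 r r' h h' => by
    have hy : Q ((S.π a⁻¹).1 x) = 0 := by rw [(S.π a⁻¹).2]; exact hx
    have e : (S.π a).1 ((S.π a⁻¹).1 x) = x := by
      rw [map_inv]; exact (S.π a).1.apply_symm_apply x
    have h3 := inv_mem (ha _ hy (iso_ne_zero _ hx0) r' r h' (e.symm ▸ h))
    rwa [mul_inv_rev, mul_inv_rev, inv_inv, ← mul_assoc] at h3

theorem s_mem_good {v : V} (hv : Q v = S.c) (hv1 : polar Q T.x0 v = 0) {k : oGroup Q}
    (hk : k ∈ SG Q (pv Q v)) : S.s v k ∈ S.good T := by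
  intro x hx hx0 r r' hr hr'
  rw [S.π_s v hv k hk] at hr'
  have := S.dim
  have hkv : k.1 v = v :=
    SG_fix hk (by rw [pv, perpS_perpS S.nd]; exact Submodule.mem_span_singleton_self v)
  obtain ⟨u, hu, u1, u2, u3⟩ := S.three T.x0 x (k⁻¹.1 T.x0)
  obtain ⟨h, hh, ehx⟩ := S.exists_move T hx hx0 hu u1 u2
  set x1 := k.1 x
  set x2 := k.1 T.x0 with hx2
  have hx2Q : Q x2 = 0 := by rw [hx2, k.2]; exact T.hx
  have hx20 : x2 ≠ 0 := iso_ne_zero k T.x0_ne
  set u' := k.1 u with hu'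
  have hu'Q : Q u' = S.c := by rw [hu', k.2]; exact hu
  have u'0 : polar Q T.x0 u' = 0 := by
    rw [← k.1.apply_symm_apply T.x0, hu', polar_oGroup]; exact u3
  have u'1 : polar Q x1 u' = 0 := by rw [hu', polar_oGroup]; exact u2
  have u'2 : polar Q x2 u' = 0 := by rw [hu', polar_oGroup]; exact u1
  obtain ⟨h2, hh2, eh2⟩ := S.exists_move T hx2Q hx20 hu'Q u'0 u'2
  have hp := S.Rep_coset T hx2Q hx20 (e := S.s u' h2) (e' := S.s v k)
    ⟨u', h2, hu'Q, u'0, u'2, hh2, eh2, rfl⟩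
    ⟨v, k, hv, hv1, by rw [hx2, ← hkv, polar_oGroup]; exact hv1, hk, rfl, rfl⟩
  have hc := S.s_conj (S.s v k) hu hh
  rw [S.π_s v hv k hk, ← hu'] at hc
  have hh' : k * h * k⁻¹ ∈ SG Q (pv Q u') :=
    SG_conj (fun y hy => mem_perp_single.2 (by rw [hu', polar_oGroup]; exact mem_perp_single.1 hy)) hh
  have hmap : (k * h * k⁻¹ * h2).1 T.x0 = x1 := by
    show k.1 (h.1 (k.1.symm (h2.1 T.x0))) = x1
    rw [eh2, hx2, LinearEquiv.symm_apply_apply, ehx]
  have hA := S.Rep_coset T (show Q x1 = 0 by rw [k.2]; exact hx) (iso_ne_zero k hx0) hr'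
    ⟨u', k * h * k⁻¹ * h2, hu'Q, u'0, u'1, mul_mem hh' hh2, hmap, rfl⟩
  have hB := S.Rep_coset T hx hx0 (e := S.s u h) ⟨u, h, hu, u1, u2, hh, ehx, rfl⟩ hr
  have h3 := mul_mem (mul_mem hA hp) hB
  rw [S.s_mul u' hu'Q _ hh' _ hh2, ← hc] at h3
  rwa [show r'⁻¹ * (S.s v k * S.s u h * (S.s v k)⁻¹ * S.s u' h2) * ((S.s u' h2)⁻¹ * S.s v k) *
    ((S.s u h)⁻¹ * r) = r'⁻¹ * S.s v k * r by group] at h3

end Ctx

/-- A perfect central extension of `Ω` split over the stabilisers of the vectors of one value is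
trivial. -/
theorem injective_of_sections {Q : QuadraticForm F V} (hQ : (polarBilin Q).Nondegenerate)
    (hN : 8 ≤ Module.finrank F V)
    (hs : (∃ s : F, s ≠ 0 ∧ s ≠ 1) ∨ 9 ≤ Module.finrank F V ∨
      ∀ T : Submodule F V, (∀ t ∈ T, Q t = 0) → Module.finrank F T + 5 ≤ Module.finrank F V)
    {c : F} (hc : c ≠ 0)
    (hperfv : ∀ v, Q v = c → ⁅SG Q (pv Q v), SG Q (pv Q v)⁆ = SG Q (pv Q v))
    (hmove : ∀ v x y, Q v = c → Q x = 0 → Q y = 0 → x ≠ 0 → y ≠ 0 → polar Q v x = 0 →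
      polar Q v y = 0 → ∃ h ∈ SG Q (pv Q v), h.1 x = y)
    (π : E →* oGroup Q)
    (hker : π.ker ≤ center E) (hrange : π.range = commutator (oGroup Q))
    (hperf : commutator E = ⊤)
    (hsec : ∀ v, Q v = c → ∃ s : SG Q (pv Q v) →* E, ∀ h, π (s h) = h.1) :
    Function.Injective π := by
  classical
  choose s hs' using hsec
  let S : Ctx Q E :=
    { nd := hQ, dim := hN, field_large := hs, c := c, c_ne := hc, perf := hperfv, move := hmove
      π := π
      central := hker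
      s := fun v h => if hv : Q v = c then (if hh : h ∈ SG Q (pv Q v) then s v hv ⟨h, hh⟩ else 1) else 1
      π_s := fun v hv h hh => by simp only [dif_pos hv, dif_pos hh]; exact hs' v hv _
      s_mul := fun v hv g hg h hh => by
        simp only [dif_pos hv, dif_pos hg, dif_pos hh, dif_pos (mul_mem hg hh)]
        exact map_mul (s v hv) ⟨g, hg⟩ ⟨h, hh⟩ }
  have hthree := S.three
  obtain ⟨x0, -, hx0, hQx⟩ := exists_singular_of_three (Q := Q) ⊤ (by rw [finrank_top]; omega)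
  obtain ⟨y, hy⟩ := exists_polar_ne hQ hx0
  set y1 := (polar Q x0 y)⁻¹ • y with hy1
  have hp1 : polar Q x0 y1 = 1 := by rw [hy1, polar_smul_right, smul_eq_mul, inv_mul_cancel₀ hy]
  have hxx : polar Q x0 x0 = 0 := by rw [polar_self, hQx, smul_zero]
  let T : Frame Q :=
    { x0 := x0, y0 := y1 + (-Q y1) • x0, hx := hQx
      hy := by
        rw [quad_add, quad_smul Q (-Q y1), hQx, polar_smul_right, polar_comm Q y1 x0, hp1, smul_eq_mul]
        ring
      hxy := by rw [polar_add_right, hp1, polar_smul_right, hxx, smul_zero, add_zero] }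
  have htop : S.good T = ⊤ := by
    have hle : siegelGroup Q ≤ (S.good T).map π := by
      refine (closure_le _).2 ?_
      rintro _ ⟨e, a, h0, hea, rfl⟩
      obtain ⟨v, hv, h1, h3, h4⟩ := hthree T.x0 e a
      have hm := Ctx.siegel_mem_pv h0 hea h3 h4
      exact ⟨_, S.s_mem_good T hv h1 hm, S.π_s v hv _ hm⟩
    rw [siegelGroup_eq_commutator hQ (by omega)] at hle
    have hcov : ∀ e, ∃ g ∈ S.good T, π g = π e := fun e => by
      obtain ⟨g, hg, eg⟩ := hle (hrange ▸ MonoidHom.mem_range.2 ⟨e, rfl⟩ : π e ∈ commutator (oGroup Q))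
      exact ⟨g, hg, eg⟩
    refine eq_top_iff.2 ?_
    rw [← hperf, _root_.commutator_def, commutator_le]
    intro a _ b _
    obtain ⟨a', ha', ea⟩ := hcov a
    obtain ⟨b', hb', eb⟩ := hcov b
    rw [comm_congr hker ea.symm eb.symm]
    exact commutatorElement_def a' b' ▸ mul_mem (mul_mem (mul_mem ha' hb') (inv_mem ha')) (inv_mem hb')
  rw [injective_iff_map_eq_one]
  intro z hz
  obtain ⟨v, hv, h1, -⟩ := hthree T.x0 T.x0 T.x0
  have hrep : S.Rep T T.x0 1 := ⟨v, 1, hv, h1, h1, one_mem _, rfl, (S.s_one hv).symm⟩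
  have h := (htop ▸ mem_top z : z ∈ S.good T) T.x0 hQx hx0 1 1 hrep (by
    show S.Rep T ((π z).1 T.x0) 1
    rw [hz]; exact hrep)
  rw [inv_one, one_mul, mul_one] at h
  exact S.par_inj T h hz

end CfsgLib.Aniso.Even
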