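/-
In characteristic two the Siegel group of the orthogonal space of a vector of value one in a space of
minus type is the symplectic group.
-/
import Cfsg.Agent.DMult.AnisoTwo
import Cfsg.Agent.Quad.NegOne
import Cfsg.Agent.SpMult.Main
import Cfsg.Agent.Classical.SymplecticBasic

set_option autoImplicit false
set_option linter.unusedSectionVars false

namespace CfsgLib.DMult.MinusPoint

open QuadraticMap Subgroup Matrix
open CfsgLib.Forms CfsgLib.Aniso
open CfsgLib.Quad (minusQ plusQ oGroup siegel refl perpS)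
open CfsgLib.SpPres (Spn)

universe u

variable {F : Type u} [Field F] [CharP F 2] [Finite F] {m : ℕ} {a b : F}

/-- The vector of value one. -/
def v0 (F : Type u) [Field F] (m : ℕ) : (Fin m ⊕ Fin m) ⊕ Fin 2 → F := Pi.single (Sum.inr 0) 1

/-- The hyperbolic part. -/
def embL (F : Type u) [Field F] (m : ℕ) : (Fin m ⊕ Fin m → F) →ₗ[F] ((Fin m ⊕ Fin m) ⊕ Fin 2 → F) where
  toFun z := Sum.elim z 0
  map_add' x y := funext fun i => by rcases i with i | i <;> simp
  map_smul' c x := funext fun i => by rcases i with i | i <;> simp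

/-- The projection on the hyperbolic part. -/
def projL (F : Type u) [Field F] (m : ℕ) : ((Fin m ⊕ Fin m) ⊕ Fin 2 → F) →ₗ[F] (Fin m ⊕ Fin m → F) :=
  LinearMap.funLeft F F Sum.inl

theorem two_eq : (2 : F) = 0 := CharTwo.two_eq_zero

theorem Q_emb (z : Fin m ⊕ Fin m → F) : minusQ m a b (embL F m z) = plusQ m z := by
  rw [CfsgLib.Quad.minusQ_coe, CfsgLib.Quad.plusQ_coe]
  simp [Cfsg.quadFormMinus, Cfsg.quadFormPlus, embL]

theorem Q_v0 : minusQ m a b (v0 F m) = 1 := by
  rw [CfsgLib.Quad.minusQ_coe]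
  simp [Cfsg.quadFormMinus, v0]

theorem polar_eq (u v : (Fin m ⊕ Fin m) ⊕ Fin 2 → F) : polar (minusQ m a b) u v =
    polar (plusQ m) (projL F m u) (projL F m v) +
      a * (u (Sum.inr 0) * v (Sum.inr 1) + v (Sum.inr 0) * u (Sum.inr 1)) := by
  rw [CfsgLib.Quad.polar_minusQ]
  simp only [two_eq, zero_mul, zero_add, add_zero]
  rfl

theorem polar_v0 (x : (Fin m ⊕ Fin m) ⊕ Fin 2 → F) :
    polar (minusQ m a b) x (v0 F m) = a * x (Sum.inr 1) := by
  rw [polar_eq, show projL F m (v0 F m) = 0 from funext fun i => by simp [projL, LinearMap.funLeft, v0],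
    polar_zero_right]
  simp [v0]

theorem plus_eq_form (u v : Fin m ⊕ Fin m → F) : polar (plusQ m) u v = CfsgLib.Symp.form u v := by
  rw [CfsgLib.Quad.polar_plusQ, CfsgLib.Symp.form_apply]
  refine Finset.sum_congr rfl fun i _ => ?_
  rw [CharTwo.sub_eq_add]; ring

theorem decomp {x : (Fin m ⊕ Fin m) ⊕ Fin 2 → F} (h : x (Sum.inr 1) = 0) :
    x = embL F m (projL F m x) + x (Sum.inr 0) • v0 F m := by
  funext i
  rcases i with i | i
  · simp [embL, projL, LinearMap.funLeft, v0]
  · fin_cases i <;> simp [embL, v0, h]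

theorem proj_emb (z : Fin m ⊕ Fin m → F) : projL F m (embL F m z) = z := rfl

theorem proj_v0 : projL F m (v0 F m) = 0 := funext fun i => by simp [projL, LinearMap.funLeft, v0]

theorem Q_emb_add (z : Fin m ⊕ Fin m → F) (r : F) :
    minusQ m a b (embL F m z + r • v0 F m) = plusQ m z + r * r := by
  rw [quad_add, quad_smul, Q_emb, Q_v0, polar_smul_right, polar_v0]
  simp [embL]

theorem a_ne (hab : ∀ z₁ z₂ : F, z₁ ^ 2 + a * z₁ * z₂ + b * z₂ ^ 2 = 0 → z₁ = 0 ∧ z₂ = 0) : a ≠ 0 := by
  intro e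
  refine CfsgLib.Quad.disc_ne_zero hab ?_
  rw [e, show (4 : F) = 2 * 2 by ring, two_eq]
  ring

/-- The Siegel group of the orthogonal space of the vector. -/
noncomputable abbrev Pt (a b : F) (m : ℕ) : Subgroup (oGroup (minusQ m a b)) :=
  SG (minusQ m a b) (pv (minusQ m a b) (v0 F m))

variable (hab : ∀ z₁ z₂ : F, z₁ ^ 2 + a * z₁ * z₂ + b * z₂ ^ 2 = 0 → z₁ = 0 ∧ z₂ = 0)
include hab

theorem mem_pv {x : (Fin m ⊕ Fin m) ⊕ Fin 2 → F} :
    x ∈ pv (minusQ m a b) (v0 F m) ↔ x (Sum.inr 1) = 0 := by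
  rw [mem_perp_single, polar_comm, polar_v0, mul_eq_zero, or_iff_right (a_ne hab)]

theorem fix_v0 {g : oGroup (minusQ m a b)} (hg : g ∈ Pt a b m) : g.1 (v0 F m) = v0 F m :=
  SG_fix hg (by
    rw [pv, CfsgLib.Quad.perpS_perpS (CfsgLib.Quad.minusQ_nondeg hab m)]
    exact Submodule.mem_span_singleton_self _)

theorem apply_emb {g : oGroup (minusQ m a b)} (hg : g ∈ Pt a b m) (z : Fin m ⊕ Fin m → F) :
    g.1 (embL F m z) (Sum.inr 1) = 0 :=
  (mem_pv hab).1 (SG_maps hg ((mem_pv hab).2 (by simp [embL])))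

/-- The action on the quotient by the vector. -/
def act (g : oGroup (minusQ m a b)) : (Fin m ⊕ Fin m → F) →ₗ[F] (Fin m ⊕ Fin m → F) :=
  (projL F m).comp (g.1.toLinearMap.comp (embL F m))

omit hab in
theorem act_apply (g : oGroup (minusQ m a b)) (z : Fin m ⊕ Fin m → F) :
    act g z = projL F m (g.1 (embL F m z)) := rfl

theorem act_mul {g h : oGroup (minusQ m a b)} (hg : g ∈ Pt a b m) (hh : h ∈ Pt a b m) :
    act (g * h) = (act g).comp (act h) := by
  refine LinearMap.ext fun z => ?_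
  show projL F m (g.1 (h.1 (embL F m z))) = projL F m (g.1 (embL F m (projL F m (h.1 (embL F m z)))))
  conv_lhs => rw [decomp (apply_emb hab hh z), map_add, map_smul, fix_v0 hab hg, map_add, map_smul,
    proj_v0, smul_zero, add_zero]

theorem act_mem {g : oGroup (minusQ m a b)} (hg : g ∈ Pt a b m) :
    LinearMap.toMatrix' (act g) ∈ Matrix.symplecticGroup (Fin m) F := by
  refine CfsgLib.Symp.mem_iff_form.2 fun u v => ?_
  rw [LinearMap.toMatrix'_mulVec, LinearMap.toMatrix'_mulVec, ← plus_eq_form, ← plus_eq_form, act_apply,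
    act_apply]
  have h := CfsgLib.Quad.polar_oGroup g (embL F m u) (embL F m v)
  rw [polar_eq, polar_eq, apply_emb hab hg, apply_emb hab hg] at h
  simp only [proj_emb, mul_zero, add_zero] at h
  rw [h]
  simp [embL]

/-- The homomorphism to the symplectic group. -/
noncomputable def toSp : Pt a b m →* Spn F m :=
  MonoidHom.mk' (fun g => ⟨LinearMap.toMatrix' (act g.1), act_mem hab g.2⟩) fun g h => Subtype.ext (by
    show LinearMap.toMatrix' (act (g.1 * h.1)) = _
    rw [act_mul hab g.2 h.2, LinearMap.toMatrix'_comp]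
    rfl)

theorem toSp_smul (g : Pt a b m) (z : Fin m ⊕ Fin m → F) : toSp hab g • z = act g.1 z :=
  LinearMap.toMatrix'_mulVec _ _

theorem pt_le_commutator (hm : 2 ≤ m) : Pt a b m ≤ commutator (oGroup (minusQ m a b)) := by
  refine (closure_le _).2 ?_
  rintro _ ⟨e, -, x, -, h0, hea, rfl⟩
  exact CfsgLib.Quad.siegel_mem_commutator (CfsgLib.Quad.minusQ_nondeg hab m) (by simp; omega) h0 hea

theorem toSp_injective (hm : 2 ≤ m) : Function.Injective (toSp (m := m) hab) := by
  classical
  refine (injective_iff_map_eq_one _).2 fun g hg => Subtype.ext ?_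
  obtain ⟨g, hgP⟩ := g
  have hz : ∀ z, g.1 (embL F m z) = embL F m z := by
    intro z
    have e := decomp (apply_emb hab hgP z)
    have hp : projL F m (g.1 (embL F m z)) = z := by
      rw [← act_apply, ← toSp_smul hab ⟨g, hgP⟩ z, hg, one_smul]
    rw [hp] at e
    have hQ := congrArg (minusQ m a b) e
    rw [g.2, Q_emb_add, Q_emb, left_eq_add, mul_self_eq_zero] at hQ
    rw [e, hQ, zero_smul, add_zero]
  set z0 : (Fin m ⊕ Fin m) ⊕ Fin 2 → F := Pi.single (Sum.inr 1) 1 with hz0
  set d := g.1 z0 + z0 with hd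
  have hd1 : d (Sum.inr 1) = 0 := by
    refine (mem_pv hab).1 (mem_perp_single.2 ?_)
    rw [hd, polar_add_right]
    nth_rewrite 1 [← fix_v0 hab hgP]
    rw [CfsgLib.Quad.polar_oGroup, CharTwo.add_self_eq_zero]
  have hproj : projL F m d = 0 := (CfsgLib.Quad.plusQ_nondeg m).1 _ fun w => by
    rw [polarBilin_apply_apply]
    have h : polar (minusQ m a b) d (embL F m w) = 0 := by
      rw [hd, polar_add_left]
      nth_rewrite 1 [← hz w]
      rw [CfsgLib.Quad.polar_oGroup, CharTwo.add_self_eq_zero]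
    rw [polar_eq, proj_emb, hd1] at h
    simpa [embL] using h
  have hdd : d = d (Sum.inr 0) • v0 F m := by
    conv_lhs => rw [decomp hd1, hproj, map_zero, zero_add]
  set r := d (Sum.inr 0)
  have hgz0 : g.1 z0 = z0 + r • v0 F m := by
    rw [← hdd, hd, add_left_comm, CharTwo.add_self_eq_zero, add_zero]
  have hr : r = 0 ∨ r = a := by
    have h := g.2 z0
    rw [hgz0, quad_add, quad_smul, Q_v0, polar_smul_right, polar_v0] at h
    have : r * (r + a) = 0 := by
      simp [z0] at h
      linear_combination h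
    rcases mul_eq_zero.1 this with e | e
    · exact Or.inl e
    · exact Or.inr (CharTwo.add_eq_zero.1 e)
  have hspan : ∀ x : (Fin m ⊕ Fin m) ⊕ Fin 2 → F,
      x = embL F m (projL F m x) + x (Sum.inr 0) • v0 F m + x (Sum.inr 1) • z0 := fun x => by
    funext i
    rcases i with i | i
    · simp [embL, projL, LinearMap.funLeft, v0, z0]
    · fin_cases i <;> simp [embL, v0, z0]
  rcases hr with hr | hr
  · refine Subtype.ext (LinearEquiv.ext fun x => ?_)
    show g.1 x = x
    rw [hspan x, map_add, map_add, map_smul, map_smul, hz, fix_v0 hab hgP, hgz0, hr, zero_smul, add_zero]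
  · exfalso
    have hQ := CfsgLib.Quad.minusQ_nondeg hab m
    have hne : minusQ m a b (v0 F m) ≠ 0 := by rw [Q_v0]; exact one_ne_zero
    have hrefl : g = CfsgLib.Quad.reflProd (minusQ m a b) [v0 F m] := by
      refine Subtype.ext (LinearEquiv.ext fun x => ?_)
      rw [show CfsgLib.Quad.reflProd (minusQ m a b) [v0 F m] = refl (minusQ m a b) (v0 F m) by
        simp [CfsgLib.Quad.reflProd]]
      rw [CfsgLib.Quad.refl_apply, polar_v0, Q_v0, inv_one, CharTwo.neg_eq, one_mul]
      conv_lhs => rw [hspan x, map_add, map_add, map_smul, map_smul, hz, fix_v0 hab hgP, hgz0, hr,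
        smul_add, smul_smul, mul_comm _ a, ← add_assoc, ← hspan x]
    have := pt_le_commutator hab hm hgP
    rw [hrefl, CfsgLib.Quad.reflProd_mem_commutator_iff hQ (Or.inr (by simp; omega))
      (by simp [Q_v0])] at this
    simp at this

theorem toSp_surjective : Function.Surjective (toSp (m := m) hab) := by
  classical
  refine MonoidHom.range_eq_top.1 (eq_top_iff.2 ?_)
  rw [← CfsgLib.Symp.tvGroup_eq_top, CfsgLib.Symp.tvGroup]
  refine (closure_le _).2 ?_
  rintro _ ⟨w, -, c, rfl⟩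
  have hsq := (Finite.injective_iff_bijective.1 (CharTwo.sq_injective (R := F))).2
  obtain ⟨r, hr⟩ := hsq (plusQ m w)
  obtain ⟨s, hs⟩ := hsq c
  change r ^ 2 = _ at hr
  change s ^ 2 = _ at hs
  set e := embL F m w + r • v0 F m with he
  have hQe : minusQ m a b e = 0 := by rw [he, Q_emb_add, ← pow_two, hr, CharTwo.add_self_eq_zero]
  have he1 : e (Sum.inr 1) = 0 := by simp [he, embL, v0]
  have hea : polar (minusQ m a b) e (s • v0 F m) = 0 := by
    rw [polar_smul_right, polar_v0, he1, mul_zero, smul_zero]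
  refine ⟨⟨_, siegel_mem_SG ((mem_pv hab).2 he1) ((mem_pv hab).2 (by simp [v0])) hQe hea⟩, ?_⟩
  refine CfsgLib.Symp.symp_ext fun z => ?_
  rw [toSp_smul, act_apply, CfsgLib.Quad.siegel_apply hQe hea, CfsgLib.Symp.tv_smul, ← plus_eq_form]
  have h1 : polar (minusQ m a b) (embL F m z) e = polar (plusQ m) z w := by
    rw [polar_eq, he1, map_add, map_smul, proj_v0, smul_zero, add_zero, proj_emb, proj_emb]
    simp [embL]
  have h2 : polar (minusQ m a b) (embL F m z) (s • v0 F m) = 0 := by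
    rw [polar_smul_right, polar_v0]; simp [embL]
  rw [h1, h2, quad_smul, Q_v0, mul_one, zero_add, map_sub, map_add, map_smul, map_smul, map_smul,
    proj_v0, proj_emb, he, map_add, map_smul, proj_v0, proj_emb]
  simp only [smul_zero, add_zero]
  rw [← pow_two, hs, sub_eq_add_neg, ← neg_smul, CharTwo.neg_eq]

/-- The isomorphism with the symplectic group. -/
noncomputable def equivSp (hm : 2 ≤ m) : Pt a b m ≃* Spn F m :=
  MulEquiv.ofBijective (toSp hab) ⟨toSp_injective hab hm, toSp_surjective hab⟩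

theorem pt_perfect (hm : 3 ≤ m) : ⁅Pt a b m, Pt a b m⁆ = Pt a b m := by
  have := Fintype.ofFinite F
  have h : commutator (Pt a b m) = ⊤ := by
    have hinj : Function.Injective (equivSp (m := m) hab (by omega)).toMonoidHom :=
      (equivSp (m := m) hab (by omega)).injective
    refine map_injective hinj ?_
    have hsur : Function.Surjective (equivSp (m := m) hab (by omega)).toMonoidHom :=
      (equivSp (m := m) hab (by omega)).surjective
    rw [Schur.map_commutator_of_surjective _ hsur,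
      CfsgLib.SpMult.perfect_spn m (by omega) (Or.inl hm), map_top_of_surjective _ hsur]
  conv_rhs => rw [← range_subtype (Pt a b m), MonoidHom.range_eq_map, ← h]
  rw [_root_.commutator_def, map_commutator, ← MonoidHom.range_eq_map, range_subtype]

theorem pt_move (hm : 2 ≤ m) {x y : (Fin m ⊕ Fin m) ⊕ Fin 2 → F} (hx : minusQ m a b x = 0)
    (hy : minusQ m a b y = 0) (hx0 : x ≠ 0) (hy0 : y ≠ 0)
    (h1 : polar (minusQ m a b) (v0 F m) x = 0) (h2 : polar (minusQ m a b) (v0 F m) y = 0) :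
    ∃ h ∈ Pt a b m, h.1 x = y := by
  classical
  have x1 := (mem_pv hab).1 (mem_perp_single.2 h1)
  have y1 := (mem_pv hab).1 (mem_perp_single.2 h2)
  have key : ∀ {x}, minusQ m a b x = 0 → x (Sum.inr 1) = 0 →
      plusQ m (projL F m x) + x (Sum.inr 0) * x (Sum.inr 0) = 0 := fun {x} h e => by
    rw [← Q_emb_add (a := a) (b := b), ← decomp e, h]
  have hne : ∀ {x}, minusQ m a b x = 0 → x (Sum.inr 1) = 0 → x ≠ 0 → projL F m x ≠ 0 :=
    fun {x} h e hx hp => hx (by
      have := key h e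
      rw [hp, QuadraticMap.map_zero, zero_add, mul_self_eq_zero] at this
      rw [decomp e, hp, this, map_zero, zero_smul, add_zero])
  obtain ⟨g, hg⟩ := CfsgLib.Symp.exists_smul_eq_of_ne_zero (hne hx x1 hx0) (hne hy y1 hy0)
  set h := (equivSp hab hm).symm g
  have hgh : toSp hab h = g := (equivSp hab hm).apply_symm_apply g
  refine ⟨h.1, h.2, ?_⟩
  have e1 : h.1.1 x (Sum.inr 1) = 0 := (mem_pv hab).1 (SG_maps h.2 ((mem_pv hab).2 x1))
  have e2 : projL F m (h.1.1 x) = projL F m y := by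
    rw [← hg, ← hgh, toSp_smul, act_apply]
    conv_lhs => rw [decomp x1, map_add, map_smul, fix_v0 hab h.2, map_add, map_smul, proj_v0,
      smul_zero, add_zero]
  have e3 : h.1.1 x (Sum.inr 0) = y (Sum.inr 0) := by
    have k1 := key (show minusQ m a b (h.1.1 x) = 0 by rw [h.1.2]; exact hx) e1
    have k2 := key hy y1
    rw [e2, ← k2] at k1
    exact CharTwo.sq_injective (by simpa [pow_two] using add_left_cancel k1)
  rw [decomp e1, e2, e3, ← decomp y1]

/-- Every such vector has an isomorphic Siegel group, perfect and transitive on singular points. -/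
theorem point_facts (hm : 3 ≤ m) {v : (Fin m ⊕ Fin m) ⊕ Fin 2 → F} (hv : minusQ m a b v = 1) :
    ⁅SG (minusQ m a b) (pv (minusQ m a b) v), SG (minusQ m a b) (pv (minusQ m a b) v)⁆ =
        SG (minusQ m a b) (pv (minusQ m a b) v) ∧
      (∀ x y, minusQ m a b x = 0 → minusQ m a b y = 0 → x ≠ 0 → y ≠ 0 →
        polar (minusQ m a b) v x = 0 → polar (minusQ m a b) v y = 0 →
        ∃ h ∈ SG (minusQ m a b) (pv (minusQ m a b) v), h.1 x = y) ∧
      Nonempty (SG (minusQ m a b) (pv (minusQ m a b) v) ≃* Spn F m) := by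
  set Q := minusQ m a b
  obtain ⟨g, -, hg⟩ := CfsgLib.Quad.exists_siegel_apply_eq (CfsgLib.Quad.minusQ_nondeg hab m)
    (by simp; omega) (u := v0 F m) (v := v) (by rw [Q_v0, hv]) (by rw [Q_v0]; exact one_ne_zero)
  have hf : ∀ x ∈ pv Q (v0 F m), g.1 x ∈ pv Q v := fun x hx => mem_perp_single.2 (by
    rw [← hg, CfsgLib.Quad.polar_oGroup]; exact mem_perp_single.1 hx)
  have hb : ∀ x ∈ pv Q v, g⁻¹.1 x ∈ pv Q (v0 F m) := fun x hx => mem_perp_single.2 (by
    rw [show v0 F m = g⁻¹.1 v from ((LinearEquiv.symm_apply_eq _).2 hg.symm).symm,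
      CfsgLib.Quad.polar_oGroup]
    exact mem_perp_single.1 hx)
  have hmap : SG Q (pv Q v) = (Pt a b m).map (MulAut.conj g).toMonoidHom := by
    ext x
    constructor
    · intro hx
      refine ⟨g⁻¹ * x * g, ?_, ?_⟩
      · simpa using SG_conj hb hx
      · show g * (g⁻¹ * x * g) * g⁻¹ = x
        group
    · rintro ⟨y, hy, rfl⟩
      exact SG_conj hf hy
  refine ⟨?_, ?_, ?_⟩
  · rw [hmap, ← map_commutator, pt_perfect hab hm]
  · intro x y hx hy hx0 hy0 k1 k2
    have hback : ∀ {x}, polar Q v x = 0 → polar Q (v0 F m) (g⁻¹.1 x) = 0 := fun h =>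
      mem_perp_single.1 (hb _ (mem_perp_single.2 h))
    obtain ⟨h, hh, e⟩ := pt_move hab (by omega) (x := g⁻¹.1 x) (y := g⁻¹.1 y)
      (by rw [g⁻¹.2]; exact hx) (by rw [g⁻¹.2]; exact hy)
      (fun e => hx0 ((LinearEquiv.map_eq_zero_iff _).1 e))
      (fun e => hy0 ((LinearEquiv.map_eq_zero_iff _).1 e)) (hback k1) (hback k2)
    refine ⟨g * h * g⁻¹, SG_conj hf hh, ?_⟩
    show g.1 (h.1 (g⁻¹.1 x)) = y
    rw [e]
    exact g.1.apply_symm_apply y
  · exact ⟨((MulEquiv.subgroupCongr hmap).trans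
      ((Pt a b m).equivMapOfInjective _ (MulAut.conj g).injective).symm).trans (equivSp hab (by omega))⟩

end CfsgLib.DMult.MinusPoint
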