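/-
Perfect central extensions of `Ω` of minus type have at most two elements over the identity.
-/
import Cfsg.Agent.DMult.OddMult
import Cfsg.Agent.DMult.MinusPoint

set_option autoImplicit false
set_option linter.unusedSectionVars false

namespace CfsgLib.DMult

open Subgroup QuadraticMap
open CfsgLib.Forms CfsgLib.Aniso
open CfsgLib.Quad (minusQ oddQ oGroup perpS siegel siegelGroup)
open scoped commutatorElement

universe u

variable {F : Type u} [Field F] [Finite F] {m : ℕ} {a b : F}

omit [Finite F] in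
theorem minusQ_finrank (m : ℕ) :
    Module.finrank F ((Fin m ⊕ Fin m) ⊕ Fin 2 → F) = 2 * m + 2 := by
  simp; omega

omit [Finite F] in
/-- The stabilisers lie in the range. -/
theorem SG_le_range {V : Type*} [AddCommGroup V] [Module F V] [FiniteDimensional F V] [Finite F]
    {Q : QuadraticForm F V} (hQ : (polarBilin Q).Nondegenerate) (hN : 5 ≤ Module.finrank F V)
    {E : Type*} [Group E] {π : E →* oGroup Q} (hrange : π.range = commutator (oGroup Q))
    (U : Submodule F V) : SG Q U ≤ π.range := by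
  rw [hrange, ← CfsgLib.Quad.siegelGroup_eq_commutator hQ hN]
  exact closure_mono fun _ ⟨a, _, b, _, h0, hab, r⟩ => ⟨a, b, h0, hab, r⟩

section Two

variable [CharP F 2] {E : Type u} [Group E] [Finite E]

/-- In characteristic two there are sections over the stabilisers. -/
theorem minus_sections_two (hm : 3 ≤ m) (hexc : ¬(m = 3 ∧ Nat.card F = 2))
    (hab : ∀ z₁ z₂ : F, z₁ ^ 2 + a * z₁ * z₂ + b * z₂ ^ 2 = 0 → z₁ = 0 ∧ z₂ = 0)
    (π : E →* oGroup (minusQ m a b)) (hker : π.ker ≤ center E)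
    (hrange : π.range = commutator (oGroup (minusQ m a b)))
    {v : (Fin m ⊕ Fin m) ⊕ Fin 2 → F} (hv : minusQ m a b v = 1) :
    ∃ s : SG (minusQ m a b) (pv (minusQ m a b) v) →* E, ∀ h, π (s h) = h.1 := by
  have := Fintype.ofFinite F
  obtain ⟨-, -, ⟨e⟩⟩ := MinusPoint.point_facts hab hm hv
  have hsplit : CfsgLib.SpMult.Splits (CfsgLib.SpPres.Spn F m) :=
    CfsgLib.SpMult.splits_spn (by omega) (fun h => by omega)
      (fun h => hexc ⟨h.1, by rw [Nat.card_eq_fintype_card]; exact h.2⟩)
  have hle := SG_le_range (CfsgLib.Quad.minusQ_nondeg hab m)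
    (by rw [minusQ_finrank]; omega) hrange (pv (minusQ m a b) v)
  obtain ⟨θ, hθ⟩ := hsplit.lift π.rangeRestrict_surjective
    (by rw [π.ker_rangeRestrict]; exact hker) ((Subgroup.inclusion hle).comp e.symm.toMonoidHom)
  refine ⟨θ.comp e.toMonoidHom, fun h => ?_⟩
  have h1 := congrArg Subtype.val (hθ (e h))
  simpa using h1

/-- Outside `O₈⁻(2)` every perfect central extension of `Ω` of minus type is trivial in
characteristic two. -/
theorem inj_minus_two (hm : 3 ≤ m) (hexc : ¬(m = 3 ∧ Nat.card F = 2))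
    (hab : ∀ z₁ z₂ : F, z₁ ^ 2 + a * z₁ * z₂ + b * z₂ ^ 2 = 0 → z₁ = 0 ∧ z₂ = 0)
    (π : E →* oGroup (minusQ m a b)) (hker : π.ker ≤ center E)
    (hrange : π.range = commutator (oGroup (minusQ m a b)))
    (hperf : commutator E = ⊤) : Function.Injective π := by
  refine Aniso.Even.injective_of_sections (CfsgLib.Quad.minusQ_nondeg hab m)
    (by rw [minusQ_finrank]; omega) ?_ (one_ne_zero (α := F))
    (fun v hv => (MinusPoint.point_facts hab hm hv).1)
    (fun v x y hv => (MinusPoint.point_facts hab hm hv).2.1 x y) π hker hrange hperf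
    (fun v hv => minus_sections_two hm hexc hab π hker hrange hv)
  by_cases h4 : m = 3
  · left
    classical
    have := Fintype.ofFinite F
    have hq : 2 < Fintype.card F := by
      have h1 : 1 < Fintype.card F := Fintype.one_lt_card
      have h2 : Fintype.card F ≠ 2 := fun h => hexc ⟨h4, by rw [Nat.card_eq_fintype_card]; exact h⟩
      omega
    obtain ⟨s, -, hs⟩ := Finset.exists_mem_notMem_of_card_lt_card (s := ({0, 1} : Finset F))
      (t := Finset.univ) (Finset.card_le_two.trans_lt (by rw [Finset.card_univ]; omega))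
    simp only [Finset.mem_insert, Finset.mem_singleton, not_or] at hs
    exact ⟨s, hs⟩
  · right; left
    rw [minusQ_finrank]; omega

end Two

section Odd

/-- The vector of the binary part orthogonal to the unit. -/
def offVec (F : Type u) [Field F] (m : ℕ) (a : F) : (Fin m ⊕ Fin m) ⊕ Fin 2 → F :=
  Sum.elim 0 ![-a, 2]

omit [Finite F] in
theorem Q_offVec : minusQ m a b (offVec F m a) = 4 * b - a ^ 2 := by
  simp [CfsgLib.Quad.minusQ_coe, Cfsg.quadFormMinus, offVec]; ring

omit [Finite F] in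
theorem polar_offVec (x : (Fin m ⊕ Fin m) ⊕ Fin 2 → F) :
    polar (minusQ m a b) (offVec F m a) x = (4 * b - a ^ 2) * x (Sum.inr 1) := by
  simp only [polar, CfsgLib.Quad.minusQ_coe]
  simp [Cfsg.quadFormMinus, offVec]
  ring

/-- The stabiliser of that vector is `Ω` of odd dimension. -/
theorem exists_off_embed (hm : 2 ≤ m) (h2 : (2 : F) ≠ 0)
    (hab : ∀ z₁ z₂ : F, z₁ ^ 2 + a * z₁ * z₂ + b * z₂ ^ 2 = 0 → z₁ = 0 ∧ z₂ = 0) :
    ∃ j : oGroup (oddQ (F := F) m) →* oGroup (minusQ m a b), Function.Injective j ∧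
      (commutator (oGroup (oddQ (F := F) m))).map j =
        SG (minusQ m a b) (pv (minusQ m a b) (offVec F m a)) := by
  have hQ := CfsgLib.Quad.minusQ_nondeg hab m
  have hne : minusQ m a b (offVec F m a) ≠ 0 := by
    rw [Q_offVec]; exact CfsgLib.Quad.disc_ne_zero hab
  obtain ⟨hnd, hdim⟩ := perp_single_facts hQ h2 hne
  replace hdim : Module.finrank F (pv (minusQ m a b) (offVec F m a)) + 1 = 2 * m + 2 :=
    hdim.trans (minusQ_finrank m)
  have hmemU : ∀ x, x ∈ pv (minusQ m a b) (offVec F m a) ↔ x (Sum.inr 1) = 0 := fun x => by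
    rw [mem_perp_single, polar_offVec, mul_eq_zero, or_iff_right (CfsgLib.Quad.disc_ne_zero hab)]
  have hU5 : 5 ≤ Module.finrank F (pv (minusQ m a b) (offVec F m a)) := by omega
  let φ : (Unit ⊕ (Fin m ⊕ Fin m) → F) ≃ₗ[F] pv (minusQ m a b) (offVec F m a) :=
    { toFun := fun w => ⟨Sum.elim (w ∘ Sum.inr) ![w (Sum.inl ()), 0], (hmemU _).2 (by simp)⟩
      map_add' := fun x y => Subtype.ext (funext fun k => by
        rcases k with k | k
        · simp
        · fin_cases k <;> simp)
      map_smul' := fun c x => Subtype.ext (funext fun k => by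
        rcases k with k | k
        · simp
        · fin_cases k <;> simp)
      invFun := fun x => Sum.elim (fun _ => x.1 (Sum.inr 0)) (x.1 ∘ Sum.inl)
      left_inv := fun w => funext fun k => by rcases k with ⟨⟩ | k <;> simp
      right_inv := fun x => Subtype.ext (funext fun k => by
        rcases k with k | k
        · simp
        · fin_cases k <;> simp [(hmemU _).1 x.2]) }
  obtain ⟨j, hj, hjmap, -⟩ := exists_embed (Q' := oddQ (F := F) m) hQ hnd hU5 φ fun w => by
    show minusQ m a b (Sum.elim (w ∘ Sum.inr) ![w (Sum.inl ()), 0]) = oddQ m w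
    rw [CfsgLib.Quad.oddQ_coe, CfsgLib.Quad.minusQ_coe]
    simp [Cfsg.quadFormOdd, Cfsg.quadFormMinus]
    ring
  exact ⟨j, hj, hjmap⟩

variable {E : Type u} [Group E] [Finite E]

/-- Reduction to the stabiliser of one vector. -/
theorem ker_bound_of_point {V : Type u} [AddCommGroup V] [Module F V] [FiniteDimensional F V]
    {Q : QuadraticForm F V} (hQ : (polarBilin Q).Nondegenerate) (h2 : (2 : F) ≠ 0)
    (hN : 8 ≤ Module.finrank F V) {e : V} (hene : Q e ≠ 0)
    (hthree : ∀ x y z : V, ∃ t, Q t = Q e ∧ polar Q x t = 0 ∧ polar Q y t = 0 ∧ polar Q z t = 0)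
    (hlink : ∀ x y v w : V, Q v = Q e → Q w = Q e → polar Q x v = 0 → polar Q x w = 0 →
      polar Q y v = 0 → polar Q y w = 0 → ∃ z, Q z = Q e ∧ polar Q x z = 0 ∧ polar Q y z = 0 ∧
        NonDeg Q (Submodule.span F (Set.range ![v, z])) ∧
        NonDeg Q (Submodule.span F (Set.range ![w, z])))
    (π : E →* oGroup Q) (hker : π.ker ≤ center E) (hrange : π.range = commutator (oGroup Q))
    (hperf : commutator E = ⊤)
    (hX : ∀ X : Subgroup E, ⁅X, X⁆ = X → X.map π = SG Q (pv Q e) →
      ∃ ζ : E, ∀ z ∈ X, π z = 1 → z = 1 ∨ z = ζ) :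
    ∃ ζ : E, ∀ z, π z = 1 → z = 1 ∨ z = ζ := by
  obtain ⟨hnd, hdim⟩ := perp_single_facts hQ h2 hene
  replace hdim : Module.finrank F (pv Q e) + 1 = _ := hdim
  have hU5 : 5 ≤ Module.finrank F (pv Q e) := by omega
  obtain ⟨X, hXp, hXmap⟩ := exists_perfect_over π hker (SG_perfect hQ hnd hU5)
    (SG_le_range hQ (by omega) hrange _)
  obtain ⟨ζ, hζ⟩ := hX X hXp hXmap
  set C := π.ker ⊓ X with hC
  have hCN : C.Normal := ⟨fun z hz g => by
    rw [mem_center_iff.1 (hker hz.1) g, mul_inv_cancel_right]; exact hz⟩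
  let π' : E ⧸ C →* oGroup Q := QuotientGroup.lift C π inf_le_left
  have hker' : π'.ker ≤ center (E ⧸ C) := by
    intro z hz
    obtain ⟨a, rfl⟩ := QuotientGroup.mk'_surjective C z
    refine mem_center_iff.2 fun y => ?_
    obtain ⟨b, rfl⟩ := QuotientGroup.mk'_surjective C y
    rw [← map_mul, ← map_mul, mem_center_iff.1 (hker (show π a = 1 from hz)) b]
  have hrange' : π'.range = commutator (oGroup Q) := by
    rw [← hrange]
    ext g
    constructor
    · rintro ⟨z, rfl⟩
      obtain ⟨a, rfl⟩ := QuotientGroup.mk'_surjective C z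
      exact ⟨a, rfl⟩
    · rintro ⟨a, rfl⟩
      exact ⟨QuotientGroup.mk' C a, rfl⟩
  have hperf' : commutator (E ⧸ C) = ⊤ := by
    rw [← Schur.map_commutator_of_surjective _ (QuotientGroup.mk'_surjective C), hperf,
      map_top_of_surjective _ (QuotientGroup.mk'_surjective C)]
  have hsec0 : ∀ k : SG Q (pv Q e), ∃ x ∈ X, π x = k := fun k => (hXmap.ge k.2 : k.1 ∈ X.map π)
  choose σ hσX hσ using hsec0
  let se : SG Q (pv Q e) →* E ⧸ C := MonoidHom.mk' (fun k => QuotientGroup.mk' C (σ k)) fun a b => by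
    show QuotientGroup.mk' C (σ (a * b)) = QuotientGroup.mk' C (σ a) * QuotientGroup.mk' C (σ b)
    rw [← map_mul]
    refine (QuotientGroup.eq).2 ⟨?_, X.mul_mem (X.inv_mem (hσX _)) (X.mul_mem (hσX _) (hσX _))⟩
    show π _ = 1
    rw [map_mul, map_inv, map_mul, hσ, hσ, hσ, Subgroup.coe_mul, inv_mul_cancel]
  have hinj := injective_of_sections hQ h2 (by omega) hene hthree hlink π' hker' hrange' hperf'
    fun v hv => by
    obtain ⟨h, hh, hev⟩ := CfsgLib.Quad.exists_siegel_apply_eq hQ (by omega) hv.symm hene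
    obtain ⟨g, hg⟩ : h ∈ π.range := by
      rw [hrange, ← CfsgLib.Quad.siegelGroup_eq_commutator hQ (by omega)]; exact hh
    have hmap : ∀ k : SG Q (pv Q v), h⁻¹ * k.1 * h ∈ SG Q (pv Q e) := fun k => by
      have := SG_conj (g := h⁻¹) (W' := pv Q e) (fun w hw => mem_perp_single.2 (by
        have h1 := mem_perp_single.1 hw
        rw [← hev, ← h.1.apply_symm_apply w, CfsgLib.Quad.polar_oGroup] at h1
        exact h1)) k.2
      rwa [inv_inv] at this
    let r : SG Q (pv Q v) →* SG Q (pv Q e) :=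
      MonoidHom.mk' (fun k => ⟨h⁻¹ * k.1 * h, hmap k⟩) fun a b => Subtype.ext (by
        show h⁻¹ * (a.1 * b.1) * h = h⁻¹ * a.1 * h * (h⁻¹ * b.1 * h)
        group)
    refine ⟨(MulAut.conj (QuotientGroup.mk' C g)).toMonoidHom.comp (se.comp r), fun k => ?_⟩
    show π (g * σ (r k) * g⁻¹) = k.1
    rw [map_mul, map_mul, map_inv, hσ, hg]
    show h * (h⁻¹ * k.1 * h) * h⁻¹ = k.1
    group
  refine ⟨ζ, fun z hz => ?_⟩
  have hzC : z ∈ C := (QuotientGroup.eq_one_iff z).1 (hinj (show π' (QuotientGroup.mk' C z) = π' 1 by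
    rw [map_one]; exact hz))
  exact hζ z hzC.2 hz

/-- Outside `O₈⁻(3)` there are at most two elements over the identity. -/
theorem ker_bound_minus (hm : 3 ≤ m) (hexc : m = 3 → 4 < Nat.card F) (h2 : (2 : F) ≠ 0)
    (hab : ∀ z₁ z₂ : F, z₁ ^ 2 + a * z₁ * z₂ + b * z₂ ^ 2 = 0 → z₁ = 0 ∧ z₂ = 0)
    (π : E →* oGroup (minusQ m a b)) (hker : π.ker ≤ center E)
    (hrange : π.range = commutator (oGroup (minusQ m a b)))
    (hperf : commutator E = ⊤) : ∃ ζ : E, ∀ z, π z = 1 → z = 1 ∨ z = ζ := by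
  classical
  have hQ := CfsgLib.Quad.minusQ_nondeg hab m
  have hN : 8 ≤ Module.finrank F ((Fin m ⊕ Fin m) ⊕ Fin 2 → F) := by rw [minusQ_finrank]; omega
  have hene : minusQ m a b (offVec F m a) ≠ 0 := by
    rw [Q_offVec]; exact CfsgLib.Quad.disc_ne_zero hab
  have htl : (∀ x y z, ∃ t, minusQ m a b t = minusQ m a b (offVec F m a) ∧
      polar (minusQ m a b) x t = 0 ∧ polar (minusQ m a b) y t = 0 ∧ polar (minusQ m a b) z t = 0) ∧
      ∀ x y v w, minusQ m a b v = minusQ m a b (offVec F m a) →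
        minusQ m a b w = minusQ m a b (offVec F m a) → polar (minusQ m a b) x v = 0 →
        polar (minusQ m a b) x w = 0 → polar (minusQ m a b) y v = 0 →
        polar (minusQ m a b) y w = 0 → ∃ z, minusQ m a b z = minusQ m a b (offVec F m a) ∧
          polar (minusQ m a b) x z = 0 ∧ polar (minusQ m a b) y z = 0 ∧
          NonDeg (minusQ m a b) (Submodule.span F (Set.range ![v, z])) ∧
          NonDeg (minusQ m a b) (Submodule.span F (Set.range ![w, z])) := by
    rcases eq_or_lt_of_le hm with rfl | hlt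
    swap
    · exact three_link_of_nine hQ h2 (by rw [minusQ_finrank]; omega) hene
    have hq := hexc rfl
    obtain ⟨s, hs0, hs1⟩ : ∃ s : F, s ≠ 0 ∧ 4 * s * s ≠ 1 := by
      have := Fintype.ofFinite F
      rw [Nat.card_eq_fintype_card] at hq
      obtain ⟨s, -, hs⟩ := Finset.exists_mem_notMem_of_card_lt_card
        (s := ({0, 2⁻¹, -2⁻¹} : Finset F)) (t := Finset.univ)
        (Finset.card_le_three.trans_lt (by rw [Finset.card_univ]; omega))
      simp only [Finset.mem_insert, Finset.mem_singleton, not_or] at hs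
      refine ⟨s, hs.1, fun e => ?_⟩
      have : (2 * s) * (2 * s) = 1 := by linear_combination e
      rcases mul_self_eq_one_iff.1 this with h | h
      · exact hs.2.1 (by field_simp; linear_combination h)
      · exact hs.2.2 (by field_simp; linear_combination h)
    exact ⟨exists_perp3 hQ h2 hN _, fun x y v w hv hw h1 h3 h5 h7 =>
      exists_link hQ h2 (by omega) hene ⟨s, hs0, hs1⟩ hv hw h1 h3 h5 h7⟩
  refine ker_bound_of_point hQ h2 hN hene htl.1 htl.2 π hker hrange hperf fun X hXp hXmap => ?_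
  obtain ⟨j, hj, hjmap⟩ := exists_off_embed (m := m) (by omega) h2 hab
  obtain ⟨π₀, hr0, he0⟩ := exists_pull π j hj (X := X) (hXmap.trans hjmap.symm)
  have hperfX : commutator X = ⊤ := by
    refine map_injective X.subtype_injective ?_
    rw [_root_.commutator_def, map_commutator, ← MonoidHom.range_eq_map, range_subtype, hXp]
  have hc0 : π₀.ker ≤ center X := fun z hz => mem_center_iff.2 fun y => Subtype.ext (mem_center_iff.1
    (hker (MonoidHom.mem_ker.2 (by rw [← he0, MonoidHom.mem_ker.1 hz, map_one]))) y.1)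
  obtain ⟨ζ, hζ⟩ := ker_bound_odd hm hexc h2 π₀ hc0 hr0 hperfX
  refine ⟨ζ, fun z hz hz1 => ?_⟩
  exact (hζ ⟨z, hz⟩ (hj (by rw [he0, map_one]; exact hz1))).imp (congrArg Subtype.val)
    (congrArg Subtype.val)

end Odd

end CfsgLib.DMult
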