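/-
No compatible sign functions for three involutions of `Ω₆⁻(2)` acting on an extraspecial group.
-/
import Mathlib.Data.ZMod.Basic
import Mathlib.Tactic.LinearCombination
import Mathlib.Tactic.ReduceModChar

set_option autoImplicit false
set_option linter.unusedSimpArgs false

namespace CfsgLib.DMult.MinusTwoExc

/-- Coordinates. -/
abbrev V6 : Type := Fin 6 → ZMod 2

/-- The cocycle of the extraspecial group. -/
def fc (s t : V6) : ZMod 2 := s 1 * t 0 + s 3 * t 2 + s 5 * t 4 + s 4 * t 4 + s 5 * t 5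

/-- The first involution. -/
def A0 (t : V6) : V6 := ![t 0 + t 1 + t 5, t 1, t 2, t 3, t 4 + t 1, t 5]

/-- The second involution. -/
def A1 (t : V6) : V6 := ![t 0, t 1, t 2, t 3 + t 2 + t 4, t 4, t 5 + t 2]

/-- The third involution. -/
def A2 (t : V6) : V6 :=
  ![t 0 + t 1 + t 2 + t 4 + t 5, t 1, t 2, t 3 + t 1 + t 2 + t 4 + t 5, t 4 + t 1 + t 2,
    t 5 + t 1 + t 2]

/-- A basis vector. -/
def bv (i : Fin 6) : V6 := Pi.single i 1

theorem no_cocycle (c0 c1 c2 : V6 → ZMod 2)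
    (h0 : ∀ s t, c0 (s + t) = c0 s + c0 t + fc (A0 s) (A0 t) + fc s t)
    (h1 : ∀ s t, c1 (s + t) = c1 s + c1 t + fc (A1 s) (A1 t) + fc s t)
    (h2 : ∀ s t, c2 (s + t) = c2 s + c2 t + fc (A2 s) (A2 t) + fc s t)
    (e1 : ∀ t, c2 t + c2 (A2 t) = 0)
    (e2 : ∀ t, c0 t + c2 (A0 t) + c1 (A2 (A0 t)) + c2 (A1 (A2 (A0 t))) +
      c0 (A2 (A1 (A2 (A0 t)))) + c1 (A0 (A2 (A1 (A2 (A0 t))))) = 0)
    (e3 : ∀ t, c0 t + c1 (A0 t) + c2 (A1 (A0 t)) + c0 (A2 (A1 (A0 t))) +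
      c2 (A0 (A2 (A1 (A0 t)))) + c1 (A2 (A0 (A2 (A1 (A0 t))))) = 0) : False := by
  have q1 := e1 (bv 1)
  have q2 := e2 (bv 2)
  have q3 := e3 (bv 1)
  rw [show A2 (bv 1) = bv 0 + bv 1 + bv 3 + bv 4 + bv 5 by decide] at q1
  rw [show A0 (bv 2) = bv 2 by decide,
    show A2 (bv 2) = bv 0 + bv 2 + bv 3 + bv 4 + bv 5 by decide,
    show A1 (bv 0 + bv 2 + bv 3 + bv 4 + bv 5) = bv 0 + bv 2 + bv 3 + bv 4 by decide,
    show A2 (bv 0 + bv 2 + bv 3 + bv 4) = bv 0 + bv 2 + bv 3 + bv 5 by decide,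
    show A0 (bv 0 + bv 2 + bv 3 + bv 5) = bv 2 + bv 3 + bv 5 by decide] at q2
  rw [show A0 (bv 1) = bv 0 + bv 1 + bv 4 by decide,
    show A1 (bv 0 + bv 1 + bv 4) = bv 0 + bv 1 + bv 3 + bv 4 by decide,
    show A2 (bv 0 + bv 1 + bv 3 + bv 4) = bv 0 + bv 1 + bv 3 + bv 5 by decide,
    show A0 (bv 0 + bv 1 + bv 3 + bv 5) = bv 0 + bv 1 + bv 3 + bv 4 + bv 5 by decide,
    show A2 (bv 0 + bv 1 + bv 3 + bv 4 + bv 5) = bv 1 by decide] at q3
  simp only [h0, h1, h2] at q1 q2 q3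
  simp only [fc, A0, A1, A2, bv, Pi.add_apply, Pi.single_apply, Matrix.cons_val_zero,
    Matrix.cons_val_one, Matrix.cons_val, Fin.reduceEq, if_true, if_false, add_zero, zero_add,
    mul_zero, zero_mul, mul_one, one_mul] at q1 q2 q3
  have h : (1 : ZMod 2) = 0 := by
    linear_combination (norm := (ring_nf; reduce_mod_char)) q1 + q2 + q3
  exact one_ne_zero h

end CfsgLib.DMult.MinusTwoExc
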