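/-
The double cover of `Ω` of minus type inside the spin group of a larger plus type space.
-/
import Cfsg.Agent.DMult.MinusBound

set_option autoImplicit false
set_option linter.unusedSectionVars false
set_option linter.unusedSimpArgs false

namespace CfsgLib.DMult

open Subgroup QuadraticMap Matrix
open CfsgLib.Forms CfsgLib.Aniso
open CfsgLib.Quad (plusQ minusQ oGroup perpS siegel siegelGroup negIso)
open scoped commutatorElement

universe u

variable {F : Type u} [Field F]

/-- The embedding of the minus type space. -/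
def cutMap (m : ℕ) (a b : F) :
    ((Fin m ⊕ Fin m) ⊕ Fin 2 → F) →ₗ[F] (Fin (m + 2) ⊕ Fin (m + 2) → F) where
  toFun z := Sum.elim
    (Fin.cons (z (Sum.inr 0)) (Fin.cons (z (Sum.inr 1)) fun i => z (Sum.inl (Sum.inl i))))
    (Fin.cons (z (Sum.inr 0) + a * z (Sum.inr 1))
      (Fin.cons (b * z (Sum.inr 1)) fun i => z (Sum.inl (Sum.inr i))))
  map_add' x y := funext fun k => by
    rcases k with k | k <;> refine Fin.cases ?_ (fun j => ?_) k <;> simp <;>
      first | ring1 | (refine Fin.cases ?_ (fun i => ?_) j <;> simp <;> ring)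
  map_smul' c x := funext fun k => by
    rcases k with k | k <;> refine Fin.cases ?_ (fun j => ?_) k <;> simp <;>
      first | ring1 | (refine Fin.cases ?_ (fun i => ?_) j <;> simp <;> ring)

/-- The first vector orthogonal to the image. -/
def off1 (m : ℕ) (a : F) : Fin (m + 2) ⊕ Fin (m + 2) → F :=
  Sum.elim (Fin.cons 1 (Fin.cons 0 0)) (Fin.cons (-1) (Fin.cons (-a) 0))

/-- The second vector orthogonal to the image. -/
def off2 (m : ℕ) (a b : F) : Fin (m + 2) ⊕ Fin (m + 2) → F :=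
  Sum.elim (Fin.cons (-a) (Fin.cons 2 0)) (Fin.cons a (Fin.cons (a ^ 2 - 2 * b) 0))

theorem cutMap_Q (m : ℕ) (a b : F) (z : (Fin m ⊕ Fin m) ⊕ Fin 2 → F) :
    plusQ (m + 2) (cutMap m a b z) = minusQ m a b z := by
  rw [CfsgLib.Quad.plusQ_coe, CfsgLib.Quad.minusQ_coe]
  simp [Cfsg.quadFormPlus, Cfsg.quadFormMinus, cutMap, Fin.sum_univ_succ]
  ring

theorem cutMap_injective (m : ℕ) (a b : F) : Function.Injective (cutMap m a b) := by
  intro x y e
  have hl := fun i => congrFun e (Sum.inl i)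
  have hr := fun i => congrFun e (Sum.inr i)
  funext k
  rcases k with (i | i) | i
  · simpa [cutMap] using hl i.succ.succ
  · simpa [cutMap] using hr i.succ.succ
  · fin_cases i
    · simpa [cutMap] using hl 0
    · simpa [cutMap] using hl (Fin.succ 0)

theorem cutMap_polar (m : ℕ) (a b : F) (z w : (Fin m ⊕ Fin m) ⊕ Fin 2 → F) :
    polar (plusQ (m + 2)) (cutMap m a b z) (cutMap m a b w) = polar (minusQ m a b) z w := by
  simp only [polar, ← map_add, cutMap_Q]

theorem Q_off1 (m : ℕ) (a : F) : plusQ (m + 2) (off1 m a) = -1 := by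
  rw [CfsgLib.Quad.plusQ_coe]
  simp [Cfsg.quadFormPlus, off1, Fin.sum_univ_succ]

theorem Q_off2 (m : ℕ) (a b : F) : plusQ (m + 2) (off2 m a b) = a ^ 2 - 4 * b := by
  rw [CfsgLib.Quad.plusQ_coe]
  simp [Cfsg.quadFormPlus, off2, Fin.sum_univ_succ]
  ring

theorem polar_off (m : ℕ) (a b : F) :
    polar (plusQ (m + 2)) (off1 m a) (off2 m a b) = 0 ∧
      ∀ z, polar (plusQ (m + 2)) (cutMap m a b z) (off1 m a) = 0 ∧
        polar (plusQ (m + 2)) (cutMap m a b z) (off2 m a b) = 0 := by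
  refine ⟨?_, fun z => ⟨?_, ?_⟩⟩ <;>
    (simp only [polar, CfsgLib.Quad.plusQ_coe]
     simp [Cfsg.quadFormPlus, off1, off2, cutMap, Fin.sum_univ_succ]
     ring)

/-- The parity against the twist. -/
theorem par_tw {n : ℕ} :
    sgn par * tw * (sgn par)ᵀ = (-1 : F) ^ n • (tw : Sp F n) := by
  rw [sgn, transpose_mono _ _ (fun _ => rfl), tw, mono_mul, mono_mul, smul_mono]
  congr 1
  funext S
  simp only [par, id_eq]
  have h : S.card + Sᶜ.card = n := by rw [Finset.card_add_card_compl, Fintype.card_fin]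
  have e : (-1 : F) ^ n = (-1) ^ S.card * (-1) ^ Sᶜ.card := by rw [← pow_add, h]
  rw [e]
  ring

variable [Finite F]

set_option maxHeartbeats 1000000 in
/-- The double cover of `Ω` of minus type. -/
theorem exists_minus_cover {m : ℕ} (hm : 3 ≤ m) (h2 : (2 : F) ≠ 0) {a b : F}
    (hab : ∀ z₁ z₂ : F, z₁ ^ 2 + a * z₁ * z₂ + b * z₂ ^ 2 = 0 → z₁ = 0 ∧ z₂ = 0) :
    ∃ (Δ : Type u) (_ : Group Δ) (_ : Finite Δ) (τ : Δ →* oGroup (minusQ m a b)) (ζ : Δ),
      τ.range = commutator (oGroup (minusQ m a b)) ∧ τ.ker ≤ center Δ ∧ commutator Δ = ⊤ ∧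
      ζ ≠ 1 ∧ τ ζ = 1 ∧ (∀ z, τ z = 1 → z = 1 ∨ z = ζ) ∧
      (Even m → ∀ x, τ x = negIso (minusQ m a b) → x * x = ζ) := by
  classical
  have hn : 3 ≤ (m + 2) := by omega
  set Q := plusQ (F := F) (m + 2) with hQdef
  have hQ : (polarBilin Q).Nondegenerate := CfsgLib.Quad.plusQ_nondeg (m + 2)
  have hQm := CfsgLib.Quad.minusQ_nondeg hab m
  set U := LinearMap.range (cutMap m a b) with hU
  have hnd : NonDeg Q U := Submodule.disjoint_def.2 fun x hx hx' => by
    obtain ⟨z, rfl⟩ := hx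
    rw [show z = 0 from hQm.1 z fun w => by
      have := hx' (cutMap m a b w) ⟨w, rfl⟩
      rw [cutMap_polar] at this
      rwa [polarBilin_apply_apply, polar_comm], map_zero]
  let φ : ((Fin m ⊕ Fin m) ⊕ Fin 2 → F) ≃ₗ[F] U :=
    LinearEquiv.ofInjective (cutMap m a b) (cutMap_injective m a b)
  have hUdim : Module.finrank F U = 2 * m + 2 := by rw [← φ.finrank_eq, minusQ_finrank]
  have hU5 : 5 ≤ Module.finrank F U := by omega
  obtain ⟨j, hj, hjmap, hjφ⟩ := exists_embed (Q' := minusQ m a b) hQ hnd hU5 φ fun z => cutMap_Q m a b z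
  have hker : (cov F (m + 2)).ker ≤ center (spin F (m + 2)) := fun z hz => by
    obtain ⟨-, -, -, hc, -⟩ := cov_ker hz
    exact mem_center_iff.2 hc
  obtain ⟨X, hXp, hXmap⟩ := exists_perfect_over (cov F (m + 2)) hker (SG_perfect hQ hnd hU5) (by
    rw [cov_range]
    exact closure_mono fun _ ⟨a, _, b, _, h0, hab, r⟩ => ⟨a, b, h0, hab, r⟩)
  obtain ⟨π₀, hr0, he0⟩ := exists_pull (cov F (m + 2)) j hj (X := X) (hXmap.trans hjmap.symm)
  have hperfX : commutator X = ⊤ := by
    refine map_injective X.subtype_injective ?_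
    rw [_root_.commutator_def, map_commutator, ← MonoidHom.range_eq_map, range_subtype, hXp]
  have huel : ∀ x ∈ U, ∀ y ∈ U, ∀ (hx : Q x = 0) (hxy : polar Q x y = 0),
      (⟨uel x y, uel_mem hx hxy⟩ : spin F (m + 2)) ∈ X := by
    intro x hxU y hyU hx hxy
    set u : spin F (m + 2) := ⟨uel x y, uel_mem hx hxy⟩
    obtain ⟨w, hw, e⟩ : cov F (m + 2) u ∈ X.map (cov F (m + 2)) := by
      rw [hXmap, cov_uel hx hxy]
      exact siegel_mem_SG hxU (neg_mem hyU) hx (by rw [polar_neg_right, hxy, neg_zero])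
    obtain ⟨c, -, -, hcen, hsq⟩ := cov_ker (z := w⁻¹ * u) (by
      rw [map_mul, map_inv, e, inv_mul_cancel])
    have hu : u = w * (w⁻¹ * u) := by group
    set p := ringChar F
    have hp : u ^ p = 1 := by
      refine Subtype.ext (Units.ext ?_)
      rw [SubgroupClass.coe_pow, show (u.1 ^ p).1 = _ from uel_pow hx hxy p,
        ringChar.Nat.cast_ringChar, zero_smul, add_zero]
      rfl
    have hodd : p % 2 = 1 := by
      rcases (CharP.char_is_prime F p).eq_two_or_odd with h | h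
      · exfalso
        apply h2
        have := ringChar.Nat.cast_ringChar (R := F)
        rw [show ringChar F = 2 from h] at this
        exact_mod_cast this
      · exact h
    have hz : w⁻¹ * u = (w ^ p)⁻¹ := by
      have h1 : w ^ p * (w⁻¹ * u) ^ p = 1 := by
        rw [← (show Commute w (w⁻¹ * u) from hcen w).mul_pow, ← hu, hp]
      have h3 : (w⁻¹ * u) ^ p = w⁻¹ * u := by
        rw [← Nat.div_add_mod p 2, hodd, pow_succ, pow_mul, pow_two, hsq, one_pow, one_mul]
      rw [h3] at h1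
      exact (inv_eq_of_mul_eq_one_right h1).symm
    rw [hu, hz]
    exact mul_mem hw (inv_mem (pow_mem hw p))
  let i1 : Fin (m + 2) := ⟨2, by omega⟩
  let i2 : Fin (m + 2) := ⟨3, by omega⟩
  have hbasis : ∀ (k : Fin (m + 2) ⊕ Fin (m + 2)) (t : F), 2 ≤ (idx k).val →
      (Pi.single k t : Fin (m + 2) ⊕ Fin (m + 2) → F) ∈ U := by
    intro k t hk
    obtain ⟨i, hi⟩ : ∃ i : Fin m, idx k = i.succ.succ :=
      ⟨⟨(idx k).val - 2, by have := (idx k).isLt; omega⟩, Fin.ext (by simp; omega)⟩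
    rcases k with k | k
    · obtain rfl : k = i.succ.succ := hi
      refine ⟨Pi.single (Sum.inl (Sum.inl i)) t, funext fun l => ?_⟩
      rcases l with l | l <;> refine Fin.cases ?_ (fun j => ?_) l
      · simp [cutMap, Pi.single_apply, Fin.ext_iff]
      · refine Fin.cases ?_ (fun i' => ?_) j <;> simp [cutMap, Pi.single_apply, Fin.ext_iff]
      · simp [cutMap, Pi.single_apply]
      · refine Fin.cases ?_ (fun i' => ?_) j <;> simp [cutMap, Pi.single_apply]
    · obtain rfl : k = i.succ.succ := hi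
      refine ⟨Pi.single (Sum.inl (Sum.inr i)) t, funext fun l => ?_⟩
      rcases l with l | l <;> refine Fin.cases ?_ (fun j => ?_) l
      · simp [cutMap, Pi.single_apply]
      · refine Fin.cases ?_ (fun i' => ?_) j <;> simp [cutMap, Pi.single_apply]
      · simp [cutMap, Pi.single_apply, Fin.ext_iff]
      · refine Fin.cases ?_ (fun i' => ?_) j <;> simp [cutMap, Pi.single_apply, Fin.ext_iff]
  obtain ⟨g, hg, eg, g', hg', eg'⟩ := mem_sgn_of (F := F) (i := i1) (j := i2) (by simp [i1, i2, Fin.ext_iff])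
    (X.map (spin F (m + 2)).subtype) fun x y hx' hy' hxy' t => by
      have ha0 : 2 ≤ (idx x).val := by rcases hx' with h | h <;> rw [h] <;> simp [i1, i2]
      have hb0 : 2 ≤ (idx y).val := by rcases hy' with h | h <;> rw [h] <;> simp [i1, i2]
      have hx : Q (Pi.single x 1 : Fin (m + 2) ⊕ Fin (m + 2) → F) = 0 := An.Q_single _ _
      have hxy : polar Q (Pi.single x (1 : F) : Fin (m + 2) ⊕ Fin (m + 2) → F) (Pi.single y t) = 0 := by
        rw [polar_single, Pi.single_eq_of_ne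
          (fun e => hxy' (by rw [← e]; rcases y with y | y <;> rfl)), zero_mul]
      exact ⟨_, huel _ (hbasis x 1 ha0) _ (hbasis y t hb0) hx hxy, rfl⟩
  have hm1 : negOne (F := F) (n := m + 2) (by omega) ∈ X := by
    obtain ⟨x, hx, ex⟩ := hg
    obtain ⟨y, hy, ey⟩ := hg'
    convert mul_mem hx hy
    refine Subtype.ext (Units.ext ?_)
    show (negOne (F := F) (n := m + 2) (by omega)).1.1 = ((spin F (m + 2)).subtype x).1 * ((spin F (m + 2)).subtype y).1
    rw [ex, ey, eg, eg', sgn_mul, negOne_coe, one_eq_mono, smul_mono]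
    ext S T
    simp only [sgn, mono_apply, sign2]
    split_ifs <;> simp
  have hcov : ∀ z : X, π₀ z = 1 → cov F (m + 2) z.1 = 1 := fun z hz => by rw [← he0, hz, map_one]
  refine ⟨X, inferInstance, inferInstance, π₀, ⟨negOne (by omega), hm1⟩, hr0, fun z hz =>
    mem_center_iff.2 fun y => Subtype.ext (mem_center_iff.1 (hker (hcov z hz)) y.1), hperfX,
    fun e => negOne_ne (F := F) (n := m + 2) (by omega) h2 (congrArg Subtype.val e), hj (by
      rw [he0, cov_negOne, map_one]), fun z hz => ?_, ?_⟩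
  · exact (cov_ker_cases (F := F) (n := m + 2) (by omega) (hcov z hz)).imp (fun h => Subtype.ext h)
      fun h => Subtype.ext h
  -- the square of a lift of minus one
  intro heven x hx
  set u1 := off1 m a with hu1
  set u2 := off2 m a b with hu2
  obtain ⟨h12, hperp⟩ := polar_off m a b
  have hQ1 : Q u1 = -1 := Q_off1 m a
  have hQ2 : Q u2 = a ^ 2 - 4 * b := Q_off2 m a b
  have hQ2ne : Q u2 ≠ 0 := by
    rw [hQ2, ← neg_sub]; exact neg_ne_zero.2 (CfsgLib.Quad.disc_ne_zero hab)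
  have hu1P : u1 ∈ perpS Q U := fun w ⟨z, hz⟩ => hz ▸ (hperp z).1
  have hu2P : u2 ∈ perpS Q U := fun w ⟨z, hz⟩ => hz ▸ (hperp z).2
  have hind : LinearIndependent F ![u1, u2] := LinearIndependent.pair_iff.2 fun s t e => by
    have e0 := congrFun e (Sum.inl 0)
    have e1 := congrFun e (Sum.inl (Fin.succ 0))
    simp [hu1, hu2, off1, off2] at e0 e1
    refine ⟨?_, e1.resolve_right h2⟩
    rcases e1 with e1 | e1
    · linear_combination e0 + a * e1
    · exact absurd e1 h2
  have hspan : perpS Q U ≤ Submodule.span F (Set.range ![u1, u2]) := by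
    refine le_of_eq (Submodule.eq_of_le_of_finrank_le ?_ ?_).symm
    · refine Submodule.span_le.2 ?_
      rintro _ ⟨i, rfl⟩
      fin_cases i
      exacts [hu1P, hu2P]
    · have h1 := CfsgLib.Quad.finrank_perpS hQ U
      have h3 : Module.finrank F (Fin (m + 2) ⊕ Fin (m + 2) → F) = (m + 2) + (m + 2) := by simp
      rw [finrank_span_eq_card hind, Fintype.card_fin]
      omega
  have hxU : ∀ w ∈ U, (cov F (m + 2) x.1).1 w = -w := by
    rintro w ⟨z, rfl⟩
    rw [← he0, hx]
    rw [show cutMap m a b z = (φ z : Fin (m + 2) ⊕ Fin (m + 2) → F) from rfl, hjφ, CfsgLib.Quad.negIso_apply,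
      map_neg, Submodule.coe_neg]
  have hxP : ∀ w ∈ perpS Q U, (cov F (m + 2) x.1).1 w = w := fun w hw =>
    SG_fix (hXmap.le (mem_map_of_mem _ x.2)) hw
  have hspec : ∀ v, x.1.1.1 * iota v = iota ((cov F (m + 2) x.1).1 v) * x.1.1.1 := fun v =>
    vecHom_spec (Subgroup.inclusion spin_le_normV x.1) v
  set U1 := iota (F := F) u1
  set U2 := iota (F := F) u2
  set P : Sp F (m + 2) := sgn par with hP
  set Z := P * (U1 * U2) with hZ
  have s1 : U1 * U1 = Q u1 • (1 : Sp F (m + 2)) := iota_sq _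
  have s2 : U2 * U2 = Q u2 • (1 : Sp F (m + 2)) := iota_sq _
  have a12 : U2 * U1 = -(U1 * U2) := by
    have h := iota_anti u1 u2
    rw [h12, zero_smul] at h
    exact eq_neg_of_add_eq_zero_right h
  have pU : ∀ w, P * iota w = -(iota w * P) := par_iota
  have cU : ∀ w ∈ U, Z * iota w = -(iota w * Z) := by
    intro w hw
    have e1 : U1 * iota w = -(iota w * U1) := by
      rw [eq_neg_iff_add_eq_zero, iota_anti, polar_comm, hu1P w hw, zero_smul]
    have e2 : U2 * iota w = -(iota w * U2) := by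
      rw [eq_neg_iff_add_eq_zero, iota_anti, polar_comm, hu2P w hw, zero_smul]
    rw [hZ, mul_assoc, mul_assoc, e2, mul_neg, ← mul_assoc U1, e1, neg_mul, neg_neg, mul_assoc,
      ← mul_assoc P, pU, neg_mul, mul_assoc]
  have c1 : Z * U1 = U1 * Z := by
    rw [hZ, mul_assoc, mul_assoc, a12, mul_neg, mul_neg, ← mul_assoc U1 P,
      show U1 * P = -(P * U1) by rw [pU, neg_neg], neg_mul, mul_assoc]
  have c2 : Z * U2 = U2 * Z := by
    rw [hZ, mul_assoc, mul_assoc, ← mul_assoc U2 P, show U2 * P = -(P * U2) by rw [pU, neg_neg],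
      neg_mul, mul_assoc P U2, ← mul_assoc U2, a12, neg_mul, mul_neg, neg_neg, mul_assoc]
  have hsplit : ∀ v, ∃ w ∈ U, ∃ s t : F, v = w + (s • u1 + t • u2) := fun v => by
    obtain ⟨w, p, rfl⟩ := exists_decomp (hnd.isCompl hQ) v
    obtain ⟨f, hf⟩ := (Submodule.mem_span_range_iff_exists_fun F).1 (hspan p.2)
    exact ⟨w, w.2, f 0, f 1, by rw [← hf, Fin.sum_univ_two]; simp⟩
  have hcomm : ∀ v, (Z * x.1.1.1) * iota v = iota v * (Z * x.1.1.1) := fun v => by
    obtain ⟨w, hw, s, t, rfl⟩ := hsplit v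
    have f1 := hspec w
    have f2 := hspec u1
    have f3 := hspec u2
    rw [hxU w hw, map_neg] at f1
    rw [hxP u1 hu1P] at f2
    rw [hxP u2 hu2P] at f3
    have g1 : Z * x.1.1.1 * iota w = iota w * (Z * x.1.1.1) := by
      rw [mul_assoc, f1, neg_mul, mul_neg, ← mul_assoc, cU w hw, neg_mul, neg_neg, mul_assoc]
    have g2 : Z * x.1.1.1 * U1 = U1 * (Z * x.1.1.1) := by
      rw [mul_assoc, f2, ← mul_assoc, c1, mul_assoc]
    have g3 : Z * x.1.1.1 * U2 = U2 * (Z * x.1.1.1) := by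
      rw [mul_assoc, f3, ← mul_assoc, c2, mul_assoc]
    simp only [map_add, map_smul, mul_add, add_mul, mul_smul_comm, smul_mul_assoc]
    rw [g1, g2, g3]
  obtain ⟨c', hc'⟩ := scalar_of_comm (g := Z * x.1.1.1) fun k => by
    have h := hcomm (Pi.single k 1)
    rwa [iota_single, one_smul] at h
  have gsq : (U1 * U2) * (U1 * U2) = -(Q u1 * Q u2) • (1 : Sp F (m + 2)) := by
    rw [mul_assoc, ← mul_assoc U2, a12, neg_mul, mul_neg, mul_assoc U1 U2 U2, s2, mul_smul_comm,
      mul_one, mul_smul_comm, s1, smul_smul, ← neg_smul, mul_comm (Q u2)]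
  have Pg : (U1 * U2) * P = P * (U1 * U2) := by
    rw [mul_assoc, show U2 * P = -(P * U2) by rw [pU, neg_neg], mul_neg, ← mul_assoc,
      show U1 * P = -(P * U1) by rw [pU, neg_neg], neg_mul, neg_neg, mul_assoc]
  have Zsq : Z * Z = -(Q u1 * Q u2) • (1 : Sp F (m + 2)) := by
    rw [hZ, mul_assoc, ← mul_assoc (U1 * U2) P, Pg, mul_assoc P (U1 * U2), ← mul_assoc P P,
      par_mul_par, one_mul, gsq]
  have hqq : Q u1 * Q u2 ≠ 0 := mul_ne_zero (by rw [hQ1]; exact neg_ne_zero.2 one_ne_zero) hQ2ne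
  set c := c' * (-(Q u1 * Q u2))⁻¹ with hc
  have hxe : x.1.1.1 = c • Z := by
    have h := congrArg (fun y => Z * y) hc'
    beta_reduce at h
    rw [← mul_assoc, Zsq, smul_mul_assoc, one_mul, mul_smul_comm, mul_one] at h
    rw [hc, mul_comm, ← smul_smul, ← h, smul_smul, inv_mul_cancel₀ (neg_ne_zero.2 hqq), one_smul]
  have hT : Z * tw * Zᵀ = (Q u1 * Q u2) • (tw : Sp F (m + 2)) := by
    rw [hZ, Matrix.transpose_mul, Matrix.transpose_mul,
      show P * (U1 * U2) * tw * (U2ᵀ * U1ᵀ * Pᵀ) = P * (U1 * (U2 * (tw * U2ᵀ)) * U1ᵀ) * Pᵀ by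
        simp only [mul_assoc],
      tw_iota, ← mul_assoc U2, s2, smul_mul_assoc, one_mul, mul_smul_comm, smul_mul_assoc,
      mul_assoc U1 tw, tw_iota, ← mul_assoc U1, s1, smul_mul_assoc, one_mul, smul_smul,
      mul_smul_comm, smul_mul_assoc, hP, par_tw, smul_smul,
      (heven.add even_two).neg_one_pow, mul_one, mul_comm (Q u2)]
  have htw : x.1.1.1 * tw * (x.1.1.1)ᵀ = tw := spin_le_twGroup x.1.2
  rw [hxe, Matrix.transpose_smul, smul_mul_assoc, smul_mul_assoc, mul_smul_comm, hT, smul_smul,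
    smul_smul] at htw
  have hcc : c * (c * (Q u1 * Q u2)) = 1 := by
    have h3 := congrFun (congrFun htw ∅) (∅ : Finset (Fin (m + 2)))ᶜ
    simpa [tw, mono_apply, mul_assoc] using h3
  refine Subtype.ext (Subtype.ext (Units.ext ?_))
  show x.1.1.1 * x.1.1.1 = (negOne (F := F) (n := m + 2) (by omega)).1.1
  rw [negOne_coe, hxe, smul_mul_smul_comm, Zsq, smul_smul]
  congr 1
  linear_combination -hcc

end CfsgLib.DMult
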