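/-
The multiplier of the simple groups of minus type from the bound on the extensions of `Ω`.
-/
import Cfsg.Agent.DMult.MinusCover
import Cfsg.Agent.Quad.NegOneMinus
import Cfsg.Agent.FGSB.StemExt

set_option autoImplicit false
set_option linter.unusedSectionVars false

namespace CfsgLib.DMult

open Subgroup QuadraticMap
open CfsgLib.Quad (minusQ oGroup negIso)
open scoped commutatorElement

universe u

/-- A perfect central extension of a quotient of a group by a central subgroup is bounded by the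
extensions of the group. -/
theorem card_ker_le_cover {G D : Type u} [Group G] [Group D] [Finite D] (σ : D →* G)
    (hs : Function.Surjective σ) (hc : σ.ker ≤ center D) (hperf : commutator D = ⊤) (k : ℕ)
    (hb : ∀ (E : Type u) [Group E] [Finite E] (f : E →* D), Function.Surjective f →
      f.ker ≤ center E → commutator E = ⊤ → Nat.card f.ker ≤ k)
    {E : Type u} [Group E] [Finite E] (π : E →* G) (hπ : Function.Surjective π)
    (hπc : π.ker ≤ center E) (hE : commutator E = ⊤) : Nat.card π.ker ≤ k * Nat.card σ.ker := by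
  have hsurjP := Schur.psnd_surjective π σ hπ
  have hcP := SLMult.psnd_ker_le_center π σ hπc
  obtain ⟨hfs, hfc, hfd⟩ := SLMult.derived_stem _ hsurjP hcP hperf
  set f := (Schur.psnd π σ).comp (commutator (Schur.pullback π σ)).subtype
  have hperf' : commutator (commutator (Schur.pullback π σ)) = ⊤ := by
    refine eq_top_iff.2 fun y _ => ?_
    obtain ⟨c, hc', ec⟩ : f y ∈ (commutator (commutator (Schur.pullback π σ))).map f := by
      rw [Schur.map_commutator_of_surjective f hfs, hperf]; trivial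
    have := mul_mem hc' (hfd (show c⁻¹ * y ∈ f.ker by
      rw [MonoidHom.mem_ker, map_mul, map_inv, ec, inv_mul_cancel]))
    rwa [mul_inv_cancel_left] at this
  have hle := hb _ f hfs hfc hperf'
  have hgs : Function.Surjective ((Schur.pfst π σ).comp (commutator (Schur.pullback π σ)).subtype) :=
    fun x => by
      obtain ⟨p, hp, e⟩ : x ∈ (commutator (Schur.pullback π σ)).map (Schur.pfst π σ) := by
        rw [Schur.map_commutator_of_surjective _ (Schur.pfst_surjective π σ hs), hE]; trivial
      exact ⟨⟨p, hp⟩, e⟩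
  have h1 := Nat.card_le_card_of_surjective _ hgs
  have card_eq : ∀ {A B : Type u} [Group A] [Group B] (φ : A →* B), Function.Surjective φ →
      Nat.card A = Nat.card B * Nat.card φ.ker := fun {A B} _ _ φ hφ => by
    rw [card_eq_card_quotient_mul_card_subgroup φ.ker,
      Nat.card_congr (QuotientGroup.quotientKerEquivOfSurjective φ hφ).toEquiv]
  rw [card_eq f hfs, card_eq π hπ, card_eq σ hs] at h1
  have hG : 0 < Nat.card G := by
    have : Finite G := Finite.of_surjective _ hs
    exact Nat.card_pos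
  refine Nat.le_of_mul_le_mul_left (h1.trans ?_) hG
  rw [mul_assoc, mul_comm k]
  exact Nat.mul_le_mul_left _ (Nat.mul_le_mul_left _ hle)

variable {F : Type u} [Field F] [Finite F] {m : ℕ} {a b : F}

instance finite_oGroup_minus : Finite (oGroup (minusQ m a b)) :=
  Finite.of_injective
    (fun x => (x.1 : ((Fin m ⊕ Fin m) ⊕ Fin 2 → F) → ((Fin m ⊕ Fin m) ⊕ Fin 2 → F)))
    fun x y h => Subtype.ext (LinearEquiv.ext (congrFun h))

/-- The multiplier in odd characteristic. -/
theorem hasSchurMultiplier_minus_odd (hm : 3 ≤ m) {q : ℕ} (hq : Nat.card F = q) (hodd : Odd q)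
    (h2 : (2 : F) ≠ 0)
    (hab : ∀ z₁ z₂ : F, z₁ ^ 2 + a * z₁ * z₂ + b * z₂ ^ 2 = 0 → z₁ = 0 ∧ z₂ = 0)
    (hb : ∀ (E : Type u) [Group E] [Finite E] (π : E →* oGroup (minusQ m a b)), π.ker ≤ center E →
      π.range = commutator (oGroup (minusQ m a b)) → commutator E = ⊤ →
      ∃ ζ : E, ∀ z, π z = 1 → z = 1 ∨ z = ζ) :
    Cfsg.HasCyclicSchurMultiplier (Cfsg.POmega F (Cfsg.quadFormMinus m F a b))
      (Nat.gcd 4 (q ^ (m + 1) + 1)) := by
  classical
  rw [← CfsgLib.Quad.minusQ_coe]
  set Q := minusQ m a b with hQdef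
  have hQ : (polarBilin Q).Nondegenerate := CfsgLib.Quad.minusQ_nondeg hab m
  have hfin : 5 ≤ Module.finrank F ((Fin m ⊕ Fin m) ⊕ Fin 2 → F) := by rw [minusQ_finrank]; omega
  have hD := CfsgLib.Quad.commutator_commutator_eq_top hQ hfin
  let i := CfsgLib.Quad.pOmegaEquiv Q
  let σ : ↥(commutator (oGroup Q)) →* Cfsg.POmega F ⇑Q :=
    i.symm.toMonoidHom.comp (QuotientGroup.mk' (center ↥(commutator (oGroup Q))))
  have hσs : Function.Surjective σ := i.symm.surjective.comp (QuotientGroup.mk'_surjective _)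
  have hσk : σ.ker = center ↥(commutator (oGroup Q)) := by
    rw [← QuotientGroup.ker_mk' (center ↥(commutator (oGroup Q)))]
    exact MonoidHom.ker_mulEquiv_comp _ i.symm
  obtain ⟨Δ, _, _, τ, ζ, hr, hc, hperf, hζne, hζ1, hζ, hsq⟩ := exists_minus_cover hm h2 hab
  let τD : Δ →* ↥(commutator (oGroup Q)) := τ.codRestrict _ fun x => hr.le ⟨x, rfl⟩
  have hτDs : Function.Surjective τD := fun g => by
    obtain ⟨x, hx⟩ := hr.ge g.2
    exact ⟨x, Subtype.ext hx⟩
  let τ' : Δ →* Cfsg.POmega F ⇑Q := σ.comp τD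
  have hτ's : Function.Surjective τ' := hσs.comp hτDs
  have hτ'c : τ'.ker ≤ center Δ :=
    comp_ker_le_center τD (fun z hz => hc (congrArg Subtype.val hz : τ z = 1)) σ hσk.le hperf
  have hcenter : ∀ g ∈ σ.ker, g = 1 ∨ g.1 = negIso Q := fun g hg =>
    CfsgLib.Quad.center_omega_subset hQ hfin g (hσk ▸ hg)
  have hbound : ∀ (k : ℕ), Nat.card σ.ker ≤ k → ∀ (E : Type u) [Group E] [Finite E]
      (π : E →* Cfsg.POmega F ⇑Q), Function.Surjective π → π.ker ≤ center E → commutator E = ⊤ →
      Nat.card π.ker ≤ 2 * k := fun k hk E _ _ π h1 h2 h3 => by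
    refine (card_ker_le_cover σ hσs hσk.le hD 2 (fun E' _ _ f hf hfc hE' => ?_) π h1 h2 h3).trans
      (Nat.mul_le_mul_left _ hk)
    let π₁ : E' →* oGroup Q := (commutator (oGroup Q)).subtype.comp f
    have hk1 : π₁.ker = f.ker := by
      ext z
      simp only [π₁, MonoidHom.mem_ker, MonoidHom.comp_apply, Subgroup.coe_subtype,
        OneMemClass.coe_eq_one]
    obtain ⟨ζ', hζ'⟩ := hb E' π₁ (hk1.le.trans hfc) (by
      rw [MonoidHom.range_comp, MonoidHom.range_eq_top.2 hf, ← MonoidHom.range_eq_map,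
        range_subtype]) hE'
    calc Nat.card f.ker = (f.ker : Set E').ncard := (Nat.card_coe_set_eq _)
      _ ≤ ({1, ζ'} : Set E').ncard :=
          Set.ncard_le_ncard (fun z hz => hζ' z (by rw [← hk1] at hz; exact hz)) (Set.toFinite _)
      _ ≤ 2 := (Set.ncard_insert_le _ _).trans (by rw [Set.ncard_singleton])
  have key : IsCyclic τ'.ker ∧ Nat.card τ'.ker = Nat.gcd 4 (q ^ (m + 1) + 1) ∧
      2 * Nat.card σ.ker ≤ Nat.card τ'.ker := by
    have hqodd : q ^ (m + 1) % 2 = 1 := Nat.odd_iff.mp hodd.pow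
    have hkerτ : ∀ z, z ∈ τ'.ker → τ z = 1 ∨ τ z = negIso Q := fun z hz =>
      (hcenter _ hz).imp (fun h => congrArg Subtype.val h) id
    by_cases hmem : negIso Q ∈ commutator (oGroup Q)
    · have h3 : q ^ (m + 1) % 4 = 3 := (CfsgLib.Quad.negIso_minus_iff hq hodd h2 hab m).1 hmem
      have heven : Even m := by
        by_contra hne
        obtain ⟨k, hk⟩ : Even (m + 1) := (Nat.not_even_iff_odd.1 hne).add_one
        have h2' : q ^ k % 2 = 1 := Nat.odd_iff.mp hodd.pow
        have : q ^ (m + 1) % 4 = 1 := by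
          rw [hk, pow_add, Nat.mul_mod]
          have : q ^ k % 4 = 1 ∨ q ^ k % 4 = 3 := by omega
          rcases this with h | h <;> rw [h]
        omega
      obtain ⟨x, hx⟩ := hr.ge hmem
      have hxx := hsq heven x hx
      have hcenσ : (⟨_, hmem⟩ : commutator (oGroup Q)) ∈ center ↥(commutator (oGroup Q)) :=
        (CfsgLib.Quad.center_iff hQ hfin _).2 ⟨-1, by ring, fun v => by
          rw [CfsgLib.Quad.negIso_apply, neg_one_smul]⟩
      have hxk : x ∈ τ'.ker := by
        show σ (τD x) = 1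
        rw [← MonoidHom.mem_ker, hσk, show τD x = ⟨_, hmem⟩ from Subtype.ext hx]
        exact hcenσ
      have hkerx : τ'.ker = zpowers x := le_antisymm (fun z hz => by
        rcases hkerτ z hz with h | h
        · rcases hζ z h with e | e
          · exact e ▸ one_mem _
          · rw [e, ← hxx]; exact mul_mem (mem_zpowers x) (mem_zpowers x)
        · have h' : τ (x⁻¹ * z) = 1 := by rw [map_mul, map_inv, hx, h, inv_mul_cancel]
          rcases hζ _ h' with e | e
          · rw [inv_mul_eq_one] at e; exact e ▸ mem_zpowers x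
          · rw [inv_mul_eq_iff_eq_mul] at e
            rw [e, ← hxx]
            exact mul_mem (mem_zpowers x) (mul_mem (mem_zpowers x) (mem_zpowers x)))
        (zpowers_le.2 hxk)
      have hζζ : ζ * ζ = 1 := by
        rcases hζ (ζ * ζ) (by rw [map_mul, hζ1, one_mul]) with e | e
        · exact e
        · exact absurd (mul_eq_left.1 e) hζne
      have hord : orderOf x = 4 := orderOf_eq_prime_pow (p := 2) (n := 1)
        (by rw [pow_one, pow_two, hxx]; exact hζne)
        (by rw [show (2 : ℕ) ^ (1 + 1) = 2 + 2 from rfl, pow_add, pow_two, hxx]; exact hζζ)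
      refine ⟨hkerx ▸ inferInstance, ?_, ?_⟩
      · rw [hkerx, Nat.card_zpowers, hord]
        exact (Nat.gcd_eq_left (by omega)).symm
      · rw [hkerx, Nat.card_zpowers, hord]
        have : (σ.ker : Set ↥(commutator (oGroup Q))).ncard ≤ 2 :=
          (Set.ncard_le_ncard (t := ({1, ⟨_, hmem⟩} : Set ↥(commutator (oGroup Q))))
            (fun g hg => (hcenter g hg).imp id fun h => Subtype.ext h) (Set.toFinite _)).trans
            ((Set.ncard_insert_le _ _).trans (by rw [Set.ncard_singleton]))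
        rw [← Nat.card_coe_set_eq] at this
        exact Nat.mul_le_mul_left 2 this
    · have h1 : q ^ (m + 1) % 4 = 1 := by
        have : q ^ (m + 1) % 4 ≠ 3 := fun h =>
          hmem ((CfsgLib.Quad.negIso_minus_iff hq hodd h2 hab m).2 h)
        omega
      have hbot : σ.ker = ⊥ := (Subgroup.eq_bot_iff_forall _).2 fun g hg =>
        (hcenter g hg).resolve_right fun h => hmem (h ▸ g.2)
      have hkerx : τ'.ker = zpowers ζ := le_antisymm (fun z hz => by
        rcases hkerτ z hz with h | h
        · rcases hζ z h with e | e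
          · exact e ▸ one_mem _
          · exact e ▸ mem_zpowers ζ
        · exact absurd (h ▸ hr.le ⟨z, rfl⟩) hmem)
        (zpowers_le.2 (show σ (τD ζ) = 1 by
          rw [show τD ζ = 1 from Subtype.ext hζ1, map_one]))
      have hζζ : ζ * ζ = 1 := by
        rcases hζ (ζ * ζ) (by rw [map_mul, hζ1, one_mul]) with e | e
        · exact e
        · exact absurd (mul_eq_left.1 e) hζne
      have : Fact (Nat.Prime 2) := ⟨Nat.prime_two⟩
      have hord : orderOf ζ = 2 := orderOf_eq_prime (by rw [pow_two, hζζ]) hζne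
      refine ⟨hkerx ▸ inferInstance, ?_, ?_⟩
      · rw [hkerx, Nat.card_zpowers, hord, Nat.gcd_rec]
        have : (q ^ (m + 1) + 1) % 4 = 2 := by omega
        rw [this]; rfl
      · rw [hkerx, Nat.card_zpowers, hord, hbot, card_bot]
  obtain ⟨hcyc, hcard, hle⟩ := key
  refine hasSchurMultiplier_of_bound τ' hτ's hτ'c hperf
    (fun E _ _ π hπ hπc hE => (hbound _ le_rfl E π hπ hπc hE).trans hle)
    (mulEquivOfCyclicCardEq (by rw [hcard, Nat.card_congr Multiplicative.toAdd, Nat.card_zmod]))

/-- The multiplier in characteristic two. -/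
theorem hasSchurMultiplier_minus_two [CharP F 2] (hm : 3 ≤ m) {q : ℕ} (heven : Even q)
    (hab : ∀ z₁ z₂ : F, z₁ ^ 2 + a * z₁ * z₂ + b * z₂ ^ 2 = 0 → z₁ = 0 ∧ z₂ = 0)
    (hb : ∀ (E : Type u) [Group E] [Finite E] (π : E →* oGroup (minusQ m a b)), π.ker ≤ center E →
      π.range = commutator (oGroup (minusQ m a b)) → commutator E = ⊤ → Function.Injective π) :
    Cfsg.HasCyclicSchurMultiplier (Cfsg.POmega F (Cfsg.quadFormMinus m F a b))
      (Nat.gcd 4 (q ^ (m + 1) + 1)) := by
  have hg : Nat.gcd 4 (q ^ (m + 1) + 1) = 1 := by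
    have h1 : (q ^ (m + 1) + 1) % 2 = 1 := by
      have := Nat.even_iff.mp (heven.pow_of_ne_zero (a := q) (n := m + 1) (by omega))
      omega
    rw [show (4 : ℕ) = 2 ^ 2 from rfl]
    exact (Nat.coprime_two_left.2 (Nat.odd_iff.2 h1)).pow_left 2
  rw [hg, ← CfsgLib.Quad.minusQ_coe]
  set Q := minusQ m a b with hQdef
  have hQ : (polarBilin Q).Nondegenerate := CfsgLib.Quad.minusQ_nondeg hab m
  have hfin : 5 ≤ Module.finrank F ((Fin m ⊕ Fin m) ⊕ Fin 2 → F) := by rw [minusQ_finrank]; omega
  have hD := CfsgLib.Quad.commutator_commutator_eq_top hQ hfin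
  have hcen : center ↥(commutator (oGroup Q)) = ⊥ := by
    refine (Subgroup.eq_bot_iff_forall _).2 fun g hg => ?_
    rcases CfsgLib.Quad.center_omega_subset hQ hfin g hg with h | h
    · exact h
    · refine Subtype.ext (h.trans (Subtype.ext (LinearEquiv.ext fun v => ?_)))
      rw [CfsgLib.Quad.negIso_apply]
      funext k
      exact CharTwo.neg_eq (v k)
  let i : Cfsg.POmega F ⇑Q ≃* ↥(commutator (oGroup Q)) :=
    (CfsgLib.Quad.pOmegaEquiv Q).trans
      ((QuotientGroup.quotientMulEquivOfEq hcen).trans QuotientGroup.quotientBot)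
  have : Finite (Cfsg.POmega F ⇑Q) := Finite.of_equiv _ i.symm.toEquiv
  refine CfsgLib.StemExt.hasTrivialSchurMultiplier fun Γ _ _ σ hσ => ?_
  obtain ⟨hs, hc, hk⟩ := hσ
  have hΓ : commutator Γ = ⊤ := eq_top_iff.2 fun x _ => by
    obtain ⟨y, hy, e⟩ : i (σ x) ∈ (commutator Γ).map (i.toMonoidHom.comp σ) := by
      rw [Schur.map_commutator_of_surjective _ (i.surjective.comp hs), hD]; trivial
    have h1 : y⁻¹ * x ∈ σ.ker := by
      rw [MonoidHom.mem_ker, map_mul, map_inv, i.injective e, inv_mul_cancel]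
    simpa using mul_mem hy (hk h1)
  let π : Γ →* oGroup Q := (commutator (oGroup Q)).subtype.comp (i.toMonoidHom.comp σ)
  have hkπ : π.ker = σ.ker := by
    ext z
    simp only [π, MonoidHom.mem_ker, MonoidHom.comp_apply, MulEquiv.coe_toMonoidHom,
      Subgroup.coe_subtype, OneMemClass.coe_eq_one, MulEquiv.map_eq_one_iff]
  rw [← hkπ, MonoidHom.ker_eq_bot_iff]
  exact hb Γ π (hkπ.le.trans hc) (by
    rw [MonoidHom.range_comp, MonoidHom.range_eq_top.2 (i.surjective.comp hs),
      ← MonoidHom.range_eq_map, range_subtype]) hΓ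

end CfsgLib.DMult
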