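/-
The space of minus type of index one less, skipping one hyperbolic pair.
-/
import Cfsg.Agent.DMult.MinusBound

set_option autoImplicit false
set_option linter.unusedSectionVars false

namespace CfsgLib.DMult

open Subgroup QuadraticMap
open CfsgLib.Forms CfsgLib.Aniso
open CfsgLib.Quad (minusQ oGroup perpS)

universe u

variable {F : Type u} [Field F] {m : ℕ}

/-- The embedding skipping one pair. -/
def skipMap (i : Fin (m + 1)) :
    ((Fin m ⊕ Fin m) ⊕ Fin 2 → F) →ₗ[F] ((Fin (m + 1) ⊕ Fin (m + 1)) ⊕ Fin 2 → F) where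
  toFun z := Sum.elim
    (Sum.elim (Fin.insertNth i 0 fun k => z (Sum.inl (Sum.inl k)))
      (Fin.insertNth i 0 fun k => z (Sum.inl (Sum.inr k))))
    (fun k => z (Sum.inr k))
  map_add' x y := funext fun k => by
    rcases k with (k | k) | k
    · rcases Fin.eq_self_or_eq_succAbove i k with rfl | ⟨l, rfl⟩ <;> simp
    · rcases Fin.eq_self_or_eq_succAbove i k with rfl | ⟨l, rfl⟩ <;> simp
    · simp
  map_smul' c x := funext fun k => by
    rcases k with (k | k) | k
    · rcases Fin.eq_self_or_eq_succAbove i k with rfl | ⟨l, rfl⟩ <;> simp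
    · rcases Fin.eq_self_or_eq_succAbove i k with rfl | ⟨l, rfl⟩ <;> simp
    · simp

/-- The first vector of the skipped pair. -/
def pairX (F : Type u) [Field F] (i : Fin (m + 1)) : (Fin (m + 1) ⊕ Fin (m + 1)) ⊕ Fin 2 → F :=
  Pi.single (Sum.inl (Sum.inl i)) 1

/-- The second vector of the skipped pair. -/
def pairY (F : Type u) [Field F] (i : Fin (m + 1)) : (Fin (m + 1) ⊕ Fin (m + 1)) ⊕ Fin 2 → F :=
  Pi.single (Sum.inl (Sum.inr i)) 1

theorem skip_Q (i : Fin (m + 1)) (a b : F) (z : (Fin m ⊕ Fin m) ⊕ Fin 2 → F) :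
    minusQ (m + 1) a b (skipMap i z) = minusQ m a b z := by
  rw [CfsgLib.Quad.minusQ_coe, CfsgLib.Quad.minusQ_coe]
  simp [Cfsg.quadFormMinus, skipMap, Fin.sum_univ_succAbove _ i]

theorem skip_polar (i : Fin (m + 1)) (a b : F) (z w : (Fin m ⊕ Fin m) ⊕ Fin 2 → F) :
    polar (minusQ (m + 1) a b) (skipMap i z) (skipMap i w) = polar (minusQ m a b) z w := by
  simp only [polar, ← map_add, skip_Q]

theorem skip_injective (i : Fin (m + 1)) : Function.Injective (skipMap (F := F) i) := fun x y e => by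
  funext k
  rcases k with (k | k) | k
  · simpa [skipMap] using congrFun e (Sum.inl (Sum.inl (i.succAbove k)))
  · simpa [skipMap] using congrFun e (Sum.inl (Sum.inr (i.succAbove k)))
  · simpa [skipMap] using congrFun e (Sum.inr k)

theorem polar_pair (i : Fin (m + 1)) (a b : F) :
    (∀ x, polar (minusQ (m + 1) a b) (pairX F i) x = x (Sum.inl (Sum.inr i))) ∧
    (∀ x, polar (minusQ (m + 1) a b) (pairY F i) x = x (Sum.inl (Sum.inl i))) ∧
    minusQ (m + 1) a b (pairX F i) = 0 ∧ minusQ (m + 1) a b (pairY F i) = 0 := by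
  refine ⟨fun x => ?_, fun x => ?_, ?_, ?_⟩
  · simp only [polar, CfsgLib.Quad.minusQ_coe]
    simp [Cfsg.quadFormMinus, pairX, Pi.single_apply, add_mul, Finset.sum_add_distrib]
  · simp only [polar, CfsgLib.Quad.minusQ_coe]
    simp [Cfsg.quadFormMinus, pairY, Pi.single_apply, mul_add, Finset.sum_add_distrib]
  · rw [CfsgLib.Quad.minusQ_coe]; simp [Cfsg.quadFormMinus, pairX, Pi.single_apply]
  · rw [CfsgLib.Quad.minusQ_coe]; simp [Cfsg.quadFormMinus, pairY, Pi.single_apply]

theorem skip_pair (i : Fin (m + 1)) (a b : F) (z : (Fin m ⊕ Fin m) ⊕ Fin 2 → F) :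
    polar (minusQ (m + 1) a b) (pairX F i) (skipMap i z) = 0 ∧
      polar (minusQ (m + 1) a b) (pairY F i) (skipMap i z) = 0 := by
  rw [(polar_pair i a b).1, (polar_pair i a b).2.1]
  simp [skipMap]

variable [Finite F]

/-- The group of the smaller space, fixing the pair. -/
theorem exists_sub_embed (hm : 2 ≤ m) {a b : F}
    (hab : ∀ z₁ z₂ : F, z₁ ^ 2 + a * z₁ * z₂ + b * z₂ ^ 2 = 0 → z₁ = 0 ∧ z₂ = 0) (i : Fin (m + 1)) :
    ∃ j : oGroup (minusQ m a b) →* oGroup (minusQ (m + 1) a b), Function.Injective j ∧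
      (∀ g z, (j g).1 (skipMap i z) = skipMap i (g.1 z)) ∧
      ∀ g ∈ commutator (oGroup (minusQ m a b)),
        j g ∈ commutator (oGroup (minusQ (m + 1) a b)) ∧
          (j g).1 (pairX F i) = pairX F i ∧ (j g).1 (pairY F i) = pairY F i := by
  have hQ := CfsgLib.Quad.minusQ_nondeg hab (m + 1)
  have hQm := CfsgLib.Quad.minusQ_nondeg hab m
  set U := LinearMap.range (skipMap (F := F) i) with hU
  have hnd : NonDeg (minusQ (m + 1) a b) U := Submodule.disjoint_def.2 fun x hx hx' => by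
    obtain ⟨z, rfl⟩ := hx
    rw [show z = 0 from hQm.1 z fun w => by
      have := hx' (skipMap i w) ⟨w, rfl⟩
      rw [skip_polar] at this
      rwa [polarBilin_apply_apply, polar_comm], map_zero]
  let φ : ((Fin m ⊕ Fin m) ⊕ Fin 2 → F) ≃ₗ[F] U :=
    LinearEquiv.ofInjective (skipMap i) (skip_injective i)
  have hU5 : 5 ≤ Module.finrank F U := by rw [← φ.finrank_eq, minusQ_finrank]; omega
  obtain ⟨j, hj, hjmap, hjφ⟩ :=
    exists_embed (Q' := minusQ m a b) hQ hnd hU5 φ fun z => skip_Q i a b z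
  refine ⟨j, hj, fun g z => hjφ g z, fun g hg => ?_⟩
  have hmem : j g ∈ SG (minusQ (m + 1) a b) U := hjmap.le (mem_map_of_mem j hg)
  refine ⟨?_, SG_fix hmem fun w hw => ?_, SG_fix hmem fun w hw => ?_⟩
  · have h := SG_le_range hQ (by rw [minusQ_finrank]; omega)
      (π := (commutator (oGroup (minusQ (m + 1) a b))).subtype) (range_subtype _) U hmem
    rwa [range_subtype] at h
  · obtain ⟨z, rfl⟩ := hw
    rw [polar_comm]; exact (skip_pair i a b z).1
  · obtain ⟨z, rfl⟩ := hw
    rw [polar_comm]; exact (skip_pair i a b z).2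

end CfsgLib.DMult
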