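/-
Over three elements the root groups of the singular points of the eight-dimensional space of minus
type lift to abelian groups with equivariant sections.
-/
import Cfsg.Agent.DMult.MinusSub
import Cfsg.Agent.Quad.NegOneMinus

set_option autoImplicit false
set_option linter.unusedSectionVars false
set_option linter.unusedSimpArgs false

namespace CfsgLib.DMult.MinusThree

open Subgroup QuadraticMap
open CfsgLib.Forms CfsgLib.Aniso
open CfsgLib.Quad (minusQ oGroup siegel negIso exists_polar_ne)
open scoped commutatorElement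

universe u

variable {F : Type u} [Field F] [Finite F] {a b : F} {E : Type u} [Group E]

/-- The six-dimensional space. -/
abbrev W (F : Type u) : Type u := (Fin 2 ⊕ Fin 2) ⊕ Fin 2 → F

/-- The eight-dimensional space. -/
abbrev U (F : Type u) : Type u := (Fin 3 ⊕ Fin 3) ⊕ Fin 2 → F

/-- An element of the root group of a point. -/
noncomputable def root (a b : F) (i : Fin 3) (z : W F) : oGroup (minusQ 3 a b) :=
  siegel (minusQ 3 a b) (pairX F i) (skipMap (m := 2) i z)

open Classical in
/-- A lift. -/
noncomputable def lft (π : E →* oGroup (minusQ 3 a b)) (g : oGroup (minusQ 3 a b)) : E :=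
  if h : g ∈ π.range then h.choose else 1

theorem π_lft {π : E →* oGroup (minusQ 3 a b)} {g : oGroup (minusQ 3 a b)} (h : g ∈ π.range) :
    π (lft π g) = g := by
  rw [lft, dif_pos h]; exact h.choose_spec

theorem root_facts (i : Fin 3) (z : W F) :
    minusQ 3 a b (pairX F i) = 0 ∧ polar (minusQ 3 a b) (pairX F i) (skipMap (m := 2) i z) = 0 :=
  ⟨(polar_pair i a b).2.2.1, (skip_pair i a b z).1⟩

theorem root_add (i : Fin 3) (z z' : W F) : root a b i z * root a b i z' = root a b i (z + z') := by
  rw [root, root, CfsgLib.Quad.siegel_mul (root_facts i z).1 (root_facts i z).2 (root_facts i z').2,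
    ← map_add]
  rfl

theorem root_zero (i : Fin 3) : root a b i (0 : W F) = 1 := by
  rw [root, map_zero, CfsgLib.Quad.siegel_zero (root_facts i (0 : W F)).1]

theorem root_inv (i : Fin 3) (z : W F) : (root a b i z)⁻¹ = root a b i (-z) := by
  rw [inv_eq_iff_mul_eq_one, root_add, add_neg_cancel, root_zero]

theorem root_conj (g : oGroup (minusQ 3 a b)) (i : Fin 3) (z z' : W F)
    (hX : g.1 (pairX F i) = pairX F i) (hz : g.1 (skipMap (m := 2) i z) = skipMap (m := 2) i z') :
    g * root a b i z * g⁻¹ = root a b i z' := by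
  rw [root, CfsgLib.Quad.siegel_conj g (root_facts i z).1 (root_facts i z).2, hX, hz]
  rfl

set_option maxHeartbeats 1000000 in
/-- An alternating form killing the orthogonal space of every singular vector vanishes. -/
theorem vanish {F : Type u} [Field F] {a b : F} {E : Type u} [Group E] (h2 : (2 : F) ≠ 0)
    (h30 : (3 : F) = 0) (hk : ∀ k : F, k = 0 ∨ k = 1 ∨ k = -1) (B : W F → W F → E)
    (hBc : ∀ z z', B z z' ∈ center E) (hadd : ∀ z z' t, B (z + t) z' = B z z' * B t z')
    (hswap : ∀ z z', B z' z = (B z z')⁻¹) (hself : ∀ z, B z z = 1)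
    (hK : ∀ x c, minusQ 2 a b x = 0 → polar (minusQ 2 a b) x c = 0 → B x c = 1)
    (z z' : W F) : B z z' = 1 := by
  classical
  set Q := minusQ 2 a b with hQdef
  have hadd' : ∀ z z' t, B z (z' + t) = B z z' * B z t := fun z z' t => by
    rw [hswap (z' + t) z, hadd, mul_inv_rev, ← hswap, ← hswap, mem_center_iff.1 (hBc z z') (B z t)]
  have hzero : ∀ t, B 0 t = 1 := fun t => by
    have := hadd 0 t 0
    rw [add_zero] at this
    exact mul_eq_left.1 this.symm
  have hneg : ∀ z t, B z t = 1 → B (-z) t = 1 := fun z t h => by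
    have := hadd z t (-z)
    rw [add_neg_cancel, hzero, h, one_mul] at this
    exact this.symm
  have hsmul : ∀ (k : F) z t, B z t = 1 → B (k • z) t = 1 := fun k z t h => by
    rcases hk k with rfl | rfl | rfl
    · rw [zero_smul, hzero]
    · rwa [one_smul]
    · rw [neg_one_smul]; exact hneg z t h
  -- the basis
  let X : Fin 2 → W F := fun j => Pi.single (Sum.inl (Sum.inl j)) 1
  let Y : Fin 2 → W F := fun j => Pi.single (Sum.inl (Sum.inr j)) 1
  let u : W F := Pi.single (Sum.inr 0) 1
  let o : W F := Sum.elim 0 ![-a, 2]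
  have eval : ∀ x y : W F, polar Q x y = x (.inl (.inl 0)) * y (.inl (.inr 0))
      + x (.inl (.inr 0)) * y (.inl (.inl 0)) + x (.inl (.inl 1)) * y (.inl (.inr 1))
      + x (.inl (.inr 1)) * y (.inl (.inl 1)) + 2 * x (.inr 0) * y (.inr 0)
      + a * (x (.inr 0) * y (.inr 1) + x (.inr 1) * y (.inr 0))
      + 2 * b * x (.inr 1) * y (.inr 1) := fun x y => by
    simp only [polar, hQdef, CfsgLib.Quad.minusQ_coe]
    simp [Cfsg.quadFormMinus, Fin.sum_univ_two]
    ring
  have evQ : ∀ x : W F, Q x = x (.inl (.inl 0)) * x (.inl (.inr 0))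
      + x (.inl (.inl 1)) * x (.inl (.inr 1))
      + (x (.inr 0) ^ 2 + a * x (.inr 0) * x (.inr 1) + b * x (.inr 1) ^ 2) := fun x => by
    simp only [hQdef, CfsgLib.Quad.minusQ_coe]
    simp [Cfsg.quadFormMinus, Fin.sum_univ_two]
  have pair0 : B (X 0) (Y 0) = 1 ∧ B (X 1) (Y 1) = 1 := by
    have e1 := hK (X 0 + X 1) (Y 0 + -Y 1) (by rw [evQ]; simp [X]) (by rw [eval]; simp [X, Y])
    have e2 := hK (X 0 + Y 1) (Y 0 + -X 1) (by rw [evQ]; simp [X, Y]) (by rw [eval]; simp [X, Y])
    have z1 : B (X 0) (-Y 1) = 1 := hK _ _ (by rw [evQ]; simp [X]) (by rw [eval]; simp [X, Y])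
    have z2 : B (X 1) (Y 0) = 1 := hK _ _ (by rw [evQ]; simp [X]) (by rw [eval]; simp [X, Y])
    have z3 : B (X 0) (-X 1) = 1 := hK _ _ (by rw [evQ]; simp [X]) (by rw [eval]; simp [X])
    have z4 : B (Y 1) (Y 0) = 1 := hK _ _ (by rw [evQ]; simp [Y]) (by rw [eval]; simp [Y])
    rw [hadd, hadd', hadd', z1, z2, mul_one, one_mul] at e1
    rw [hadd, hadd', hadd', z3, z4, mul_one, one_mul] at e2
    have hneg' : ∀ z t, B z (-t) = (B z t)⁻¹ := fun z t => by
      refine (inv_eq_of_mul_eq_one_right ?_).symm
      rw [← hadd', add_neg_cancel, hswap, hzero, inv_one]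
    rw [hneg'] at e1 e2
    rw [hswap (X 1) (Y 1), inv_inv] at e2
    have hsq : B (X 0) (Y 0) * B (X 0) (Y 0) = 1 := by
      calc B (X 0) (Y 0) * B (X 0) (Y 0)
          = B (X 0) (Y 0) * (B (X 1) (Y 1))⁻¹ * (B (X 0) (Y 0) * B (X 1) (Y 1)) := by
            rw [mul_assoc, ← mul_assoc (B (X 1) (Y 1))⁻¹,
              mem_center_iff.1 (hBc (X 0) (Y 0)) (B (X 1) (Y 1))⁻¹, mul_assoc (B (X 0) (Y 0)),
              inv_mul_cancel, mul_one]
        _ = 1 := by rw [e1, e2, one_mul]
    have hcube : B (X 0) (Y 0) * B (X 0) (Y 0) * B (X 0) (Y 0) = 1 := by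
      rw [← hadd, ← hadd]
      have : X 0 + X 0 + X 0 = 0 := by
        rw [← one_smul F (X 0), ← add_smul, ← add_smul,
          show (1 : F) + 1 + 1 = 0 by linear_combination h30, zero_smul]
      rw [this, hzero]
    rw [hsq, one_mul] at hcube
    rw [hcube, one_mul] at e2
    exact ⟨hcube, e2⟩
  have hflip : ∀ z t, B z t = 1 → B t z = 1 := fun z t h => by rw [hswap, h, inv_one]
  have huo : B u o = 1 := by
    have e : B (u + (X 0 + (-1 : F) • Y 0)) o = 1 :=
      hK _ _ (by rw [evQ]; simp [u, X, Y]) (by rw [eval]; simp [u, X, Y, o]; ring)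
    rw [hadd, hadd, hK (X 0) o (by rw [evQ]; simp [X]) (by rw [eval]; simp [X, o]),
      hsmul (-1) (Y 0) o (hK _ _ (by rw [evQ]; simp [Y]) (by rw [eval]; simp [Y, o])), one_mul,
      mul_one] at e
    exact e
  have hdec : ∀ z : W F, z = z (.inl (.inl 0)) • X 0 + z (.inl (.inl 1)) • X 1 +
      z (.inl (.inr 0)) • Y 0 + z (.inl (.inr 1)) • Y 1 +
      (z (.inr 0) + a * z (.inr 1) * 2⁻¹) • u + (z (.inr 1) * 2⁻¹) • o := fun z => by
    funext k
    rcases k with (k | k) | k <;> fin_cases k <;> simp [X, Y, u, o]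
    · ring
    · field_simp
  -- everything vanishes on the basis
  have hB : ∀ t ∈ ([X 0, X 1, Y 0, Y 1, u, o] : List (W F)), ∀ z, B z t = 1 := by
    intro t ht z
    have lin : (∀ s ∈ ([X 0, X 1, Y 0, Y 1, u, o] : List (W F)), B s t = 1) → B z t = 1 := fun h => by
      rw [hdec z, hadd, hadd, hadd, hadd, hadd, hsmul _ _ _ (h _ (by simp)),
        hsmul _ _ _ (h _ (by simp)), hsmul _ _ _ (h _ (by simp)), hsmul _ _ _ (h _ (by simp)),
        hsmul _ _ _ (h _ (by simp)), hsmul _ _ _ (h _ (by simp))]
      simp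
    refine lin ?_
    simp only [List.mem_cons, List.not_mem_nil, or_false] at ht
    intro s hs
    simp only [List.mem_cons, List.not_mem_nil, or_false] at hs
    rcases hs with rfl | rfl | rfl | rfl | rfl | rfl <;>
      rcases ht with rfl | rfl | rfl | rfl | rfl | rfl <;>
      first
        | exact hself _
        | exact pair0.1
        | exact pair0.2
        | exact hflip _ _ pair0.1
        | exact hflip _ _ pair0.2
        | exact huo
        | exact hflip _ _ huo
        | exact hK _ _ (by rw [evQ]; simp [X, Y]) (by rw [eval]; simp [X, Y, u, o])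
        | exact hflip _ _ (hK _ _ (by rw [evQ]; simp [X, Y]) (by rw [eval]; simp [X, Y, u, o]))
  rw [hdec z', hadd', hadd', hadd', hadd', hadd']
  have hr : ∀ (k : F) t, t ∈ ([X 0, X 1, Y 0, Y 1, u, o] : List (W F)) → B z (k • t) = 1 :=
    fun k t ht => by rw [hswap, hsmul k t z (hflip _ _ (hB t ht z)), inv_one]
  rw [hr _ _ (by simp), hr _ _ (by simp), hr _ _ (by simp), hr _ _ (by simp), hr _ _ (by simp),
    hr _ _ (by simp)]
  simp

variable (hab : ∀ z₁ z₂ : F, z₁ ^ 2 + a * z₁ * z₂ + b * z₂ ^ 2 = 0 → z₁ = 0 ∧ z₂ = 0)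
include hab

theorem siegel_mem_commutator {e c : U F} (he : minusQ 3 a b e = 0)
    (hec : polar (minusQ 3 a b) e c = 0) :
    siegel (minusQ 3 a b) e c ∈ commutator (oGroup (minusQ 3 a b)) :=
  CfsgLib.Quad.siegelGroup_le_commutator (CfsgLib.Quad.minusQ_nondeg hab 3)
    (by rw [minusQ_finrank]; omega) (CfsgLib.Quad.siegel_mem_group he hec)

theorem root_mem (i : Fin 3) (z : W F) : root a b i z ∈ commutator (oGroup (minusQ 3 a b)) :=
  siegel_mem_commutator hab (root_facts i z).1 (root_facts i z).2

variable {π : E →* oGroup (minusQ 3 a b)} (hker : π.ker ≤ center E)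
  (hrange : π.range = commutator (oGroup (minusQ 3 a b)))
include hker hrange

theorem π_root (i : Fin 3) (z : W F) : π (lft π (root a b i z)) = root a b i z :=
  π_lft (hrange ▸ root_mem hab i z)

/-- The commutators of lifts inside a root group. -/
theorem beta_facts (i : Fin 3) (z z' z'' : W F) :
    ⁅lft π (root a b i z), lft π (root a b i z')⁆ ∈ center E ∧
    ⁅lft π (root a b i (z + z'')), lft π (root a b i z')⁆ =
      ⁅lft π (root a b i z), lft π (root a b i z')⁆ * ⁅lft π (root a b i z''), lft π (root a b i z')⁆ := by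
  have hz : ∀ z, π (lft π (root a b i z)) = root a b i z := π_root hab hker hrange i
  have hc : ∀ z z', ⁅lft π (root a b i z), lft π (root a b i z')⁆ ∈ center E := fun z z' => hker (by
    rw [MonoidHom.mem_ker, map_commutatorElement, hz, hz, commutatorElement_eq_one_iff_mul_comm,
      root_add, root_add, add_comm])
  refine ⟨hc z z', ?_⟩
  rw [← CfsgLib.SpMult.comm_mul_left _ _ _ (hc z'' z')]
  exact comm_congr hker (by rw [map_mul, hz, hz, hz, root_add]) rfl

set_option maxHeartbeats 2000000 in
/-- Lifts inside a root group over three elements commute. -/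
theorem root_lifts_commute (h3 : Nat.card F = 3) (i : Fin 3) (z z' : W F) :
    ⁅lft π (root a b i z), lft π (root a b i z')⁆ = 1 := by
  classical
  have := Fintype.ofFinite F
  have hF : Fintype.card F = 3 := by rw [← Nat.card_eq_fintype_card, h3]
  have h30 : (3 : F) = 0 := by
    have := FiniteField.cast_card_eq_zero F
    rw [hF] at this
    exact_mod_cast this
  have h2 : (2 : F) ≠ 0 := fun h => one_ne_zero (α := F) (by linear_combination h30 - h)
  have hk : ∀ k : F, k = 0 ∨ k = 1 ∨ k = -1 := fun k => by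
    by_contra hn
    push Not at hn
    have h1 : (1 : F) ≠ -1 := fun h => h2 (by linear_combination h)
    have h4 : ({0, 1, -1, k} : Finset F).card = 4 := by
      rw [Finset.card_insert_of_notMem (by simp [Ne.symm hn.1]),
        Finset.card_insert_of_notMem (by simp [h1, Ne.symm hn.2.1]),
        Finset.card_insert_of_notMem (by simp [Ne.symm hn.2.2]), Finset.card_singleton]
    have := Finset.card_le_univ ({0, 1, -1, k} : Finset F)
    omega
  set Q := minusQ 2 a b with hQdef
  have hQ : (polarBilin Q).Nondegenerate := CfsgLib.Quad.minusQ_nondeg hab 2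
  let B : W F → W F → E := fun z z' => ⁅lft π (root a b i z), lft π (root a b i z')⁆
  have hBc : ∀ z z', B z z' ∈ center E := fun z z' => (beta_facts hab hker hrange i z z' z).1
  have hadd : ∀ z z' t, B (z + t) z' = B z z' * B t z' := fun z z' t =>
    (beta_facts hab hker hrange i z z' t).2
  have hswap : ∀ z z', B z' z = (B z z')⁻¹ := fun z z' => (commutatorElement_inv _ _).symm
  have hadd' : ∀ z z' t, B z (z' + t) = B z z' * B z t := fun z z' t => by
    rw [hswap (z' + t) z, hadd, mul_inv_rev, ← hswap, ← hswap, mem_center_iff.1 (hBc z z') (B z t)]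
  have hzero : ∀ t, B 0 t = 1 := fun t => by
    have := hadd 0 t 0
    rw [add_zero] at this
    exact mul_eq_left.1 this.symm
  have hneg : ∀ z t, B z t = 1 → B (-z) t = 1 := fun z t h => by
    have := hadd z t (-z)
    rw [add_neg_cancel, hzero, h, one_mul] at this
    exact this.symm
  have hsmul : ∀ (k : F) z t, B z t = 1 → B (k • z) t = 1 := fun k z t h => by
    rcases hk k with rfl | rfl | rfl
    · rw [zero_smul, hzero]
    · rwa [one_smul]
    · rw [neg_one_smul]; exact hneg z t h
  have hself : ∀ z, B z z = 1 := fun z => commutatorElement_self _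
  -- a singular vector kills its orthogonal space
  have hK : ∀ x c, Q x = 0 → polar Q x c = 0 → B x c = 1 := by
    intro x c hx hxc
    by_cases hx0 : x = 0
    · rw [hx0, hzero]
    obtain ⟨y, hy⟩ := exists_polar_ne hQ hx0
    set w := (polar Q x y)⁻¹ • y with hw
    have hxw : polar Q w x = 1 := by
      rw [hw, polar_smul_left, polar_comm Q y x, smul_eq_mul, inv_mul_cancel₀ hy]
    have he : minusQ 3 a b (skipMap (m := 2) i x) = 0 := by rw [skip_Q, hx]
    have hec : polar (minusQ 3 a b) (skipMap (m := 2) i x) (skipMap (m := 2) i c) = 0 := by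
      rw [skip_polar, hxc]
    set g := siegel (minusQ 3 a b) (skipMap (m := 2) i x) (skipMap (m := 2) i c) with hg
    have hgr : g ∈ π.range := hrange ▸ siegel_mem_commutator hab he hec
    obtain ⟨e, hge⟩ := hgr
    have hfix : g.1 (pairX F i) = pairX F i := by
      rw [hg, CfsgLib.Quad.siegel_apply he hec, (skip_pair i a b x).1, (skip_pair i a b c).1]
      simp
    set k := -(polar Q w c + Q c) with hk'
    have hw' : g.1 (skipMap (m := 2) i w) = skipMap (m := 2) i (w + (c + k • x)) := by
      rw [hg, CfsgLib.Quad.siegel_apply he hec, skip_polar, skip_polar, skip_Q, hxw, one_smul,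
        mul_one]
      simp only [hk', map_add, map_smul, hQdef]
      module
    have hx' : g.1 (skipMap (m := 2) i x) = skipMap (m := 2) i x := by
      rw [hg, CfsgLib.Quad.siegel_apply he hec, skip_polar, skip_polar, polar_self, hx, smul_zero,
        hxc]
      simp
    have hconj : B x (w + (c + k • x)) = B x w := by
      have h1 : e * B x w * e⁻¹ = B x w := by
        rw [mem_center_iff.1 (hBc x w) e, mul_inv_cancel_right]
      rw [← h1]
      show _ = e * ⁅lft π (root a b i x), lft π (root a b i w)⁆ * e⁻¹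
      rw [conjugate_commutatorElement]
      exact comm_congr hker
        (by rw [map_mul, map_mul, map_inv, π_root hab hker hrange, hge,
          root_conj g i x x hfix hx'])
        (by rw [map_mul, map_mul, map_inv, hge, π_root hab hker hrange i w,
          π_root hab hker hrange, root_conj g i w (w + (c + k • x)) hfix hw'])
    rw [hadd', hadd', mul_eq_left] at hconj
    have hkx : B x (k • x) = 1 := by rw [hswap, hsmul k x x (hself x), inv_one]
    rwa [hkx, mul_one] at hconj
  exact vanish h2 h30 hk B hBc hadd hswap hself hK z z'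

end CfsgLib.DMult.MinusThree
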