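/-
In every central extension of `Ω₈⁻(3)` the three-part of the point stabiliser splits.
-/
import Cfsg.Agent.DMult.MinusThreeLift
import Mathlib.GroupTheory.Transfer
import Cfsg.Agent.Quad.Orders
import Cfsg.Agent.Quad.POmega

set_option autoImplicit false
set_option linter.unusedSectionVars false
set_option linter.unusedSimpArgs false

namespace CfsgLib.DMult.MinusThree

open Subgroup QuadraticMap
open CfsgLib.Forms CfsgLib.Aniso
open CfsgLib.Quad (minusQ oddQ oGroup siegel negIso)
open scoped commutatorElement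

universe u

variable {F : Type u} [Field F] [Finite F] {a b : F} {E : Type u} [Group E]

/-- The coordinates off a pair. -/
def proj (i : Fin 3) : U F →ₗ[F] W F where
  toFun x := Sum.elim (Sum.elim (fun k => x (Sum.inl (Sum.inl (i.succAbove k))))
    fun k => x (Sum.inl (Sum.inr (i.succAbove k)))) fun k => x (Sum.inr k)
  map_add' x y := funext fun k => by rcases k with (k | k) | k <;> rfl
  map_smul' c x := funext fun k => by rcases k with (k | k) | k <;> rfl

theorem proj_skip (i : Fin 3) (z : W F) : proj i (skipMap (m := 2) i z) = z :=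
  funext fun k => by rcases k with (k | k) | k <;> simp [proj, skipMap]

theorem proj_pair (i : Fin 3) : proj i (pairX F i) = 0 ∧ proj i (pairY F i) = 0 := by
  constructor <;> funext k <;> rcases k with (k | k) | k <;>
    simp [proj, pairX, pairY, Pi.single_apply, Fin.succAbove_ne]

theorem decomp (i : Fin 3) (x : U F) :
    x = skipMap (m := 2) i (proj i x) + (x (.inl (.inl i)) • pairX F i + x (.inl (.inr i)) • pairY F i) := by
  funext k
  rcases k with (k | k) | k
  · rcases Fin.eq_self_or_eq_succAbove i k with rfl | ⟨l, rfl⟩ <;>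
      simp [skipMap, proj, pairX, pairY, Pi.single_apply, Fin.succAbove_ne]
  · rcases Fin.eq_self_or_eq_succAbove i k with rfl | ⟨l, rfl⟩ <;>
      simp [skipMap, proj, pairX, pairY, Pi.single_apply, Fin.succAbove_ne]
  · simp [skipMap, proj, pairX, pairY]

/-- A transformation fixing a pair permutes the vectors off it. -/
theorem skip_image {g : oGroup (minusQ 3 a b)} {i : Fin 3} (hX : g.1 (pairX F i) = pairX F i)
    (hY : g.1 (pairY F i) = pairY F i) (z : W F) :
    g.1 (skipMap (m := 2) i z) = skipMap (m := 2) i (proj i (g.1 (skipMap (m := 2) i z))) := by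
  have h1 : g.1 (skipMap (m := 2) i z) (.inl (.inl i)) = 0 := by
    refine ((polar_pair (m := 2) i a b).2.1 _).symm.trans ?_
    conv_lhs => arg 2; rw [← hY]
    exact (CfsgLib.Quad.polar_oGroup g _ _).trans (skip_pair i a b z).2
  have h2 : g.1 (skipMap (m := 2) i z) (.inl (.inr i)) = 0 := by
    refine ((polar_pair (m := 2) i a b).1 _).symm.trans ?_
    conv_lhs => arg 2; rw [← hX]
    exact (CfsgLib.Quad.polar_oGroup g _ _).trans (skip_pair i a b z).1
  conv_lhs => rw [decomp i (g.1 (skipMap (m := 2) i z)), h1, h2, zero_smul, zero_smul, add_zero,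
    add_zero]

theorem root_fix (i : Fin 3) (z : W F) {v : U F} (h1 : polar (minusQ 3 a b) v (pairX F i) = 0)
    (h2 : polar (minusQ 3 a b) v (skipMap (m := 2) i z) = 0) : (root a b i z).1 v = v := by
  rw [root, CfsgLib.Quad.siegel_apply (root_facts i z).1 (root_facts i z).2, h1, h2]
  simp

theorem root_pairY (i : Fin 3) (z : W F) : proj i ((root a b i z).1 (pairY F i)) = z := by
  rw [root, CfsgLib.Quad.siegel_apply (root_facts i z).1 (root_facts i z).2, map_sub, map_add,
    map_smul, map_smul, (proj_pair i).1, (proj_pair i).2, proj_skip, (polar_pair i a b).2.1]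
  simp [pairX]

/-- The parameters of the root group of the first point in the stabiliser. -/
def emb1 (w : (Fin 2 ⊕ Fin 2) ⊕ Fin 1 → F) : W F := Sum.elim (w ∘ Sum.inl) ![w (Sum.inr 0), 0]

/-- The parameters of the second one. -/
def emb2 (w : Fin 3 → F) : W F := Sum.elim (Sum.elim ![0, w 0] ![0, w 1]) ![w 2, 0]

/-- The parameters of the third one. -/
def emb3 (t : F) : W F := Sum.elim 0 ![t, 0]

theorem emb_add : (∀ w w' : (Fin 2 ⊕ Fin 2) ⊕ Fin 1 → F, emb1 (w + w') = emb1 w + emb1 w') ∧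
    (∀ w w' : Fin 3 → F, emb2 (w + w') = emb2 w + emb2 w') ∧
    ∀ t t' : F, emb3 (t + t') = emb3 t + emb3 t' := by
  refine ⟨fun w w' => ?_, fun w w' => ?_, fun t t' => ?_⟩ <;> funext k <;>
    rcases k with (k | k) | k <;> fin_cases k <;> simp [emb1, emb2, emb3]

theorem emb_injective : Function.Injective (emb1 (F := F)) ∧ Function.Injective (emb2 (F := F)) ∧
    Function.Injective (emb3 (F := F)) := by
  refine ⟨fun x y e => ?_, fun x y e => ?_, fun x y e => ?_⟩
  · funext k
    rcases k with k | k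
    · exact congrFun e (Sum.inl k)
    · fin_cases k; simpa [emb1] using congrFun e (Sum.inr 0)
  · funext k
    fin_cases k
    · simpa [emb2] using congrFun e (Sum.inl (Sum.inl 1))
    · simpa [emb2] using congrFun e (Sum.inl (Sum.inr 1))
    · simpa [emb2] using congrFun e (Sum.inr 0)
  · simpa [emb3] using congrFun e (Sum.inr 0)

theorem emb1_range (p : W F) (h : p (Sum.inr 1) = 0) : ∃ w, emb1 w = p :=
  ⟨Sum.elim (p ∘ Sum.inl) ![p (Sum.inr 0)], funext fun k => by
    rcases k with k | k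
    · rfl
    · fin_cases k <;> simp [emb1, h]⟩

theorem emb2_range (p : W F) (h : p (Sum.inr 1) = 0) (h0 : p (Sum.inl (Sum.inl 0)) = 0)
    (h1 : p (Sum.inl (Sum.inr 0)) = 0) : ∃ w, emb2 w = p :=
  ⟨![p (Sum.inl (Sum.inl 1)), p (Sum.inl (Sum.inr 1)), p (Sum.inr 0)], funext fun k => by
    rcases k with (k | k) | k <;> fin_cases k <;> simp [emb2, h, h0, h1]⟩

theorem skip_one_zero (z : W F) :
    skipMap (m := 2) 1 z (.inl (.inl 0)) = z (.inl (.inl 0)) ∧
      skipMap (m := 2) 1 z (.inl (.inr 0)) = z (.inl (.inr 0)) := by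
  have h : (1 : Fin 3).succAbove 0 = 0 := by decide
  exact ⟨(congrArg (fun k => skipMap (m := 2) 1 z (.inl (.inl k))) h).symm.trans
      (by simp only [skipMap, LinearMap.coe_mk, AddHom.coe_mk, Sum.elim_inl, Sum.elim_inr]
          exact Fin.insertNth_apply_succAbove (α := fun _ => F) _ _ _ _),
    (congrArg (fun k => skipMap (m := 2) 1 z (.inl (.inr k))) h).symm.trans
      (by simp only [skipMap, LinearMap.coe_mk, AddHom.coe_mk, Sum.elim_inl, Sum.elim_inr]
          exact Fin.insertNth_apply_succAbove (α := fun _ => F) _ _ _ _)⟩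

/-- The roots in the stabiliser fix the earlier pairs and the vector of the stabiliser. -/
theorem root_fix_facts :
    (∀ (w : (Fin 2 ⊕ Fin 2) ⊕ Fin 1 → F), (root a b 0 (emb1 w)).1 (offVec F 3 a) = offVec F 3 a) ∧
    (∀ w : Fin 3 → F, (root a b 1 (emb2 w)).1 (offVec F 3 a) = offVec F 3 a ∧
      (root a b 1 (emb2 w)).1 (pairX F 0) = pairX F 0 ∧
      (root a b 1 (emb2 w)).1 (pairY F 0) = pairY F 0) ∧
    ∀ t : F, (root a b 2 (emb3 t)).1 (offVec F 3 a) = offVec F 3 a ∧
      ∀ k : Fin 3, k ≠ 2 → (root a b 2 (emb3 t)).1 (pairX F k) = pairX F k ∧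
        (root a b 2 (emb3 t)).1 (pairY F k) = pairY F k := by
  have s01 : (1 : Fin 3).succAbove 0 = 0 := by decide
  refine ⟨fun w => root_fix _ _ ?_ ?_, fun w => ⟨root_fix _ _ ?_ ?_, root_fix _ _ ?_ ?_,
    root_fix _ _ ?_ ?_⟩, fun t => ⟨root_fix _ _ ?_ ?_, fun k hk => ⟨root_fix _ _ ?_ ?_,
    root_fix _ _ ?_ ?_⟩⟩⟩
  · rw [polar_offVec]; simp [pairX]
  · rw [polar_offVec]; simp [skipMap, emb1]
  · rw [polar_offVec]; simp [pairX]
  · rw [polar_offVec]; simp [skipMap, emb2]
  · rw [(polar_pair (m := 2) 0 a b).1]; simp [pairX]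
  · rw [(polar_pair (m := 2) 0 a b).1]
    exact (skip_one_zero _).2.trans (by simp [emb2])
  · rw [(polar_pair (m := 2) 0 a b).2.1]; simp [pairX, Pi.single_apply]
  · rw [(polar_pair (m := 2) 0 a b).2.1]
    exact (skip_one_zero _).1.trans (by simp [emb2])
  · rw [polar_offVec]; simp [pairX]
  · rw [polar_offVec]; simp [skipMap, emb3]
  · rw [(polar_pair (m := 2) k a b).1]; simp [pairX]
  · rw [(polar_pair (m := 2) k a b).1]
    obtain ⟨l, rfl⟩ := Fin.exists_succAbove_eq hk
    simp [skipMap, emb3]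
  · rw [(polar_pair (m := 2) k a b).2.1]; simp [pairX, Pi.single_apply, hk]
  · rw [(polar_pair (m := 2) k a b).2.1]
    obtain ⟨l, rfl⟩ := Fin.exists_succAbove_eq hk
    simp [skipMap, emb3]

variable (hab : ∀ z₁ z₂ : F, z₁ ^ 2 + a * z₁ * z₂ + b * z₂ ^ 2 = 0 → z₁ = 0 ∧ z₂ = 0)
  (h3 : Nat.card F = 3)
include hab h3

theorem char_facts : (2 : F) ≠ 0 ∧ (3 : F) = 0 := by
  have := Fintype.ofFinite F
  have h30 : (3 : F) = 0 := by
    have h := FiniteField.cast_card_eq_zero F
    rw [show Fintype.card F = 3 by rw [← Nat.card_eq_fintype_card, h3]] at h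
    exact_mod_cast h
  exact ⟨fun h => one_ne_zero (α := F) (by linear_combination h30 - h), h30⟩

variable {π : E →* oGroup (minusQ 3 a b)} (hker : π.ker ≤ center E)
  (hrange : π.range = commutator (oGroup (minusQ 3 a b)))
include hker hrange

/-- The equivariant section over a root group. -/
theorem exists_section (i : Fin 3) :
    ∃ L : W F → E, (∀ z, π (L z) = root a b i z) ∧ (∀ z z', L (z + z') = L z * L z') ∧
      ∀ (x : E) z, (π x).1 (pairX F i) = pairX F i → (π x).1 (pairY F i) = pairY F i →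
        x * L z * x⁻¹ = L (proj i ((π x).1 (skipMap (m := 2) i z))) := by
  obtain ⟨h2, h30⟩ := char_facts hab h3
  obtain ⟨j, -, hjz, hjc⟩ := exists_sub_embed (m := 2) le_rfl hab i
  have hn : negIso (minusQ 2 a b) ∈ commutator (oGroup (minusQ 2 a b)) :=
    (CfsgLib.Quad.negIso_minus_iff h3 (by decide) h2 hab 2).2 (by norm_num)
  obtain ⟨hηc, hηX, hηY⟩ := hjc _ hn
  set η := j (negIso (minusQ 2 a b)) with hη
  have hηz : ∀ z, η.1 (skipMap (m := 2) i z) = skipMap (m := 2) i (-z) := fun z => by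
    rw [hη, hjz, CfsgLib.Quad.negIso_apply]
  obtain ⟨e, he⟩ : η ∈ π.range := hrange ▸ hηc
  let r : W F → E := fun z => lft π (root a b i z)
  have hr : ∀ z, π (r z) = root a b i z := π_root hab hker hrange i
  have hπL : ∀ z, π ⁅e, r z⁆ = root a b i z := fun z => by
    rw [map_commutatorElement, he, hr, commutatorElement_def, root_conj η i z (-z) hηX (hηz z),
      root_inv, root_add]
    congr 1
    calc -z + -z = -((1 + 1 : F) • z) := by rw [add_smul, one_smul]; abel
      _ = z := by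
        rw [show (1 + 1 : F) = -1 by linear_combination h30, neg_one_smul, neg_neg]
  refine ⟨fun z => ⁅e, r z⁆, hπL, fun z z' => ?_, fun x z hX hY => ?_⟩
  · have hcomm : r z * ⁅e, r z'⁆ = ⁅e, r z'⁆ * r z := commutatorElement_eq_one_iff_mul_comm.1
      ((comm_congr hker rfl (show π ⁅e, r z'⁆ = π (r z') by rw [hπL, hr])).trans
        (root_lifts_commute hab hker hrange h3 i z z'))
    have h1 : ⁅e, r (z + z')⁆ = ⁅e, r z * r z'⁆ :=
      comm_congr hker rfl (by rw [map_mul, hr, hr, hr, root_add])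
    show ⁅e, r (z + z')⁆ = _
    rw [h1]
    calc ⁅e, r z * r z'⁆ = ⁅e, r z⁆ * (r z * ⁅e, r z'⁆ * (r z)⁻¹) := by
          simp only [commutatorElement_def]; group
      _ = _ := by rw [hcomm, mul_inv_cancel_right]
  · have himg := skip_image hX hY z
    have hcη : π x * η = η * π x := Subtype.ext (LinearEquiv.ext fun v => by
      show (π x).1 (η.1 v) = η.1 ((π x).1 v)
      obtain ⟨p, hp⟩ : ∃ p, (π x).1 (skipMap (m := 2) i (proj i v)) = skipMap (m := 2) i p :=
        ⟨_, skip_image hX hY _⟩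
      conv_lhs => rw [decomp i v]
      conv_rhs => rw [decomp i v]
      simp only [map_add, map_smul, hηX, hηY, hηz, hX, hY, hp, map_neg])
    show x * ⁅e, r z⁆ * x⁻¹ = ⁅e, r _⁆
    rw [conjugate_commutatorElement]
    refine comm_congr hker ?_ ?_
    · rw [map_mul, map_mul, map_inv, he, hcη, mul_inv_cancel_right]
    · rw [map_mul, map_mul, map_inv, hr, hr, root_conj (π x) i z _ hX himg]

/-- A subgroup over the three-part which meets the kernel trivially. -/
theorem exists_three_part [Finite E] :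
    ∃ T : Subgroup E, (∀ t ∈ T, π t = 1 → t = 1) ∧ Nat.card (T.map π) = 3 ^ 9 ∧
      T.map π ≤ SG (minusQ 3 a b) (pv (minusQ 3 a b) (offVec F 3 a)) := by
  classical
  obtain ⟨L0, hπ0, hm0, he0⟩ := exists_section hab h3 hker hrange 0
  obtain ⟨L1, hπ1, hm1, he1⟩ := exists_section hab h3 hker hrange 1
  obtain ⟨L2, hπ2, hm2, -⟩ := exists_section hab h3 hker hrange 2
  obtain ⟨fix1, fix2, fix3⟩ := root_fix_facts (F := F) (a := a) (b := b)
  obtain ⟨ad1, ad2, ad3⟩ := emb_add (F := F)
  let P := ((Fin 2 ⊕ Fin 2) ⊕ Fin 1 → F) × (Fin 3 → F) × F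
  let Φ : P → E := fun p => L0 (emb1 p.1) * L1 (emb2 p.2.1) * L2 (emb3 p.2.2)
  have hD := CfsgLib.Quad.disc_ne_zero hab
  have hv : ∀ {g : oGroup (minusQ 3 a b)} {x : U F}, g.1 (offVec F 3 a) = offVec F 3 a →
      x (Sum.inr 1) = 0 → g.1 x (Sum.inr 1) = 0 := fun {g x} hg hx => by
    have h : polar (minusQ 3 a b) (offVec F 3 a) (g.1 x) = 0 := by
      rw [← hg, CfsgLib.Quad.polar_oGroup, polar_offVec, hx, mul_zero]
    rw [polar_offVec] at h
    exact (mul_eq_zero.1 h).resolve_left hD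
  -- the first root group is normalised
  have n1 : ∀ (x : E) w, (π x).1 (offVec F 3 a) = offVec F 3 a →
      (π x).1 (pairX F 0) = pairX F 0 → (π x).1 (pairY F 0) = pairY F 0 →
      ∃ w', x * L0 (emb1 w) * x⁻¹ = L0 (emb1 w') := fun x w f1 f2 f3 => by
    obtain ⟨w', hw'⟩ := emb1_range (proj 0 ((π x).1 (skipMap (m := 2) 0 (emb1 w)))) (by
      show (π x).1 (skipMap (m := 2) 0 (emb1 w)) (Sum.inr 1) = 0
      exact hv f1 (by simp [skipMap, emb1]))
    exact ⟨w', by rw [he0 x _ f2 f3, hw']⟩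
  have n2 : ∀ (t : F) w, ∃ w', L2 (emb3 t) * L1 (emb2 w) * (L2 (emb3 t))⁻¹ = L1 (emb2 w') := by
    intro t w
    set g := π (L2 (emb3 t)) with hg
    obtain ⟨f1, f2⟩ := fix3 t
    rw [← hπ2] at f1 f2
    obtain ⟨f1X, f1Y⟩ := f2 1 (by decide)
    obtain ⟨f0X, f0Y⟩ := f2 0 (by decide)
    have s01 : (1 : Fin 3).succAbove 0 = 0 := by decide
    have k1 : skipMap (m := 2) 1 (emb2 w) (.inl (.inl 0)) = 0 :=
      (skip_one_zero _).1.trans (by simp [emb2])
    have k2 : skipMap (m := 2) 1 (emb2 w) (.inl (.inr 0)) = 0 :=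
      (skip_one_zero _).2.trans (by simp [emb2])
    have c1 : g.1 (skipMap (m := 2) 1 (emb2 w)) (.inl (.inl 0)) = 0 := by
      refine ((polar_pair (m := 2) 0 a b).2.1 _).symm.trans ?_
      conv_lhs => arg 2; rw [← f0Y]
      exact (CfsgLib.Quad.polar_oGroup g _ _).trans (((polar_pair (m := 2) 0 a b).2.1 _).trans k1)
    have c2 : g.1 (skipMap (m := 2) 1 (emb2 w)) (.inl (.inr 0)) = 0 := by
      refine ((polar_pair (m := 2) 0 a b).1 _).symm.trans ?_
      conv_lhs => arg 2; rw [← f0X]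
      exact (CfsgLib.Quad.polar_oGroup g _ _).trans (((polar_pair (m := 2) 0 a b).1 _).trans k2)
    obtain ⟨w', hw'⟩ := emb2_range (proj 1 (g.1 (skipMap (m := 2) 1 (emb2 w))))
      (hv (g := g) f1 (by simp [skipMap, emb2]))
      (show g.1 (skipMap (m := 2) 1 (emb2 w)) (.inl (.inl ((1 : Fin 3).succAbove 0))) = 0 by
        rw [s01, c1])
      (show g.1 (skipMap (m := 2) 1 (emb2 w)) (.inl (.inr ((1 : Fin 3).succAbove 0))) = 0 by
        rw [s01, c2])
    exact ⟨w', by rw [he1 _ _ f1X f1Y, hw']⟩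
  have hone : Φ 0 = 1 := by
    have z0 : ∀ L : W F → E, (∀ z z', L (z + z') = L z * L z') → L 0 = 1 := fun L h => by
      have := h 0 0
      rw [add_zero] at this
      exact mul_eq_left.1 this.symm
    have e1 : emb1 (0 : (Fin 2 ⊕ Fin 2) ⊕ Fin 1 → F) = 0 := by
      have := ad1 0 0; rw [add_zero] at this; exact add_eq_left.1 this.symm
    have e2 : emb2 (0 : Fin 3 → F) = 0 := by
      have := ad2 0 0; rw [add_zero] at this; exact add_eq_left.1 this.symm
    have e3 : emb3 (0 : F) = 0 := by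
      have := ad3 0 0; rw [add_zero] at this; exact add_eq_left.1 this.symm
    show L0 (emb1 0) * L1 (emb2 0) * L2 (emb3 0) = 1
    rw [e1, e2, e3, z0 L0 hm0, z0 L1 hm1, z0 L2 hm2, one_mul, one_mul]
  have hmul : ∀ p p', ∃ p'', Φ p * Φ p' = Φ p'' := by
    rintro ⟨w1, w2, t⟩ ⟨v1, v2, s⟩
    obtain ⟨f1, f2X, f2Y⟩ := fix2 w2
    obtain ⟨g1, g2⟩ := fix3 t
    rw [← hπ1] at f1 f2X f2Y
    rw [← hπ2] at g1 g2
    obtain ⟨g0X, g0Y⟩ := g2 0 (by decide)
    obtain ⟨u1, hu1⟩ := n1 (L2 (emb3 t)) v1 g1 g0X g0Y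
    obtain ⟨u1', hu1'⟩ := n1 (L1 (emb2 w2)) u1 f1 f2X f2Y
    obtain ⟨u2, hu2⟩ := n2 t v2
    refine ⟨(w1 + u1', w2 + u2, t + s), ?_⟩
    show L0 (emb1 w1) * L1 (emb2 w2) * L2 (emb3 t) * (L0 (emb1 v1) * L1 (emb2 v2) * L2 (emb3 s)) =
      L0 (emb1 (w1 + u1')) * L1 (emb2 (w2 + u2)) * L2 (emb3 (t + s))
    rw [ad1, ad2, ad3, hm0, hm1, hm2, ← hu1', ← hu1, ← hu2]
    group
  let T : Subgroup E :=
    { carrier := Set.range Φ
      one_mem' := ⟨0, hone⟩
      mul_mem' := by
        rintro _ _ ⟨p, rfl⟩ ⟨p', rfl⟩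
        obtain ⟨p'', h⟩ := hmul p p'
        exact ⟨p'', h.symm⟩
      inv_mem' := by
        rintro _ ⟨p, rfl⟩
        have hpow : ∀ n : ℕ, Φ p ^ n ∈ Set.range Φ := fun n => by
          induction n with
          | zero => exact ⟨0, by rw [hone, pow_zero]⟩
          | succ n ih =>
            obtain ⟨p', hp'⟩ := ih
            obtain ⟨p'', h⟩ := hmul p' p
            exact ⟨p'', by rw [pow_succ, ← hp', h]⟩
        have he : (Φ p)⁻¹ = Φ p ^ (orderOf (Φ p) - 1) := by
          refine inv_eq_of_mul_eq_one_right ?_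
          rw [← pow_succ', Nat.sub_add_cancel (orderOf_pos (Φ p)), pow_orderOf_eq_one]
        rw [he]
        exact hpow _ }
  have hinj : Function.Injective fun p => π (Φ p) := by
    rintro ⟨w1, w2, t⟩ ⟨v1, v2, s⟩ e
    simp only [Φ, map_mul, hπ0, hπ1, hπ2] at e
    have fY : ∀ (w : Fin 3 → F) (t : F), (root a b 1 (emb2 w)).1
        ((root a b 2 (emb3 t)).1 (pairY F 0)) = pairY F 0 := fun w t => by
      rw [((fix3 t).2 0 (by decide)).2, (fix2 w).2.2]
    have e0 := congrArg (fun g : oGroup (minusQ 3 a b) => proj 0 (g.1 (pairY F 0))) e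
    change proj 0 ((root a b 0 (emb1 w1)).1 ((root a b 1 (emb2 w2)).1
        ((root a b 2 (emb3 t)).1 (pairY F 0)))) = proj 0 ((root a b 0 (emb1 v1)).1
        ((root a b 1 (emb2 v2)).1 ((root a b 2 (emb3 s)).1 (pairY F 0)))) at e0
    rw [fY, fY, root_pairY, root_pairY] at e0
    obtain rfl := emb_injective.1 e0
    rw [mul_assoc, mul_assoc, mul_right_inj] at e
    have e1 := congrArg (fun g : oGroup (minusQ 3 a b) => proj 1 (g.1 (pairY F 1))) e
    change proj 1 ((root a b 1 (emb2 w2)).1 ((root a b 2 (emb3 t)).1 (pairY F 1))) =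
      proj 1 ((root a b 1 (emb2 v2)).1 ((root a b 2 (emb3 s)).1 (pairY F 1))) at e1
    rw [((fix3 t).2 1 (by decide)).2, ((fix3 s).2 1 (by decide)).2, root_pairY, root_pairY] at e1
    obtain rfl := emb_injective.2.1 e1
    rw [mul_right_inj] at e
    have e2 := congrArg (fun g : oGroup (minusQ 3 a b) => proj 2 (g.1 (pairY F 2))) e
    simp only [root_pairY] at e2
    obtain rfl := emb_injective.2.2 e2
    rfl
  refine ⟨T, ?_, ?_, ?_⟩
  · rintro _ ⟨p, rfl⟩ hp
    have e := hinj (a₁ := p) (a₂ := (0 : P)) (show π (Φ p) = π (Φ 0) by rw [hp, hone, map_one])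
    rw [e, hone]
  · have : ((T.map π : Subgroup _) : Set (oGroup (minusQ 3 a b))) = Set.range fun p => π (Φ p) := by
      rw [Subgroup.coe_map]
      exact (Set.range_comp π Φ).symm
    rw [← SetLike.coe_sort_coe, this, Nat.card_range_of_injective hinj]
    have := Fintype.ofFinite F
    simp only [P, Nat.card_prod, Nat.card_fun, Nat.card_eq_fintype_card, Fintype.card_sum,
      Fintype.card_fin]
    norm_num
    rw [show Fintype.card F = 3 by rw [← Nat.card_eq_fintype_card, h3]]
    norm_num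
  · rintro _ ⟨_, ⟨⟨w1, w2, t⟩, rfl⟩, rfl⟩
    have hmem : ∀ i z, skipMap (m := 2) i z (Sum.inr 1) = (0 : F) →
        root a b i z ∈ SG (minusQ 3 a b) (pv (minusQ 3 a b) (offVec F 3 a)) := fun i z hz =>
      siegel_mem_SG (mem_perp_single.2 (by rw [polar_offVec]; simp [pairX]))
        (mem_perp_single.2 (by rw [polar_offVec, hz, mul_zero])) (root_facts i z).1 (root_facts i z).2
    simp only [Φ, map_mul, hπ0, hπ1, hπ2]
    exact mul_mem (mul_mem (hmem _ _ (by simp [skipMap, emb1])) (hmem _ _ (by simp [skipMap, emb2])))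
      (hmem _ _ (by simp [skipMap, emb3]))

omit hker hrange in
/-- The order of `Ω₇(3)`. -/
theorem card_omega_seven :
    Nat.card ↥(commutator (oGroup (oddQ (F := F) 3))) = 4585351680 := by
  obtain ⟨h2, -⟩ := char_facts hab h3
  have hQ := CfsgLib.Quad.oddQ_nondeg (F := F) h2 3
  have hfin : 5 ≤ Module.finrank F (Unit ⊕ (Fin 3 ⊕ Fin 3) → F) := by simp
  have hneg := CfsgLib.Quad.negIso_notMem_of_odd (Q := oddQ (F := F) 3) h2
    (by simp; decide)
  have hO : Nat.card (oGroup (oddQ (F := F) 3)) = 2 * 9170703360 := by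
    have h := CfsgLib.Quad.card_oGroup_odd (F := F) (q := 3) h3 h2 3
    norm_num [Finset.prod_range_succ] at h
    exact_mod_cast h
  have h := (CfsgLib.Quad.card_pOmega hQ hfin _ hO).2.1 h2 hneg
  have hcen := CfsgLib.Quad.card_center_omega_one hQ hfin (Or.inr hneg)
  rw [card_eq_card_quotient_mul_card_subgroup (center ↥(commutator (oGroup (oddQ (F := F) 3)))),
    hcen, mul_one]
  omega

/-- No element of order three of the kernel lies in a perfect group over the stabiliser. -/
theorem no_three_in_kernel [Finite E] {X : Subgroup E} (hXp : ⁅X, X⁆ = X)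
    (hXmap : X.map π = SG (minusQ 3 a b) (pv (minusQ 3 a b) (offVec F 3 a)))
    {z : E} (hz : z ∈ X) (hz1 : π z = 1) (hz3 : z ^ 3 = 1) : z = 1 := by
  obtain ⟨h2, -⟩ := char_facts hab h3
  obtain ⟨T, hT1, hTcard, hTle⟩ := exists_three_part hab h3 hker hrange
  obtain ⟨j, hj, hjmap⟩ := exists_off_embed (m := 3) (by norm_num) h2 hab
  set D := SG (minusQ 3 a b) (pv (minusQ 3 a b) (offVec F 3 a)) with hD
  have hDcard : Nat.card D = 4585351680 := by
    rw [← hjmap, ← Nat.card_congr (Subgroup.equivMapOfInjective _ j hj).toEquiv,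
      card_omega_seven hab h3]
  set f : X →* oGroup (minusQ 3 a b) := π.comp X.subtype with hf
  have hfr : f.range = D := by rw [hf, MonoidHom.range_comp, range_subtype, hXmap]
  set H := (T.map π).comap f with hH
  have hidx : H.index * 3 ^ 9 = 4585351680 := by
    rw [hH, Subgroup.index_comap, hfr, ← hTcard, ← hDcard,
      ← Nat.card_congr (Subgroup.subgroupOfEquivOfLe hTle).toEquiv, mul_comm]
    exact Subgroup.card_mul_index _
  have hidx3 : H.index = 232960 := by
    have : (3 : ℕ) ^ 9 = 19683 := by norm_num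
    omega
  have hperfX : commutator X = ⊤ := by
    refine map_injective X.subtype_injective ?_
    rw [_root_.commutator_def, map_commutator, ← MonoidHom.range_eq_map, range_subtype, hXp]
  have : H.FiniteIndex := ⟨by rw [hidx3]; norm_num⟩
  have key : ∀ (k : ℕ) (g₀ : X), g₀⁻¹ * (⟨z, hz⟩ : X) ^ k * g₀ ∈ H →
      g₀⁻¹ * (⟨z, hz⟩ : X) ^ k * g₀ = (⟨z, hz⟩ : X) ^ k := fun k g₀ _ => by
    have hc : (⟨z, hz⟩ : X) ^ k * g₀ = g₀ * (⟨z, hz⟩ : X) ^ k := Subtype.ext
      (mem_center_iff.1 (hker (MonoidHom.mem_ker.2 (by rw [map_pow, hz1, one_pow] : π (z ^ k) = 1)))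
        g₀.1).symm
    rw [mul_assoc, hc, inv_mul_cancel_left]
  have htr := MonoidHom.transfer_eq_pow (Abelianization.of (G := H)) (⟨z, hz⟩ : X) key
  have htriv : MonoidHom.transfer (Abelianization.of (G := H)) (⟨z, hz⟩ : X) = 1 :=
    MonoidHom.mem_ker.1 (Abelianization.commutator_subset_ker _ (hperfX ▸ mem_top _))
  rw [htriv] at htr
  have hcomm : (⟨_, MonoidHom.transfer_eq_pow_aux (⟨z, hz⟩ : X) key⟩ : H) ∈ commutator H := by
    rw [← Abelianization.ker_of]; exact htr.symm
  have hle : commutator H ≤ T.comap ((X.subtype).comp H.subtype) := by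
    rw [_root_.commutator_def, commutator_le]
    intro x _ y _
    obtain ⟨t, ht, et⟩ := (x.2 : f x.1 ∈ T.map π)
    obtain ⟨t', ht', et'⟩ := (y.2 : f y.1 ∈ T.map π)
    rw [mem_comap, map_commutatorElement,
      comm_congr hker (show π ((X.subtype).comp H.subtype x) = π t from et.symm)
        (show π ((X.subtype).comp H.subtype y) = π t' from et'.symm),
      commutatorElement_def]
    exact mul_mem (mul_mem (mul_mem ht ht') (inv_mem ht)) (inv_mem ht')
  have hzT : z ^ H.index ∈ T := by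
    simpa using hle hcomm
  have hz' := hT1 _ hzT (by rw [map_pow, hz1, one_pow])
  rw [hidx3, show (232960 : ℕ) = 3 * 77653 + 1 by norm_num, pow_succ, pow_mul, hz3, one_pow,
    one_mul] at hz'
  exact hz'

end CfsgLib.DMult.MinusThree
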