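/-
Totally singular subspaces of spaces of minus type, and vectors of a given value orthogonal to four
vectors of an eight-dimensional space over three elements.
-/
import Cfsg.Agent.DMult.AnisoStep
import Cfsg.Agent.Quad.Concrete

set_option autoImplicit false
set_option linter.unusedSectionVars false

namespace CfsgLib.DMult

open QuadraticMap
open CfsgLib.Forms CfsgLib.Aniso
open CfsgLib.Quad (minusQ perpS)

universe u

variable {F : Type u} [Field F] [Finite F]

/-- A totally singular subspace has dimension at most the index. -/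
theorem finrank_singular_le {m : ℕ} {a b : F}
    (hab : ∀ z₁ z₂ : F, z₁ ^ 2 + a * z₁ * z₂ + b * z₂ ^ 2 = 0 → z₁ = 0 ∧ z₂ = 0)
    {T : Submodule F ((Fin m ⊕ Fin m) ⊕ Fin 2 → F)} (hT : ∀ t ∈ T, minusQ m a b t = 0) :
    Module.finrank F T ≤ m := by
  classical
  set Q := minusQ m a b with hQdef
  by_contra hlt
  obtain ⟨f, hf⟩ := exists_linearIndependent_of_le_finrank (R := F) (M := T) (n := m + 1) (by omega)
  set t : Fin (m + 1) → ((Fin m ⊕ Fin m) ⊕ Fin 2 → F) := fun i => (f i : T) with ht
  have hind : LinearIndependent F t := hf.map' T.subtype T.ker_subtype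
  have hp : ∀ i j, polar Q (t i) (t j) = 0 := fun i j => by
    rw [polar, hT _ (T.add_mem (f i).2 (f j).2), hT _ (f i).2, hT _ (f j).2]; simp
  let e : Fin m → ((Fin m ⊕ Fin m) ⊕ Fin 2 → F) := fun i => Pi.single (Sum.inl (Sum.inl i)) 1
  have he : LinearIndependent F e :=
    (Pi.basisFun F ((Fin m ⊕ Fin m) ⊕ Fin 2)).linearIndependent.comp
      (fun i => Sum.inl (Sum.inl i)) (fun i j h => by simpa using h) |> fun h => by
        convert h using 1
        funext i
        simp [e]
  have hQe : ∀ i, Q (e i) = 0 := fun i => by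
    rw [hQdef, CfsgLib.Quad.minusQ_coe]; simp [Cfsg.quadFormMinus, e]
  have hpe : ∀ i j, polar Q (e i) (e j) = 0 := fun i j => by
    simp only [polar, hQdef, CfsgLib.Quad.minusQ_coe]
    simp [Cfsg.quadFormMinus, e]
  obtain ⟨g, hg, hgi⟩ := quad_exists_map_family (CfsgLib.Quad.minusQ_nondeg hab m)
    (t ∘ Fin.castSucc) e (hind.comp _ (Fin.castSucc_injective m)) he
    (fun i => by rw [hQe]; exact hT _ (f i.castSucc).2)
    (fun i j => by rw [hpe]; exact hp i.castSucc j.castSucc)
  set w := g (t (Fin.last m)) with hw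
  have hgp : ∀ p r, polar Q (g p) (g r) = polar Q p r := fun p r => by
    simp only [polar, ← map_add, show ∀ u, Q (g u) = Q u from hg]
  have hy : ∀ i, w (Sum.inl (Sum.inr i)) = 0 := fun i => by
    have h : polar Q (e i) w = 0 := by rw [← hgi i, hw, hgp]; exact hp _ _
    simp only [polar, hQdef, CfsgLib.Quad.minusQ_coe] at h
    simpa [Cfsg.quadFormMinus, e, Pi.single_apply, add_mul, Finset.sum_add_distrib] using h
  have hbin : w (Sum.inr 0) = 0 ∧ w (Sum.inr 1) = 0 := hab _ _ (by
    have h : Q w = 0 := by rw [hw, hg]; exact hT _ (f _).2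
    rw [hQdef, CfsgLib.Quad.minusQ_coe] at h
    simpa [Cfsg.quadFormMinus, hy] using h)
  have hsum : w = ∑ i, w (Sum.inl (Sum.inl i)) • e i := by
    funext k
    rcases k with (k | k) | k
    · simp [e, Pi.single_apply]
    · simp [e, hy]
    · fin_cases k <;> simp [e, hbin]
  have hdep : t (Fin.last m) = ∑ i : Fin m, w (Sum.inl (Sum.inl i)) • t i.castSucc := by
    apply g.injective
    rw [map_sum, ← hw, hsum]
    refine Finset.sum_congr rfl fun i _ => ?_
    rw [← hsum, map_smul, ← hgi i]
    rfl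
  have hall := Fintype.linearIndependent_iff.1 hind
    (Fin.lastCases (-1) fun i => w (Sum.inl (Sum.inl i))) (by
      rw [Fin.sum_univ_castSucc]
      simp only [Fin.lastCases_last, Fin.lastCases_castSucc]
      rw [← hdep, neg_one_smul, add_neg_cancel]) (Fin.last m)
  simp at hall

variable {V : Type*} [AddCommGroup V] [Module F V] [FiniteDimensional F V] {Q : QuadraticForm F V}

/-- Over three elements four vectors of an eight-dimensional space of index three, one of them
anisotropic, have an orthogonal vector of the same value. -/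
theorem exists_perp4_three (hQ : (polarBilin Q).Nondegenerate) (hF : Nat.card F = 3)
    (h2 : (2 : F) ≠ 0) (hN : Module.finrank F V = 8)
    (hwitt : ∀ T : Submodule F V, (∀ t ∈ T, Q t = 0) → Module.finrank F T ≤ 3)
    (x y d v : V) (hv : Q v ≠ 0) :
    ∃ z, Q z = Q v ∧ polar Q x z = 0 ∧ polar Q y z = 0 ∧ polar Q d z = 0 ∧ polar Q v z = 0 := by
  classical
  set U := Submodule.span F (Set.range ![x, y, d, v])
  have fin : ∀ {z}, z ∈ perpS Q U → polar Q x z = 0 ∧ polar Q y z = 0 ∧ polar Q d z = 0 ∧
      polar Q v z = 0 := fun hz =>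
    ⟨hz x (Submodule.subset_span ⟨0, rfl⟩), hz y (Submodule.subset_span ⟨1, rfl⟩),
      hz d (Submodule.subset_span ⟨2, rfl⟩), hz v (Submodule.subset_span ⟨3, rfl⟩)⟩
  have hU : Module.finrank F U ≤ 4 := (finrank_range_le_card _).trans (by simp)
  have hvU : v ∈ U := Submodule.subset_span ⟨3, rfl⟩
  set R := U ⊓ perpS Q U with hR
  have hsing : ∀ t ∈ R, Q t = 0 := fun t ht => by
    have h : polar Q t t = 0 := ht.2 t ht.1
    rw [polar_self, two_nsmul, ← two_mul] at h
    exact (mul_eq_zero.1 h).resolve_left h2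
  have hvR : v ∉ R := fun h => hv (hsing v h)
  have hlt : Module.finrank F R < Module.finrank F U := Submodule.finrank_lt_finrank_of_lt
    (lt_of_le_of_ne inf_le_left fun e => hvR (e.symm ▸ hvU))
  by_cases hgood : Module.finrank F U + Module.finrank F R + 2 ≤ Module.finrank F V
  · obtain ⟨z, hz, hz1⟩ := exists_rep hQ h2 U hgood (Q v)
    exact ⟨z, hz1, fin hz⟩
  have hR3 : Module.finrank F R = 3 ∧ Module.finrank F U = 4 := by omega
  have hperp := CfsgLib.Quad.finrank_perpS hQ U
  obtain ⟨u, hu, huR⟩ : ∃ u ∈ perpS Q U, u ∉ R := by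
    by_contra h
    push Not at h
    have := Submodule.finrank_mono (show perpS Q U ≤ R from h)
    omega
  have hRu : ∀ r ∈ R, polar Q r u = 0 := fun r hr => hu r hr.1
  have big : ∀ w : V, w ∉ R → Q w = 0 → (∀ r ∈ R, polar Q r w = 0) → False := fun w hwR hw hp => by
    set T := R ⊔ Submodule.span F {w}
    have hlt : Module.finrank F R < Module.finrank F T := Submodule.finrank_lt_finrank_of_lt
      (lt_of_le_of_ne le_sup_left fun e => hwR (e ▸ Submodule.mem_sup_right
        (Submodule.mem_span_singleton_self w)))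
    have := hwitt T fun t ht => by
      obtain ⟨r, hr, k, hk, rfl⟩ := Submodule.mem_sup.1 ht
      obtain ⟨s, rfl⟩ := Submodule.mem_span_singleton.1 hk
      rw [quad_add, quad_smul, hsing r hr, hw, polar_smul_right, hp r hr]
      simp
    omega
  have hQu : Q u ≠ 0 := fun h => big u huR h hRu
  by_cases he : Q u = Q v
  · exact ⟨u, he, fin hu⟩
  exfalso
  have hF3 : ∀ p r : F, p ≠ 0 → r ≠ 0 → p ≠ r → p + r = 0 := by
    intro p r hp hr hne
    have := Fintype.ofFinite F
    rw [Nat.card_eq_fintype_card] at hF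
    by_contra hsum
    have h4 : ({0, p, r, p + r} : Finset F).card = 4 := by
      rw [Finset.card_insert_of_notMem (by simp [Ne.symm hp, Ne.symm hr, Ne.symm hsum]),
        Finset.card_insert_of_notMem (by simp [hne, hr]),
        Finset.card_insert_of_notMem (by simp [hp]), Finset.card_singleton]
    have := Finset.card_le_univ ({0, p, r, p + r} : Finset F)
    omega
  refine big (v + u) (fun h => huR ⟨?_, hu⟩) ?_ fun r hr => ?_
  · simpa using U.sub_mem h.1 hvU
  · rw [quad_add, hu v hvU, add_zero]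
    exact hF3 _ _ hv hQu (Ne.symm he)
  · rw [polar_add_right, hRu r hr, add_zero, polar_comm]
    exact hr.2 v hvU

/-- The two conditions of the step over three elements. -/
theorem three_link_of_three (hQ : (polarBilin Q).Nondegenerate) (hF : Nat.card F = 3)
    (h2 : (2 : F) ≠ 0) (hN : Module.finrank F V = 8)
    (hwitt : ∀ T : Submodule F V, (∀ t ∈ T, Q t = 0) → Module.finrank F T ≤ 3)
    {c : F} (hc : c ≠ 0) :
    (∀ a b d : V, ∃ z, Q z = c ∧ polar Q a z = 0 ∧ polar Q b z = 0 ∧ polar Q d z = 0) ∧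
    ∀ x y v w : V, Q v = c → Q w = c → polar Q x v = 0 → polar Q x w = 0 →
      polar Q y v = 0 → polar Q y w = 0 → ∃ z, Q z = c ∧ polar Q x z = 0 ∧ polar Q y z = 0 ∧
        NonDeg Q (Submodule.span F (Set.range ![v, z])) ∧
        NonDeg Q (Submodule.span F (Set.range ![w, z])) := by
  refine ⟨exists_perp3 hQ h2 (by omega) c, fun x y v w hv hw _ _ _ _ => ?_⟩
  obtain ⟨z, hz, z1, z2, z3, z4⟩ := exists_perp4_three hQ hF h2 hN hwitt x y v w (hw ▸ hc)
  rw [hw] at hz
  exact ⟨z, hz, z1, z2, nonDeg_orth h2 hc hv hz z3, nonDeg_orth h2 hc hw hz z4⟩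

end CfsgLib.DMult
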