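/-
Perfect central extensions of `Ω₈⁻(3)` have at most two elements over the identity.
-/
import Cfsg.Agent.DMult.MinusThreeSylow
import Cfsg.Agent.DMult.MinusWitt
import Cfsg.Agent.Coset.O73.Schur.Main

set_option autoImplicit false

namespace CfsgLib.DMult

open Subgroup QuadraticMap
open CfsgLib.Forms CfsgLib.Aniso
open CfsgLib.Quad (minusQ oddQ oGroup negIso)

universe u

variable {F : Type u} [Field F] [Finite F] {a b : F}

/-- The bound for `Ω₈⁻(3)`. -/
theorem ker_bound_minus_three (h3 : Nat.card F = 3)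
    (hab : ∀ z₁ z₂ : F, z₁ ^ 2 + a * z₁ * z₂ + b * z₂ ^ 2 = 0 → z₁ = 0 ∧ z₂ = 0)
    {E : Type u} [Group E] [Finite E]
    (π : E →* oGroup (minusQ 3 a b)) (hker : π.ker ≤ center E)
    (hrange : π.range = commutator (oGroup (minusQ 3 a b)))
    (hperf : commutator E = ⊤) : ∃ ζ : E, ∀ z, π z = 1 → z = 1 ∨ z = ζ := by
  classical
  have := Fintype.ofFinite F
  obtain ⟨h2, -⟩ := MinusThree.char_facts hab h3
  have hQ := CfsgLib.Quad.minusQ_nondeg hab 3
  have hN : Module.finrank F ((Fin 3 ⊕ Fin 3) ⊕ Fin 2 → F) = 8 := by rw [minusQ_finrank]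
  have hene : minusQ 3 a b (offVec F 3 a) ≠ 0 := by
    rw [Q_offVec]; exact CfsgLib.Quad.disc_ne_zero hab
  obtain ⟨hthree, hlink⟩ := three_link_of_three hQ h3 h2 hN
    (fun T hT => finrank_singular_le hab hT) hene
  refine ker_bound_of_point hQ h2 (by omega) hene hthree hlink π hker hrange hperf
    fun X hXp hXmap => ?_
  obtain ⟨j, hj, hjmap⟩ := exists_off_embed (m := 3) (by norm_num) h2 hab
  obtain ⟨π₀, hr0, he0⟩ := exists_pull π j hj (X := X) (hXmap.trans hjmap.symm)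
  have hperfX : commutator X = ⊤ := by
    refine map_injective X.subtype_injective ?_
    rw [_root_.commutator_def, map_commutator, ← MonoidHom.range_eq_map, range_subtype, hXp]
  have hc0 : π₀.ker ≤ center X := fun z hz => mem_center_iff.2 fun y => Subtype.ext (mem_center_iff.1
    (hker (MonoidHom.mem_ker.2 (by rw [← he0, MonoidHom.mem_ker.1 hz, map_one]))) y.1)
  -- the stem extension of the simple group
  have hQo : (polarBilin (oddQ (F := F) 3)).Nondegenerate := CfsgLib.Quad.oddQ_nondeg h2 3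
  have hfin : 5 ≤ Module.finrank F (Unit ⊕ (Fin 3 ⊕ Fin 3) → F) := by simp
  have hcen : center ↥(commutator (oGroup (oddQ (F := F) 3))) = ⊥ := Subgroup.card_eq_one.1
    (CfsgLib.Quad.card_center_omega_one hQo hfin
      (Or.inr (CfsgLib.Quad.negIso_notMem_of_odd h2 (by simp; decide))))
  let i : Cfsg.POmega F ⇑(oddQ (F := F) 3) ≃* ↥(commutator (oGroup (oddQ (F := F) 3))) :=
    (CfsgLib.Quad.pOmegaEquiv (oddQ (F := F) 3)).trans
      ((QuotientGroup.quotientMulEquivOfEq hcen).trans QuotientGroup.quotientBot)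
  let σ : X →* Cfsg.POmega F ⇑(oddQ (F := F) 3) :=
    i.symm.toMonoidHom.comp
      (π₀.codRestrict (commutator (oGroup (oddQ (F := F) 3))) fun x => hr0.le (MonoidHom.mem_range.2 ⟨x, rfl⟩))
  have hσk : ∀ z, z ∈ σ.ker ↔ π₀ z = 1 := fun z => by
    simp only [σ, MonoidHom.mem_ker, MonoidHom.comp_apply, MulEquiv.coe_toMonoidHom]
    exact i.symm.map_eq_one_iff.trans Subtype.ext_iff
  have hσ : Cfsg.IsStemExtension σ := by
    refine ⟨i.symm.surjective.comp fun g => ?_, fun z hz => hc0 ((hσk z).1 hz), by rw [hperfX]; exact le_top⟩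
    obtain ⟨x, hx⟩ := hr0.ge g.2
    exact ⟨x, Subtype.ext hx⟩
  have hmul := CfsgLib.Coset.O73.Schur.multiplier (F := F) (by rw [← Nat.card_eq_fintype_card, h3])
  rw [← CfsgLib.Quad.oddQ_coe] at hmul
  obtain ⟨φ, hφ⟩ := hmul.2 X σ hσ
  have h6 : Nat.card σ.ker ∣ 6 := by
    have := Subgroup.card_dvd_of_surjective φ hφ
    rwa [Nat.card_congr Multiplicative.toAdd, Nat.card_zmod] at this
  have hno : ¬3 ∣ Nat.card σ.ker := fun h => by
    have : Fact (Nat.Prime 3) := ⟨Nat.prime_three⟩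
    obtain ⟨⟨z, hz⟩, hord⟩ := exists_prime_orderOf_dvd_card' 3 h
    have hz1 : π z.1 = 1 := by rw [← he0, (hσk z).1 hz, map_one]
    have hpow : (⟨z, hz⟩ : σ.ker) ^ 3 = 1 := orderOf_dvd_iff_pow_eq_one.1 (dvd_of_eq hord)
    have hz3 : z.1 ^ 3 = 1 := congrArg (fun t : σ.ker => t.1.1) hpow
    have := MinusThree.no_three_in_kernel hab h3 hker hrange hXp hXmap z.2 hz1 hz3
    rw [show (⟨z, hz⟩ : σ.ker) = 1 from Subtype.ext (Subtype.ext this), orderOf_one] at hord
    omega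
  have h2' : Nat.card σ.ker ∣ 2 :=
    (Nat.prime_three.coprime_iff_not_dvd.2 hno).symm.dvd_of_dvd_mul_left (h6 : _ ∣ 3 * 2)
  obtain ⟨ζ, hζ⟩ : ∃ ζ : σ.ker, ∀ z, z = 1 ∨ z = ζ := by
    rcases (Nat.dvd_prime Nat.prime_two).1 h2' with h | h
    · exact ⟨1, fun z => Or.inl ((Nat.card_eq_one_iff_unique.1 h).1.elim z 1)⟩
    · obtain ⟨x, hx, huniq⟩ := (Nat.card_eq_two_iff' (1 : σ.ker)).1 h
      exact ⟨x, fun z => or_iff_not_imp_left.2 (huniq z)⟩
  refine ⟨ζ.1.1, fun z hz hz1 => ?_⟩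
  have hmem : (⟨z, hz⟩ : X) ∈ σ.ker := (hσk _).2 (hj (by rw [he0, map_one]; exact hz1))
  exact (hζ ⟨_, hmem⟩).imp (congrArg fun t : σ.ker => t.1.1) (congrArg fun t : σ.ker => t.1.1)

end CfsgLib.DMult
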