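/-
Coordinates for three involutions of the six-dimensional space of minus type over two elements.
-/
import Cfsg.Agent.DMult.MinusSub
import Cfsg.Agent.DMult.MinusCocycle

set_option autoImplicit false
set_option linter.unusedSectionVars false
set_option linter.unusedSimpArgs false

namespace CfsgLib.DMult.MinusTwoExc

open Subgroup QuadraticMap
open CfsgLib.Forms CfsgLib.Aniso
open CfsgLib.Quad (minusQ oGroup siegel)

universe u

variable {F : Type u} [Field F] [CharP F 2] [Finite F] {a b : F}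

/-- The cast of the prime field. -/
abbrev κ (F : Type u) [Field F] [CharP F 2] : ZMod 2 →+* F := ZMod.castHom (dvd_refl 2) F

/-- Coordinates. -/
def emb6 (F : Type u) [Field F] [CharP F 2] (t : V6) : (Fin 2 ⊕ Fin 2) ⊕ Fin 2 → F :=
  Sum.elim (Sum.elim ![κ F (t 0), κ F (t 2)] ![κ F (t 1), κ F (t 3)]) ![κ F (t 4), κ F (t 5)]

theorem emb6_add (s t : V6) : emb6 F (s + t) = emb6 F s + emb6 F t := by
  funext k
  rcases k with (k | k) | k <;> fin_cases k <;> simp [emb6, map_add]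

theorem emb6_zero : emb6 F (0 : V6) = 0 := by
  funext k
  rcases k with (k | k) | k <;> fin_cases k <;> simp [emb6]

theorem emb6_surjective (hk : ∀ x : F, x = 0 ∨ x = 1) (z : (Fin 2 ⊕ Fin 2) ⊕ Fin 2 → F) :
    ∃ t, emb6 F t = z := by
  classical
  let p : F → ZMod 2 := fun x => if x = 0 then 0 else 1
  have hp : ∀ x, κ F (p x) = x := fun x => by
    rcases hk x with rfl | rfl <;> simp [p]
  exact ⟨![p (z (.inl (.inl 0))), p (z (.inl (.inr 0))), p (z (.inl (.inl 1))),
    p (z (.inl (.inr 1))), p (z (.inr 0)), p (z (.inr 1))], funext fun k => by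
    rcases k with (k | k) | k <;> fin_cases k <;> simp [emb6, hp]⟩

theorem emb6_polar (ha : a = 1) (s t : V6) :
    polar (minusQ 2 a b) (emb6 F s) (emb6 F t) = κ F (s 0 * t 1 + s 1 * t 0 + s 2 * t 3 + s 3 * t 2
      + s 4 * t 5 + s 5 * t 4) := by
  have h2 : (2 : F) = 0 := CharTwo.two_eq_zero
  simp only [polar, CfsgLib.Quad.minusQ_coe]
  simp [-ZMod.castHom_apply, Cfsg.quadFormMinus, emb6, Fin.sum_univ_two, map_add, map_mul, ha]
  linear_combination (κ F (s 4) * κ F (t 4) + b * κ F (s 5) * κ F (t 5)) * h2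

theorem emb6_Q (ha : a = 1) (hb : b = 1) (t : V6) : minusQ 2 a b (emb6 F t) = κ F (fc t t) := by
  have hsq : ∀ x : ZMod 2, κ F x ^ 2 = κ F x := fun x => by
    rw [← map_pow]; exact congrArg _ ((by decide : ∀ x : ZMod 2, x ^ 2 = x) x)
  rw [CfsgLib.Quad.minusQ_coe]
  simp [-ZMod.castHom_apply, Cfsg.quadFormMinus, emb6, Fin.sum_univ_two, fc, map_add, map_mul, ha, hb, ← pow_two, hsq]
  ring

/-- The three involutions. -/
noncomputable def inv6 (a b : F) (i : Fin 3) : oGroup (minusQ 2 a b) :=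
  siegel (minusQ 2 a b) (emb6 F (![bv 0, bv 3, bv 0 + bv 3] i))
    (emb6 F (![bv 4, bv 5, bv 4 + bv 5] i))

/-- Their action in coordinates. -/
def act6 (i : Fin 3) : V6 → V6 := ![A0, A1, A2] i

variable (hab : ∀ z₁ z₂ : F, z₁ ^ 2 + a * z₁ * z₂ + b * z₂ ^ 2 = 0 → z₁ = 0 ∧ z₂ = 0)
  (hk : ∀ x : F, x = 0 ∨ x = 1)
include hab hk

theorem coeff_one : a = 1 ∧ b = 1 := by
  refine ⟨(hk a).resolve_left fun ha => ?_, (hk b).resolve_left fun hb => ?_⟩
  · refine CfsgLib.Quad.disc_ne_zero hab ?_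
    rw [ha, show (4 : F) = 2 * 2 by ring, CharTwo.two_eq_zero]
    ring
  · exact one_ne_zero (hab 0 1 (by rw [hb]; ring)).2

theorem inv6_spec (i : Fin 3) :
    inv6 a b i ∈ commutator (oGroup (minusQ 2 a b)) ∧
      ∀ t, (inv6 a b i).1 (emb6 F t) = emb6 F (act6 i t) := by
  obtain ⟨ha, hb⟩ := coeff_one hab hk
  set p := ![bv 0, bv 3, bv 0 + bv 3] i with hp
  set r := ![bv 4, bv 5, bv 4 + bv 5] i with hr
  have hp0 : fc p p = 0 := by rw [hp]; fin_cases i <;> decide +kernel
  have hpr : p 0 * r 1 + p 1 * r 0 + p 2 * r 3 + p 3 * r 2 + p 4 * r 5 + p 5 * r 4 = 0 := by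
    rw [hp, hr]; fin_cases i <;> decide +kernel
  have he : minusQ 2 a b (emb6 F p) = 0 := by rw [emb6_Q ha hb, hp0, map_zero]
  have hec : polar (minusQ 2 a b) (emb6 F p) (emb6 F r) = 0 := by rw [emb6_polar ha, hpr, map_zero]
  refine ⟨CfsgLib.Quad.siegelGroup_le_commutator (CfsgLib.Quad.minusQ_nondeg hab 2)
    (by rw [minusQ_finrank]; omega) (CfsgLib.Quad.siegel_mem_group he hec), fun t => ?_⟩
  have hsmul : ∀ (x : ZMod 2) (s : V6), κ F x • emb6 F s = emb6 F (x • s) := fun x s => by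
    rcases (by decide : ∀ z : ZMod 2, z = 0 ∨ z = 1) x with rfl | rfl <;> simp [emb6_zero]
  show (siegel (minusQ 2 a b) (emb6 F p) (emb6 F r)).1 (emb6 F t) = _
  rw [CfsgLib.Quad.siegel_apply he hec, emb6_polar ha, emb6_polar ha, emb6_Q ha hb, ← map_mul,
    ← map_add, hsmul, hsmul, sub_eq_add_neg, ← neg_one_smul F (emb6 F _),
    CharTwo.neg_eq, one_smul, ← emb6_add, ← emb6_add]
  congr 1
  revert t
  rw [hp, hr]
  fin_cases i <;> decide +kernel

theorem act6_compose {l : List (Fin 3)} (h : ∀ t, l.foldr act6 t = t) :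
    (l.map (inv6 a b)).prod = 1 := by
  refine Subtype.ext (LinearEquiv.ext fun z => ?_)
  obtain ⟨t, rfl⟩ := emb6_surjective hk z
  have key : ∀ (l : List (Fin 3)) t,
      ((l.map (inv6 a b)).prod).1 (emb6 F t) = emb6 F (l.foldr act6 t) := by
    intro l
    induction l with
    | nil => intro t; rfl
    | cons i l ih =>
      intro t
      rw [List.map_cons, List.prod_cons, List.foldr_cons]
      show (inv6 a b i).1 (((l.map (inv6 a b)).prod).1 (emb6 F t)) = _
      rw [ih, (inv6_spec hab hk i).2]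
  rw [key, h]
  rfl

end CfsgLib.DMult.MinusTwoExc
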