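/-
In a central extension of `Ω₈⁻(2)` with at most two elements over the identity the root elements of
anisotropic parameters lift to involutions.
-/
import Cfsg.Agent.DMult.MinusTwoCoord
import Cfsg.Agent.DMult.MinusThreeLift

set_option autoImplicit false
set_option linter.unusedSectionVars false
set_option linter.unusedSimpArgs false

namespace CfsgLib.DMult.MinusTwoExc

open Subgroup QuadraticMap
open CfsgLib.Forms CfsgLib.Aniso
open CfsgLib.Quad (minusQ oGroup siegel)
open CfsgLib.DMult.MinusThree (root lft root_add root_zero π_root beta_facts)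
open scoped commutatorElement

universe u

theorem zmod_cases (k : ZMod 2) : k = 0 ∨ k = 1 := by
  revert k; decide

section Pair

variable {E : Type u} [Group E] {ζ : E}

theorem pow_val_add (hζ : ζ * ζ = 1) (k l : ZMod 2) : ζ ^ (k + l).val = ζ ^ k.val * ζ ^ l.val := by
  rcases zmod_cases k with rfl | rfl <;> rcases zmod_cases l with rfl | rfl <;>
    simp [ZMod.val_one, show ((1 : ZMod 2) + 1) = 0 by decide, hζ]

/-- Products inside a group with two generators over a central involution. -/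
theorem pair_mul (hζ : ζ * ζ = 1) (hc : ζ ∈ center E) {r s : E} {q q' : ZMod 2}
    (hr : r * r = ζ ^ q.val) (hs : s * s = ζ ^ q'.val) (hsr : s * r = ζ * (r * s))
    (x y x' y' : ZMod 2) :
    r ^ x.val * s ^ y.val * (r ^ x'.val * s ^ y'.val) =
      ζ ^ (y * x' + q * (x * x') + q' * (y * y')).val * (r ^ (x + x').val * s ^ (y + y').val) := by
  have sq : ∀ {t : E} {n : ZMod 2}, t * t = ζ ^ n.val → ∀ k l : ZMod 2,
      t ^ k.val * t ^ l.val = ζ ^ (n * (k * l)).val * t ^ (k + l).val := fun {t n} ht k l => by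
    rcases zmod_cases k with rfl | rfl <;> rcases zmod_cases l with rfl | rfl <;>
      simp [ZMod.val_one, show ((1 : ZMod 2) + 1) = 0 by decide, ht]
  have sw : s ^ y.val * r ^ x'.val = ζ ^ (y * x').val * (r ^ x'.val * s ^ y.val) := by
    rcases zmod_cases y with rfl | rfl <;> rcases zmod_cases x' with rfl | rfl <;>
      simp [ZMod.val_one, hsr]
  have cen : ∀ (n : ℕ) (g : E), g * ζ ^ n = ζ ^ n * g := fun n => mem_center_iff.1 (pow_mem hc n)
  calc r ^ x.val * s ^ y.val * (r ^ x'.val * s ^ y'.val)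
      = r ^ x.val * (s ^ y.val * r ^ x'.val) * s ^ y'.val := by group
    _ = r ^ x.val * ζ ^ (y * x').val * (r ^ x'.val * s ^ y.val) * s ^ y'.val := by rw [sw]; group
    _ = ζ ^ (y * x').val * ((r ^ x.val * r ^ x'.val) * (s ^ y.val * s ^ y'.val)) := by
      rw [cen]; group
    _ = ζ ^ (y * x').val * (ζ ^ (q * (x * x')).val * (r ^ (x + x').val *
          (ζ ^ (q' * (y * y')).val)) * s ^ (y + y').val) := by rw [sq hr, sq hs]; group
    _ = _ := by rw [cen, pow_val_add hζ, pow_val_add hζ]; group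

end Pair

variable {F : Type u} [Field F] [CharP F 2] [Finite F] {a b : F} {E : Type u} [Group E]

theorem self_add_zero (z : (Fin 2 ⊕ Fin 2) ⊕ Fin 2 → F) : z + z = 0 :=
  funext fun k => CharTwo.add_self_eq_zero (z k)

variable (hab : ∀ z₁ z₂ : F, z₁ ^ 2 + a * z₁ * z₂ + b * z₂ ^ 2 = 0 → z₁ = 0 ∧ z₂ = 0)
  (hk : ∀ x : F, x = 0 ∨ x = 1)
include hab hk

theorem act6_add (i : Fin 3) (s t : V6) : act6 i (s + t) = act6 i s + act6 i t := by
  funext k
  fin_cases i <;> fin_cases k <;> simp [act6, A0, A1, A2] <;> ring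

set_option maxHeartbeats 2000000 in
/-- The lift of a root element with parameter of value one is an involution. -/
theorem root_sq_one {π : E →* oGroup (minusQ 3 a b)} (hker : π.ker ≤ center E)
    (hrange : π.range = commutator (oGroup (minusQ 3 a b))) {ζ : E} (hζ1 : π ζ = 1) (hζne : ζ ≠ 1)
    (hζ : ∀ z, π z = 1 → z = 1 ∨ z = ζ) (i : Fin 3)
    (w : (Fin 2 ⊕ Fin 2) ⊕ Fin 2 → F) (hw : minusQ 2 a b w = 1) :
    lft π (root a b i w) * lft π (root a b i w) = 1 := by
  classical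
  obtain ⟨ha, hb⟩ := coeff_one hab hk
  have hQ2 := CfsgLib.Quad.minusQ_nondeg hab 2
  have hN2 : 5 ≤ Module.finrank F ((Fin 2 ⊕ Fin 2) ⊕ Fin 2 → F) := by rw [minusQ_finrank]; omega
  have hζc : ζ ∈ center E := hker hζ1
  have hζζ : ζ * ζ = 1 := by
    rcases hζ (ζ * ζ) (by rw [map_mul, hζ1, one_mul]) with h | h
    · exact h
    · exact absurd (mul_eq_left.1 h) hζne
  let r : ((Fin 2 ⊕ Fin 2) ⊕ Fin 2 → F) → E := fun z => lft π (root a b i z)
  have hr : ∀ z, π (r z) = root a b i z := π_root hab hker hrange i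
  have sq_congr : ∀ {x y : E}, π x = π y → x * x = y * y := fun {x y} e => by
    have hk1 : π (y⁻¹ * x) = 1 := by rw [map_mul, map_inv, e, inv_mul_cancel]
    have hkc := hker hk1
    have hk2 : (y⁻¹ * x) * (y⁻¹ * x) = 1 := by
      rcases hζ _ hk1 with h | h <;> rw [h]
      · rw [one_mul]
      · exact hζζ
    calc x * x = y * ((y⁻¹ * x) * y) * (y⁻¹ * x) := by group
      _ = y * (y * (y⁻¹ * x)) * (y⁻¹ * x) := by rw [mem_center_iff.1 hkc y]
      _ = y * y * ((y⁻¹ * x) * (y⁻¹ * x)) := by group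
      _ = y * y := by rw [hk2, mul_one]
  obtain ⟨j, -, hjz, hjc⟩ := exists_sub_embed (m := 2) le_rfl hab i
  -- squares are invariant
  have hinv : ∀ g ∈ commutator (oGroup (minusQ 2 a b)), ∀ z, r (g.1 z) * r (g.1 z) = r z * r z := by
    intro g hg z
    obtain ⟨hjg, hX, -⟩ := hjc g hg
    obtain ⟨e, he⟩ : j g ∈ π.range := hrange ▸ hjg
    have h1 : r (g.1 z) * r (g.1 z) = e * r z * e⁻¹ * (e * r z * e⁻¹) := sq_congr (by
      rw [map_mul, map_mul, map_inv, he, hr, hr, MinusThree.root_conj (j g) i z (g.1 z) hX (hjz g z)])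
    have hc : r z * r z ∈ center E := hker (by
      rw [MonoidHom.mem_ker, map_mul, hr, root_add, self_add_zero, root_zero])
    rw [h1]
    calc e * r z * e⁻¹ * (e * r z * e⁻¹) = e * (r z * r z) * e⁻¹ := by group
      _ = _ := by rw [mem_center_iff.1 hc e, mul_inv_cancel_right]
  by_contra hne
  have hwζ : r w * r w = ζ := (hζ _ (by
    rw [map_mul, hr, root_add, self_add_zero, root_zero])).resolve_left hne
  have hone : ∀ z, minusQ 2 a b z = 1 → r z * r z = ζ := fun z hz => by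
    obtain ⟨g, hg, hgw⟩ := CfsgLib.Quad.exists_siegel_apply_eq hQ2 hN2 (hw.trans hz.symm)
      (by rw [hw]; exact one_ne_zero)
    rw [← hgw, hinv g (CfsgLib.Quad.siegelGroup_le_commutator hQ2 hN2 hg), hwζ]
  have sq_add : ∀ z z', r (z + z') * r (z + z') = ⁅r z', r z⁆ * (r z * r z * (r z' * r z')) :=
    fun z z' => by
      rw [sq_congr (show π (r (z + z')) = π (r z * r z') by rw [map_mul, hr, hr, hr, root_add])]
      have hc := (beta_facts hab hker hrange i z' z z).1
      calc r z * r z' * (r z * r z') = r z * (⁅r z', r z⁆ * (r z * r z')) * r z' := by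
            simp only [commutatorElement_def]; group
        _ = r z * ⁅r z', r z⁆ * (r z * r z' * r z') := by group
        _ = ⁅r z', r z⁆ * r z * (r z * r z' * r z') := by rw [mem_center_iff.1 hc (r z)]
        _ = _ := by group
  set σ := r (emb6 F (bv 0)) * r (emb6 F (bv 0)) with hσ
  have hne6 : ∀ t : V6, fc t t = 0 → t ≠ 0 → emb6 F t ≠ 0 := fun t _ ht e => by
    refine ht (funext fun k => ?_)
    have inj : Function.Injective (κ F) := (κ F).injective
    have e0 := congrFun e (.inl (.inl 0)); have e1 := congrFun e (.inl (.inr 0))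
    have e2 := congrFun e (.inl (.inl 1)); have e3 := congrFun e (.inl (.inr 1))
    have e4 := congrFun e (.inr 0); have e5 := congrFun e (.inr 1)
    simp [-ZMod.castHom_apply, emb6] at e0 e1 e2 e3 e4 e5
    fin_cases k <;> apply inj <;> simp [-ZMod.castHom_apply] <;> assumption
  have hsing : ∀ t : V6, fc t t = 0 → t ≠ 0 → r (emb6 F t) * r (emb6 F t) = σ := fun t h0 ht => by
    obtain ⟨g, hg, hgt⟩ := CfsgLib.Aniso.exists_siegel_singular_two hQ2 hN2
      (hne6 (bv 0) (by decide) (by decide)) (hne6 t h0 ht)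
      (by rw [emb6_Q ha hb, show fc (bv 0) (bv 0) = 0 by decide, map_zero])
      (by rw [emb6_Q ha hb, h0, map_zero])
    rw [← hgt, hinv g (CfsgLib.Quad.siegelGroup_le_commutator hQ2 hN2 hg)]
  have hQ1 : ∀ t : V6, fc t t = 1 → r (emb6 F t) * r (emb6 F t) = ζ := fun t h =>
    hone _ (by rw [emb6_Q ha hb, h, map_one])
  have hσ1 : σ = 1 := by
    have hb1 : ∀ t : V6, fc t t = 0 → t ≠ 0 → fc (bv 4 + t) (bv 4 + t) = 1 →
        ⁅r (emb6 F t), r (emb6 F (bv 4))⁆ * σ = 1 := fun t h0 ht h1 => by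
      have h := sq_add (emb6 F (bv 4)) (emb6 F t)
      rw [← emb6_add, hQ1 _ h1, hQ1 _ (by decide), hsing t h0 ht,
        ← mem_center_iff.1 hζc σ, ← mul_assoc] at h
      exact right_eq_mul.1 h
    have h1 := hb1 (bv 0) (by decide) (by decide) (by decide)
    have h2 := hb1 (bv 2) (by decide) (by decide) (by decide)
    have h3 := hb1 (bv 0 + bv 2) (by decide) (by decide) (by decide)
    rw [emb6_add, (beta_facts hab hker hrange i _ _ _).2, mul_assoc, h2, mul_one] at h3
    rwa [h3, one_mul] at h1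
  have hzero : r (emb6 F 0) * r (emb6 F 0) = 1 := by
    rw [sq_congr (show π (r (emb6 F 0)) = π 1 by rw [hr, emb6_zero, root_zero, map_one]), one_mul]
  have hsq : ∀ t : V6, r (emb6 F t) * r (emb6 F t) = ζ ^ (fc t t).val := fun t => by
    rcases zmod_cases (fc t t) with h | h
    · rw [h, ZMod.val_zero, pow_zero]
      by_cases ht : t = 0
      · rw [ht, hzero]
      · rw [hsing t h ht, hσ1]
    · rw [h, ZMod.val_one, pow_one, hQ1 t h]
  have hcomm : ∀ s t : V6, r (emb6 F t) * r (emb6 F s) =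
      ζ ^ (fc (s + t) (s + t) + fc s s + fc t t).val * (r (emb6 F s) * r (emb6 F t)) := fun s t => by
    have h := sq_add (emb6 F s) (emb6 F t)
    rw [← emb6_add, hsq, hsq, hsq, ← pow_val_add hζζ] at h
    have hc : ⁅r (emb6 F t), r (emb6 F s)⁆ = ζ ^ (fc (s + t) (s + t) + fc s s + fc t t).val := by
      rw [add_assoc (fc (s + t) (s + t)), pow_val_add hζζ, h, mul_assoc, ← pow_val_add hζζ,
        CharTwo.add_self_eq_zero, ZMod.val_zero, pow_zero, mul_one]
    rw [← hc, commutatorElement_def]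
    group
  let ρ : Fin 6 → E := fun k => r (emb6 F (bv k))
  let P : Fin 6 → Fin 6 → ZMod 2 → ZMod 2 → E := fun k l x y => ρ k ^ x.val * ρ l ^ y.val
  let R : V6 → E := fun t => P 0 1 (t 0) (t 1) * P 2 3 (t 2) (t 3) * P 4 5 (t 4) (t 5)
  have hswap : ∀ k l, fc (bv k + bv l) (bv k + bv l) + fc (bv k) (bv k) + fc (bv l) (bv l) = 1 →
      ρ l * ρ k = ζ * (ρ k * ρ l) := fun k l h => by
    have := hcomm (bv k) (bv l)
    rwa [h, ZMod.val_one, pow_one] at this
  have hcm : ∀ k l, fc (bv k + bv l) (bv k + bv l) + fc (bv k) (bv k) + fc (bv l) (bv l) = 0 →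
      Commute (ρ l) (ρ k) := fun k l h => by
    have := hcomm (bv k) (bv l)
    rwa [h, ZMod.val_zero, pow_zero, one_mul] at this
  have hρsq : ∀ k, ρ k * ρ k = ζ ^ (fc (bv k) (bv k)).val := fun k => hsq _
  have hPcomm : ∀ k l k' l', (∀ p ∈ [k, l], ∀ p' ∈ [k', l'],
      fc (bv p + bv p') (bv p + bv p') + fc (bv p) (bv p) + fc (bv p') (bv p') = 0) →
      ∀ x y x' y', Commute (P k' l' x' y') (P k l x y) := fun k l k' l' h x y x' y' =>
    (((hcm k k' (h k (by simp) k' (by simp))).pow_pow _ _).mul_right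
        ((hcm l k' (h l (by simp) k' (by simp))).pow_pow _ _)).mul_left
      (((hcm k l' (h k (by simp) l' (by simp))).pow_pow _ _).mul_right
        ((hcm l l' (h l (by simp) l' (by simp))).pow_pow _ _))
  have cen : ∀ (n : ℕ) (g : E), g * ζ ^ n = ζ ^ n * g := fun n => mem_center_iff.1 (pow_mem hζc n)
  have pull : ∀ (u v w : ℕ) (X Y W : E),
      ζ ^ u * X * (ζ ^ v * Y) * (ζ ^ w * W) = ζ ^ u * (ζ ^ v * ζ ^ w) * (X * Y * W) := by
    intro u v w X Y W
    calc ζ ^ u * X * (ζ ^ v * Y) * (ζ ^ w * W)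
        = ζ ^ u * (X * ζ ^ v) * (Y * ζ ^ w) * W := by group
      _ = ζ ^ u * ζ ^ v * (X * ζ ^ w) * Y * W := by rw [cen v X, cen w Y]; group
      _ = _ := by rw [cen w X]; group
  have hmul : ∀ s t, R s * R t = ζ ^ (fc s t).val * R (s + t) := by
    intro s t
    have p0 := pair_mul hζζ hζc (hρsq 0) (hρsq 1) (hswap 0 1 (by decide)) (s 0) (s 1) (t 0) (t 1)
    have p1 := pair_mul hζζ hζc (hρsq 2) (hρsq 3) (hswap 2 3 (by decide)) (s 2) (s 3) (t 2) (t 3)
    have p2 := pair_mul hζζ hζc (hρsq 4) (hρsq 5) (hswap 4 5 (by decide)) (s 4) (s 5) (t 4) (t 5)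
    have c01 := hPcomm 0 1 2 3 (by decide) (t 0) (t 1) (s 2) (s 3)
    have c02 := hPcomm 0 1 4 5 (by decide) (t 0) (t 1) (s 4) (s 5)
    have c12 := hPcomm 2 3 4 5 (by decide) (t 2) (t 3) (s 4) (s 5)
    calc R s * R t = P 0 1 (s 0) (s 1) * (P 2 3 (s 2) (s 3) * (P 4 5 (s 4) (s 5) * P 0 1 (t 0) (t 1)))
          * P 2 3 (t 2) (t 3) * P 4 5 (t 4) (t 5) := by simp only [R]; group
      _ = P 0 1 (s 0) (s 1) * (P 2 3 (s 2) (s 3) * P 0 1 (t 0) (t 1))
          * (P 4 5 (s 4) (s 5) * P 2 3 (t 2) (t 3)) * P 4 5 (t 4) (t 5) := by rw [c02.eq]; group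
      _ = (P 0 1 (s 0) (s 1) * P 0 1 (t 0) (t 1)) * (P 2 3 (s 2) (s 3) * P 2 3 (t 2) (t 3))
          * (P 4 5 (s 4) (s 5) * P 4 5 (t 4) (t 5)) := by rw [c01.eq, c12.eq]; group
      _ = ζ ^ (s 1 * t 0).val * P 0 1 (s 0 + t 0) (s 1 + t 1)
          * (ζ ^ (s 3 * t 2).val * P 2 3 (s 2 + t 2) (s 3 + t 3))
          * (ζ ^ (s 5 * t 4 + s 4 * t 4 + s 5 * t 5).val * P 4 5 (s 4 + t 4) (s 5 + t 5)) := by
        simp only [P]
        rw [p0, p1, p2]
        simp [show fc (bv 0) (bv 0) = 0 by decide, show fc (bv 1) (bv 1) = 0 by decide,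
          show fc (bv 2) (bv 2) = 0 by decide, show fc (bv 3) (bv 3) = 0 by decide,
          show fc (bv 4) (bv 4) = 1 by decide, show fc (bv 5) (bv 5) = 1 by decide]
      _ = ζ ^ (s 1 * t 0).val * (ζ ^ (s 3 * t 2).val * ζ ^ (s 5 * t 4 + s 4 * t 4 + s 5 * t 5).val) *
          (P 0 1 (s 0 + t 0) (s 1 + t 1) * P 2 3 (s 2 + t 2) (s 3 + t 3)
            * P 4 5 (s 4 + t 4) (s 5 + t 5)) := pull _ _ _ _ _ _
      _ = _ := by
        rw [← pow_val_add hζζ, ← pow_val_add hζζ]
        simp only [R, Pi.add_apply, fc, add_assoc]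
  have hπR : ∀ t, π (R t) = root a b i (emb6 F t) := fun t => by
    have hp : ∀ k (x : ZMod 2), π (ρ k ^ x.val) = root a b i (emb6 F (x • bv k)) := fun k x => by
      rcases zmod_cases x with rfl | rfl <;> simp [ρ, hr, emb6_zero, root_zero, ZMod.val_one]
    simp only [R, P, map_mul, hp, root_add, ← emb6_add]
    rw [(by decide +kernel : ∀ t : V6, t 0 • bv 0 + t 1 • bv 1 + (t 2 • bv 2 + t 3 • bv 3) +
      (t 4 • bv 4 + t 5 • bv 5) = t) t]
  -- the sign functions
  have hx : ∀ k : Fin 3, ∃ x : E, π x = j (inv6 a b k) := fun k =>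
    (hrange ▸ (hjc _ (inv6_spec hab hk k).1).1 : j (inv6 a b k) ∈ π.range)
  choose x hx using hx
  have hex : ∀ (k : Fin 3) t, ∃ c : ZMod 2, x k * R t * (x k)⁻¹ = ζ ^ c.val * R (act6 k t) :=
    fun k t => by
    have e : π (x k * R t * (x k)⁻¹ * (R (act6 k t))⁻¹) = 1 := by
      rw [map_mul, map_mul, map_mul, map_inv, map_inv, hx, hπR, hπR, MinusThree.root_conj (j (inv6 a b k)) i _ _
        (hjc _ (inv6_spec hab hk k).1).2.1 ((hjz _ _).trans (by rw [(inv6_spec hab hk k).2])),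
        mul_inv_cancel]
    rcases hζ _ e with h | h
    · exact ⟨0, by rw [ZMod.val_zero, pow_zero, one_mul]; exact mul_inv_eq_one.1 h⟩
    · exact ⟨1, by rw [ZMod.val_one, pow_one]; exact mul_inv_eq_iff_eq_mul.1 h⟩
  choose c hc using hex
  have hval : ∀ k l : ZMod 2, ζ ^ k.val = ζ ^ l.val → k = l := fun k l h => by
    rcases zmod_cases k with rfl | rfl <;> rcases zmod_cases l with rfl | rfl <;>
      simp [ZMod.val_one, hζne, Ne.symm hζne] at h ⊢
  have hlin : ∀ k s t, c k (s + t) = c k s + c k t + fc (act6 k s) (act6 k t) + fc s t := by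
    intro k s t
    have h : x k * (R s * R t) * (x k)⁻¹ = x k * R s * (x k)⁻¹ * (x k * R t * (x k)⁻¹) := by group
    rw [hmul, ← mul_assoc (x k), cen, mul_assoc (ζ ^ (fc s t).val), mul_assoc (ζ ^ (fc s t).val),
      hc, hc, hc] at h
    have e : ζ ^ (c k s).val * R (act6 k s) * (ζ ^ (c k t).val * R (act6 k t)) =
        ζ ^ (c k s + c k t + fc (act6 k s) (act6 k t)).val * R (act6 k s + act6 k t) := by
      rw [pow_val_add hζζ, pow_val_add hζζ]
      calc ζ ^ (c k s).val * R (act6 k s) * (ζ ^ (c k t).val * R (act6 k t))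
          = ζ ^ (c k s).val * (R (act6 k s) * ζ ^ (c k t).val) * R (act6 k t) := by group
        _ = ζ ^ (c k s).val * ζ ^ (c k t).val * (R (act6 k s) * R (act6 k t)) := by rw [cen]; group
        _ = _ := by rw [hmul]; group
    rw [e, act6_add hab hk, ← mul_assoc, ← pow_val_add hζζ, mul_left_inj] at h
    linear_combination (norm := (ring_nf; reduce_mod_char)) hval _ _ h
  have hstep : ∀ k (n : ZMod 2) t,
      x k * (ζ ^ n.val * R t) * (x k)⁻¹ = ζ ^ (n + c k t).val * R (act6 k t) := fun k n t => by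
    rw [← mul_assoc (x k), cen, mul_assoc (ζ ^ n.val), mul_assoc (ζ ^ n.val), hc, ← mul_assoc,
      ← pow_val_add hζζ]
  have hword : ∀ l : List (Fin 3), (∀ t, l.foldr act6 t = t) → ∀ t,
      (l.map x).prod * R t * ((l.map x).prod)⁻¹ = R t := fun l hl t => by
    have hπ : π (l.map x).prod = 1 := by
      rw [map_list_prod, List.map_map, show (π ∘ x) = j ∘ inv6 a b from funext hx,
        ← List.map_map, ← map_list_prod, act6_compose hab hk hl, map_one]
    rw [← mem_center_iff.1 (hker hπ) (R t), mul_inv_cancel_right]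
  have h1 : ∀ t, R t = ζ ^ (0 : ZMod 2).val * R t := fun t => by rw [ZMod.val_zero, pow_zero, one_mul]
  have hact : act6 0 = A0 ∧ act6 1 = A1 ∧ act6 2 = A2 := ⟨rfl, rfl, rfl⟩
  refine no_cocycle (c 0) (c 1) (c 2) (hlin 0) (hlin 1) (hlin 2) (fun t => ?_) (fun t => ?_) fun t => ?_
  · have h := hword [2, 2] (by decide +kernel) t
    simp only [List.map_cons, List.map_nil, List.prod_cons, List.prod_nil, mul_one, mul_inv_rev] at h
    have e : x 2 * x 2 * R t * ((x 2)⁻¹ * (x 2)⁻¹) = x 2 * (x 2 * R t * (x 2)⁻¹) * (x 2)⁻¹ := by group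
    rw [e, h1 t, hstep, hstep] at h
    rw [show act6 2 (act6 2 t) = t from (by decide +kernel : ∀ t, act6 2 (act6 2 t) = t) t,
      mul_left_inj] at h
    have := hval _ _ h
    rw [zero_add] at this
    simp only [hact.1, hact.2.1, hact.2.2] at this
    exact this
  · have h := hword [1, 0, 2, 1, 2, 0] (by decide +kernel) t
    simp only [List.map_cons, List.map_nil, List.prod_cons, List.prod_nil, mul_one, mul_inv_rev] at h
    have e : x 1 * (x 0 * (x 2 * (x 1 * (x 2 * x 0)))) * R t *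
        ((x 0)⁻¹ * (x 2)⁻¹ * (x 1)⁻¹ * (x 2)⁻¹ * (x 0)⁻¹ * (x 1)⁻¹) =
        x 1 * (x 0 * (x 2 * (x 1 * (x 2 * (x 0 * R t * (x 0)⁻¹) * (x 2)⁻¹) * (x 1)⁻¹) * (x 2)⁻¹)
          * (x 0)⁻¹) * (x 1)⁻¹ := by group
    rw [e, h1 t, hstep, hstep, hstep, hstep, hstep, hstep] at h
    rw [show act6 1 (act6 0 (act6 2 (act6 1 (act6 2 (act6 0 t))))) = t from
      (by decide +kernel : ∀ t, act6 1 (act6 0 (act6 2 (act6 1 (act6 2 (act6 0 t))))) = t) t,
      mul_left_inj] at h
    have := hval _ _ h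
    rw [zero_add] at this
    simp only [hact.1, hact.2.1, hact.2.2] at this
    exact this
  · have h := hword [1, 2, 0, 2, 1, 0] (by decide +kernel) t
    simp only [List.map_cons, List.map_nil, List.prod_cons, List.prod_nil, mul_one, mul_inv_rev] at h
    have e : x 1 * (x 2 * (x 0 * (x 2 * (x 1 * x 0)))) * R t *
        ((x 0)⁻¹ * (x 1)⁻¹ * (x 2)⁻¹ * (x 0)⁻¹ * (x 2)⁻¹ * (x 1)⁻¹) =
        x 1 * (x 2 * (x 0 * (x 2 * (x 1 * (x 0 * R t * (x 0)⁻¹) * (x 1)⁻¹) * (x 2)⁻¹) * (x 0)⁻¹)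
          * (x 2)⁻¹) * (x 1)⁻¹ := by group
    rw [e, h1 t, hstep, hstep, hstep, hstep, hstep, hstep] at h
    rw [show act6 1 (act6 2 (act6 0 (act6 2 (act6 1 (act6 0 t))))) = t from
      (by decide +kernel : ∀ t, act6 1 (act6 2 (act6 0 (act6 2 (act6 1 (act6 0 t))))) = t) t,
      mul_left_inj] at h
    have := hval _ _ h
    rw [zero_add] at this
    simp only [hact.1, hact.2.1, hact.2.2] at this
    exact this

end CfsgLib.DMult.MinusTwoExc
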