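/-
Perfect central extensions of `Ω₈⁻(2)` are trivial.
-/
import Cfsg.Agent.DMult.MinusTwoSquare
import Cfsg.Agent.DMult.MinusWitt
import Cfsg.Agent.SpSixMult.OrthCommute

set_option autoImplicit false
set_option linter.unusedSectionVars false

namespace CfsgLib.DMult

open Subgroup QuadraticMap
open CfsgLib.Forms CfsgLib.Aniso
open CfsgLib.Quad (minusQ plusQ oGroup siegel)
open CfsgLib.SpPres (Spn)
open CfsgLib.DMult.MinusPoint (Pt v0 embL projL equivSp toSp)

universe u

variable {F : Type u} [Field F] [CharP F 2] [Finite F] {a b : F}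

/-- The transvection as the image of a Siegel transformation. -/
theorem toSp_siegel (hab : ∀ z₁ z₂ : F, z₁ ^ 2 + a * z₁ * z₂ + b * z₂ ^ 2 = 0 → z₁ = 0 ∧ z₂ = 0)
    {z : Fin 3 ⊕ Fin 3 → F} (hz : plusQ 3 z = 0) :
    ∃ hm : siegel (minusQ 3 a b) (embL F 3 z) (v0 F 3) ∈ Pt a b 3,
      toSp hab ⟨_, hm⟩ = CfsgLib.SpMult.tr z := by
  have hQe : minusQ 3 a b (embL F 3 z) = 0 := by rw [MinusPoint.Q_emb, hz]
  have he1 : embL F 3 z (Sum.inr 1) = 0 := by simp [embL]
  have hea : polar (minusQ 3 a b) (embL F 3 z) (v0 F 3) = 0 := by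
    rw [MinusPoint.polar_v0, he1, mul_zero]
  refine ⟨siegel_mem_SG ((MinusPoint.mem_pv hab).2 he1) ((MinusPoint.mem_pv hab).2 (by simp [v0]))
    hQe hea, ?_⟩
  refine Eq.trans (b := CfsgLib.Symp.tv z 1) (CfsgLib.Symp.symp_ext fun x => ?_) ?_
  · rw [MinusPoint.toSp_smul, MinusPoint.act_apply, CfsgLib.Quad.siegel_apply hQe hea,
      CfsgLib.Symp.tv_smul, ← MinusPoint.plus_eq_form]
    have h1 : polar (minusQ 3 a b) (embL F 3 x) (embL F 3 z) = polar (plusQ 3) x z := by
      rw [MinusPoint.polar_eq, MinusPoint.proj_emb, MinusPoint.proj_emb]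
      simp [embL]
    have h2 : polar (minusQ 3 a b) (embL F 3 x) (v0 F 3) = 0 := by
      rw [MinusPoint.polar_v0]; simp [embL]
    rw [h1, h2, MinusPoint.Q_v0, zero_add, map_sub, map_add, map_smul, map_smul, MinusPoint.proj_v0,
      MinusPoint.proj_emb, MinusPoint.proj_emb, smul_zero, add_zero, sub_eq_add_neg, ← neg_smul,
      CharTwo.neg_eq]
  · refine CfsgLib.SpPres.αSp_injective (LinearEquiv.ext fun x => ?_)
    rw [CfsgLib.SpMult.α_tr]
    refine (CfsgLib.Symp.tv_smul z 1 x).trans ?_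
    rw [one_mul]
    congr 2
    rw [CfsgLib.SpPres.bl_apply]
    simp [CfsgLib.Symp.form, dotProduct, Matrix.mulVec, Matrix.J, Fintype.sum_sum_type,
      Fin.sum_univ_three, Matrix.fromBlocks, Matrix.one_apply, CharTwo.sub_eq_add, CharTwo.neg_eq]
    ring

omit [Finite F] in
/-- A central square is unchanged by a central involution. -/
theorem sq_congr_two {E G : Type*} [Group E] [Group G] {π : E →* G} (hker : π.ker ≤ center E)
    {ζ : E} (hζ : ∀ z, π z = 1 → z = 1 ∨ z = ζ) (hζζ : ζ * ζ = 1) {x y : E} (e : π x = π y) :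
    x * x = y * y := by
  have hk1 : π (y⁻¹ * x) = 1 := by rw [map_mul, map_inv, e, inv_mul_cancel]
  have hk2 : (y⁻¹ * x) * (y⁻¹ * x) = 1 := by
    rcases hζ _ hk1 with h | h <;> rw [h]
    · rw [one_mul]
    · exact hζζ
  calc x * x = y * ((y⁻¹ * x) * y) * (y⁻¹ * x) := by group
    _ = y * (y * (y⁻¹ * x)) * (y⁻¹ * x) := by rw [mem_center_iff.1 (hker hk1) y]
    _ = y * y * ((y⁻¹ * x) * (y⁻¹ * x)) := by group
    _ = y * y := by rw [hk2, mul_one]

set_option maxHeartbeats 1000000 in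
/-- `Ω₈⁻(2)` has no proper perfect central extension. -/
theorem inj_minus_two_exc (h2c : Nat.card F = 2)
    (hab : ∀ z₁ z₂ : F, z₁ ^ 2 + a * z₁ * z₂ + b * z₂ ^ 2 = 0 → z₁ = 0 ∧ z₂ = 0)
    {E : Type u} [Group E] [Finite E]
    (π : E →* oGroup (minusQ 3 a b)) (hker : π.ker ≤ center E)
    (hrange : π.range = commutator (oGroup (minusQ 3 a b)))
    (hperf : commutator E = ⊤) : Function.Injective π := by
  classical
  have := Fintype.ofFinite F
  have hF : Fintype.card F = 2 := by rw [← Nat.card_eq_fintype_card, h2c]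
  have hk := CfsgLib.SpMult.cases_of_card_two hF
  have hQ := CfsgLib.Quad.minusQ_nondeg hab 3
  have hN : Module.finrank F ((Fin 3 ⊕ Fin 3) ⊕ Fin 2 → F) = 8 := by rw [minusQ_finrank]
  set D := SG (minusQ 3 a b) (pv (minusQ 3 a b) (v0 F 3)) with hD
  obtain ⟨X, hXp, hXmap⟩ := exists_perfect_over π hker (MinusPoint.pt_perfect hab le_rfl)
    (SG_le_range hQ (by omega) hrange _)
  have hperfX : commutator X = ⊤ := by
    refine map_injective X.subtype_injective ?_
    rw [_root_.commutator_def, map_commutator, ← MonoidHom.range_eq_map, range_subtype, hXp]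
  let e := equivSp (m := 3) hab (by norm_num)
  let σ : X →* Spn F 3 := e.toMonoidHom.comp
    ((π.comp X.subtype).codRestrict (Pt a b 3) fun x => hXmap.le (mem_map_of_mem π x.2))
  have hσk : ∀ z, z ∈ σ.ker ↔ π z.1 = 1 := fun z => by
    simp only [σ, MonoidHom.mem_ker, MonoidHom.comp_apply, MulEquiv.coe_toMonoidHom]
    exact e.map_eq_one_iff.trans Subtype.ext_iff
  have hσs : Function.Surjective σ := e.surjective.comp fun g => by
    obtain ⟨x, hx, ex⟩ := hXmap.ge g.2
    exact ⟨⟨x, hx⟩, Subtype.ext ex⟩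
  have hσc : σ.ker ≤ center X := fun z hz => mem_center_iff.2 fun y => Subtype.ext
    (mem_center_iff.1 (hker ((hσk z).1 hz)) y.1)
  -- at most two elements
  have hZ : center (Spn F 3) = ⊥ := by
    rw [← Subgroup.card_eq_one, CfsgLib.Symp.card_center, Nat.card_eq_fintype_card, hF]
    rfl
  let eP : Spn F 3 ≃* Cfsg.PSp 3 F := MulEquiv.ofBijective (QuotientGroup.mk' (center (Spn F 3)))
    ⟨(MonoidHom.ker_eq_bot_iff _).1 (by rw [QuotientGroup.ker_mk', hZ]), QuotientGroup.mk'_surjective _⟩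
  have hkP : (eP.toMonoidHom.comp σ).ker = σ.ker := MonoidHom.ker_mulEquiv_comp σ eP
  obtain ⟨φ, hφ⟩ := (CfsgLib.SpSixMult.hasCyclicSchurMultiplier_sp6 hF).2 X
    (eP.toMonoidHom.comp σ)
    ⟨eP.surjective.comp hσs, hkP.le.trans hσc, by rw [hperfX]; exact le_top⟩
  set ζ : E := (φ (Multiplicative.ofAdd 1)).1.1 with hζdef
  have hζ1 : π ζ = 1 := (hσk _).1 (hkP ▸ (φ (Multiplicative.ofAdd 1)).2)
  have hζX : ∀ z ∈ X, π z = 1 → z = 1 ∨ z = ζ := fun z hz hz1 => by
    obtain ⟨k, hk'⟩ := hφ ⟨⟨z, hz⟩, hkP.ge ((hσk ⟨z, hz⟩).2 hz1)⟩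
    have hz' : z = (φ k).1.1 := by rw [hk']
    rcases (by decide : ∀ k : Multiplicative (ZMod 2), k = 1 ∨ k = Multiplicative.ofAdd 1) k with rfl | rfl
    · exact Or.inl (by rw [hz', map_one]; rfl)
    · exact Or.inr hz'
  have hζmemX : ζ ∈ X := (φ (Multiplicative.ofAdd 1)).1.2
  -- modulo the kernel of the stabiliser
  set C := π.ker ⊓ X with hC
  have hCN : C.Normal := ⟨fun z hz g => by
    rw [mem_center_iff.1 (hker hz.1) g, mul_inv_cancel_right]; exact hz⟩
  let π' : E ⧸ C →* oGroup (minusQ 3 a b) := QuotientGroup.lift C π inf_le_left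
  have hker' : π'.ker ≤ center (E ⧸ C) := by
    intro z hz
    obtain ⟨x, rfl⟩ := QuotientGroup.mk'_surjective C z
    refine mem_center_iff.2 fun y => ?_
    obtain ⟨y, rfl⟩ := QuotientGroup.mk'_surjective C y
    rw [← map_mul, ← map_mul, mem_center_iff.1 (hker (show π x = 1 from hz)) y]
  have hrange' : π'.range = commutator (oGroup (minusQ 3 a b)) := by
    rw [← hrange]
    ext g
    constructor
    · rintro ⟨z, rfl⟩
      obtain ⟨x, rfl⟩ := QuotientGroup.mk'_surjective C z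
      exact ⟨x, rfl⟩
    · rintro ⟨x, rfl⟩
      exact ⟨QuotientGroup.mk' C x, rfl⟩
  have hperf' : commutator (E ⧸ C) = ⊤ := by
    rw [← Schur.map_commutator_of_surjective _ (QuotientGroup.mk'_surjective C), hperf,
      map_top_of_surjective _ (QuotientGroup.mk'_surjective C)]
  have hsec0 : ∀ k : Pt a b 3, ∃ x ∈ X, π x = k := fun k => (hXmap.ge k.2 : k.1 ∈ X.map π)
  choose τ hτX hτ using hsec0
  let se : Pt a b 3 →* E ⧸ C := MonoidHom.mk' (fun k => QuotientGroup.mk' C (τ k)) fun x y => by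
    show QuotientGroup.mk' C (τ (x * y)) = QuotientGroup.mk' C (τ x) * QuotientGroup.mk' C (τ y)
    rw [← map_mul]
    refine (QuotientGroup.eq).2 ⟨?_, X.mul_mem (X.inv_mem (hτX _)) (X.mul_mem (hτX _) (hτX _))⟩
    show π _ = 1
    rw [map_mul, map_inv, map_mul, hτ, hτ, hτ, Subgroup.coe_mul, inv_mul_cancel]
  have hene : minusQ 3 a b (v0 F 3) ≠ 0 := by rw [MinusPoint.Q_v0]; exact one_ne_zero
  have hinj : Function.Injective π' := Aniso.Even.injective_of_sections hQ (by omega)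
    (Or.inr (Or.inr fun T hT => by
      have := finrank_singular_le hab hT
      omega)) (one_ne_zero (α := F))
    (fun v hv => (MinusPoint.point_facts hab le_rfl hv).1)
    (fun v x y hv => (MinusPoint.point_facts hab le_rfl hv).2.1 x y) π' hker' hrange' hperf'
    fun v hv => by
    obtain ⟨h, hh, hev⟩ := CfsgLib.Quad.exists_siegel_apply_eq hQ (by omega)
      ((MinusPoint.Q_v0).trans hv.symm) hene
    obtain ⟨g, hg⟩ : h ∈ π.range := by
      rw [hrange, ← CfsgLib.Quad.siegelGroup_eq_commutator hQ (by omega)]; exact hh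
    have hmap : ∀ k : SG (minusQ 3 a b) (pv (minusQ 3 a b) v), h⁻¹ * k.1 * h ∈ Pt a b 3 := fun k => by
      have := SG_conj (g := h⁻¹) (W' := pv (minusQ 3 a b) (v0 F 3)) (fun w hw => mem_perp_single.2 (by
        have h1 := mem_perp_single.1 hw
        rw [← hev, ← h.1.apply_symm_apply w, CfsgLib.Quad.polar_oGroup] at h1
        exact h1)) k.2
      rwa [inv_inv] at this
    let r : SG (minusQ 3 a b) (pv (minusQ 3 a b) v) →* Pt a b 3 :=
      MonoidHom.mk' (fun k => ⟨h⁻¹ * k.1 * h, hmap k⟩) fun x y => Subtype.ext (by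
        show h⁻¹ * (x.1 * y.1) * h = h⁻¹ * x.1 * h * (h⁻¹ * y.1 * h)
        group)
    refine ⟨(MulAut.conj (QuotientGroup.mk' C g)).toMonoidHom.comp (se.comp r), fun k => ?_⟩
    show π (g * τ (r k) * g⁻¹) = k.1
    rw [map_mul, map_mul, map_inv, hτ, hg]
    show h * (h⁻¹ * k.1 * h) * h⁻¹ = k.1
    group
  have hζall : ∀ z, π z = 1 → z = 1 ∨ z = ζ := fun z hz => by
    have hzC : z ∈ C := (QuotientGroup.eq_one_iff z).1 (hinj (show π' (QuotientGroup.mk' C z) = π' 1 by
      rw [map_one]; exact hz))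
    exact hζX z hzC.2 hz
  by_contra hni
  have hζne : ζ ≠ 1 := fun h => hni ((injective_iff_map_eq_one π).2 fun z hz =>
    (hζall z hz).elim id fun h' => h'.trans h)
  have hζζ : ζ * ζ = 1 := by
    rcases hζall (ζ * ζ) (by rw [map_mul, hζ1, one_mul]) with h | h
    · exact h
    · exact absurd (mul_eq_left.1 h) hζne
  -- two orthogonal transvections
  set z1 : Fin 3 ⊕ Fin 3 → F := CfsgLib.SpSixMult.vec (CfsgLib.SpSixMult.root 4) with hz1
  set z2 : Fin 3 ⊕ Fin 3 → F := CfsgLib.SpSixMult.vec (CfsgLib.SpSixMult.root 1) with hz2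
  have ez1 : z1 = Pi.single (Sum.inl 1) 1 := by
    funext k
    rcases k with k | k <;> fin_cases k <;>
      simp [hz1, CfsgLib.SpSixMult.vec, CfsgLib.SpSixMult.root, CfsgLib.SpSixMult.coord]
  have ez2 : z2 = Pi.single (Sum.inl 1) 1 + Pi.single (Sum.inl 2) 1 := by
    funext k
    rcases k with k | k <;> fin_cases k <;>
      simp [hz2, CfsgLib.SpSixMult.vec, CfsgLib.SpSixMult.root, CfsgLib.SpSixMult.coord]
  have hq1 : plusQ 3 z1 = 0 := by
    rw [ez1, CfsgLib.Quad.plusQ_coe]; simp [Cfsg.quadFormPlus, Fin.sum_univ_three]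
  have hq2 : plusQ 3 z2 = 0 := by
    rw [ez2, CfsgLib.Quad.plusQ_coe]; simp [Cfsg.quadFormPlus, Fin.sum_univ_three]
  obtain ⟨hm1, ht1⟩ := toSp_siegel hab hq1
  obtain ⟨hm2, ht2⟩ := toSp_siegel hab hq2
  obtain ⟨Tu, hTuX, hTu⟩ := hXmap.ge hm1
  obtain ⟨Tw, hTwX, hTw⟩ := hXmap.ge hm2
  -- their product is a root element
  set w : (Fin 2 ⊕ Fin 2) ⊕ Fin 2 → F :=
    Pi.single (Sum.inr 0) 1 + Pi.single (Sum.inl (Sum.inl 1)) 1 with hw
  have hwQ : minusQ 2 a b w = 1 := by
    rw [CfsgLib.Quad.minusQ_coe]; simp [hw, Cfsg.quadFormMinus, Fin.sum_univ_two]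
  have hs21 : (2 : Fin 3).succAbove 1 = 1 := by decide
  have hskip : skipMap (m := 2) 2 w = v0 F 3 + embL F 3 z1 := by
    funext k
    rcases k with (k | k) | k <;> fin_cases k <;>
      simp [skipMap, hw, v0, embL, ez1, Fin.insertNth, Fin.succAboveCases]
  have hsum : embL F 3 z2 = embL F 3 z1 + pairX F (2 : Fin 3) := by
    rw [ez2, ← ez1, map_add]
    congr 1
    funext k
    rcases k with (k | k) | k <;> simp [embL, pairX, Pi.single_apply]
  have hπp : π (Tu * Tw) = MinusThree.root a b 2 w := by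
    rw [map_mul, hTu, hTw, MinusThree.root, hskip, hsum]
    set U1 := embL F 3 z1 with hU1
    set P := pairX F (2 : Fin 3) with hP
    set Q := minusQ 3 a b with hQdef
    have hP0 : Q P = 0 := (polar_pair (m := 2) 2 a b).2.2.1
    have hU0 : Q U1 = 0 := by rw [hU1, hQdef, MinusPoint.Q_emb, hq1]
    have hUP : polar Q U1 P = 0 := by
      rw [polar_comm, (polar_pair (m := 2) 2 a b).1]; simp [hU1, embL, ez1]
    have hUv : polar Q U1 (v0 F 3) = 0 := by rw [MinusPoint.polar_v0]; simp [hU1, embL]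
    have hPv : polar Q P (v0 F 3) = 0 := by rw [MinusPoint.polar_v0]; simp [hP, pairX]
    have hvv : Q (v0 F 3) = 1 := MinusPoint.Q_v0
    have hUPe : Q (U1 + P) = 0 := by rw [quad_add, hU0, hP0, hUP]; simp
    have hUPv : polar Q (U1 + P) (v0 F 3) = 0 := by rw [polar_add_left, hUv, hPv, add_zero]
    have hPa : polar Q P (v0 F 3 + U1) = 0 := by rw [polar_add_right, hPv, polar_comm Q P U1, hUP, add_zero]
    have h2 : (2 : F) = 0 := CharTwo.two_eq_zero
    refine Subtype.ext (LinearEquiv.ext fun x => ?_)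
    show (siegel Q U1 (v0 F 3)).1 ((siegel Q (U1 + P) (v0 F 3)).1 x) = _
    rw [CfsgLib.Quad.siegel_apply hUPe hUPv, CfsgLib.Quad.siegel_apply hU0 hUv,
      CfsgLib.Quad.siegel_apply hP0 hPa]
    simp only [polar_sub_left, polar_add_left, polar_add_right, polar_smul_left, polar_self, hU0,
      hP0, hUP, polar_comm Q P U1, hUv, hPv, polar_comm Q (v0 F 3) U1, hvv, quad_add, smul_eq_mul,
      mul_zero, smul_zero, add_zero, sub_zero, zero_add, mul_one]
    match_scalars <;> ring_nf <;> simp [h2, show (4 : F) = 0 by linear_combination 2 * h2,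
      show (3 : F) = 1 by linear_combination h2, CharTwo.neg_eq, CharTwo.sub_eq_add]
  have hr2 := MinusTwoExc.root_sq_one hab hk hker hrange hζ1 hζne hζall 2 w hwQ
  have hprod : Tu * Tw * (Tu * Tw) = 1 := by
    rw [sq_congr_two hker hζall hζζ (hπp.trans (MinusThree.π_root hab hker hrange 2 w).symm), hr2]
  -- the two squares agree
  have hs1 : π (Tu * Tu) = 1 := by
    rw [map_mul, hTu]
    have h := congrArg Subtype.val (e.symm.map_mul (toSp hab ⟨_, hm1⟩) (toSp hab ⟨_, hm1⟩))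
    rw [show e.symm (toSp hab ⟨_, hm1⟩) = ⟨_, hm1⟩ from e.symm_apply_apply _] at h
    rw [ht1, CfsgLib.SpMult.tr_sq, map_one] at h
    exact h.symm
  obtain ⟨g, hg, hgx⟩ := MinusPoint.pt_move hab (by norm_num)
    (by rw [MinusPoint.Q_emb, hq1] : minusQ 3 a b (embL F 3 z1) = 0)
    (by rw [MinusPoint.Q_emb, hq2] : minusQ 3 a b (embL F 3 z2) = 0)
    (fun h => by simpa [embL, ez1] using congrFun h (Sum.inl (Sum.inl 1)))
    (fun h => by simpa [embL, ez2] using congrFun h (Sum.inl (Sum.inl 1)))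
    (by rw [polar_comm, MinusPoint.polar_v0]; simp [embL])
    (by rw [polar_comm, MinusPoint.polar_v0]; simp [embL])
  obtain ⟨G, hG⟩ : g ∈ π.range := SG_le_range hQ (by omega) hrange _ hg
  have hsq : Tw * Tw = Tu * Tu := by
    rw [sq_congr_two hker hζall hζζ (show π Tw = π (G * Tu * G⁻¹) by
      rw [map_mul, map_mul, map_inv, hG, hTu, hTw,
        CfsgLib.Quad.siegel_conj g (by rw [MinusPoint.Q_emb, hq1])
          (by rw [MinusPoint.polar_v0]; simp [embL]), hgx, MinusPoint.fix_v0 hab hg])]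
    calc G * Tu * G⁻¹ * (G * Tu * G⁻¹) = G * (Tu * Tu) * G⁻¹ := by group
      _ = Tu * Tu := by rw [mem_center_iff.1 (hker hs1) G, mul_inv_cancel_right]
  have hcomm : Tu * Tw = Tw * Tu := by
    set s := Tu * Tu with hs
    have hss : s * s = 1 := by
      rcases hζall s hs1 with h | h <;> rw [h]
      · rw [one_mul]
      · exact hζζ
    have hsc := mem_center_iff.1 (hker hs1)
    symm
    calc Tw * Tu = Tu⁻¹ * (Tu * Tw * (Tu * Tw)) * Tw⁻¹ := by group
      _ = Tu⁻¹ * Tw⁻¹ := by rw [hprod, mul_one]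
      _ = (Tu * s) * (Tw * s) := by
        rw [inv_eq_of_mul_eq_one_right (show Tu * (Tu * s) = 1 by rw [← mul_assoc, ← hs, hss]),
          inv_eq_of_mul_eq_one_right (show Tw * (Tw * s) = 1 by rw [← mul_assoc, hsq, hss])]
      _ = Tu * (s * Tw) * s := by group
      _ = Tu * Tw * (s * s) := by rw [← hsc Tw]; group
      _ = Tu * Tw := by rw [hss, mul_one]
  -- the stabiliser splits
  have hσT : ∀ (T : E) (hT : T ∈ X) {z : Fin 3 ⊕ Fin 3 → F}
      (hm : siegel (minusQ 3 a b) (embL F 3 z) (v0 F 3) ∈ Pt a b 3),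
      π T = siegel (minusQ 3 a b) (embL F 3 z) (v0 F 3) → σ ⟨T, hT⟩ = toSp hab ⟨_, hm⟩ :=
    fun T hT z hm h => congrArg (toSp hab) (Subtype.ext h)
  obtain ⟨φ', hφs, hφg⟩ := CfsgLib.SpSixMult.exists_phi (F := F) hk
  have hgen : Subgroup.closure (Set.range (CfsgLib.SpSixMult.gen (F := F))) = ⊤ := by
    have hs : Subgroup.closure (Set.range CfsgLib.SpSixMult.s) = ⊤ :=
      CoxeterMatrix.E₇.toCoxeterSystem.subgroup_closure_range_simple
    have := congrArg (Subgroup.map φ') hs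
    rw [MonoidHom.map_closure, map_top_of_surjective φ' hφs, ← Set.range_comp] at this
    refine Eq.trans ?_ this
    exact congrArg Subgroup.closure (congrArg Set.range (funext fun i => (hφg i).symm))
  have hinjσ := CfsgLib.SpSixMult.injective_of_orth_commute hσs hσc hperfX
    (CfsgLib.SpSixMult.card_sp6 hk) CfsgLib.SpSixMult.gen hgen
    CfsgLib.SpSixMult.gen_sq CfsgLib.SpSixMult.gen_comm CfsgLib.SpSixMult.gen_braid
    ⟨⟨Tu, hTuX⟩, ⟨Tw, hTwX⟩, (hσT Tu hTuX hm1 hTu).trans ht1, (hσT Tw hTwX hm2 hTw).trans ht2,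
      Subtype.ext hcomm⟩
  exact hζne (congrArg Subtype.val (hinjσ (show σ ⟨ζ, hζmemX⟩ = σ 1 by
    rw [map_one]; exact (hσk ⟨ζ, hζmemX⟩).2 hζ1)))

end CfsgLib.DMult
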